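import Groth.Agent.RefHullLib.Divisor
import Mathlib

/-!
# Sum and opposite of divisors: the reflexive tensor product and the dual
-/

set_option autoImplicit false
set_option backward.isDefEq.respectTransparency.types false
universe u

open CategoryTheory AlgebraicGeometry IsLocalRing
open Groth.Agent.Coherent Groth.Agent.PicLib Groth.Agent.AmpleLib

namespace Groth.Agent.RefHullLib

variable {X : Scheme.{u}} [IsIntegral X] [IsLocallyNoetherian X] {F G : X.Modules}

theorem isCoh_tensorMod (hF : Coh.IsCoh F) (hG : Coh.IsCoh G) : Coh.IsCoh (CohB1.tensorMod F G) := by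
  haveI : Coh.IsQCoh F := hF.1
  haveI : Coh.IsQCoh G := hG.1
  exact ⟨isQCoh_tensorMod F G, isFT_tensorMod F G hF.2 hG.2⟩

/-- The reflexive tensor product of rank one reflexive modules, with a product of rational sections. -/
theorem exists_ddual_mul_section (hX : Pi1.IsNormalScheme X) (hF : RefHull.IsRef1 F) (hG : RefHull.IsRef1 G)
    {s : F.presheaf.stalk (genericPoint X)} (hs : s ≠ 0) {t : G.presheaf.stalk (genericPoint X)} (ht : t ≠ 0) :
    RefHull.IsRef1 (RefHull.ddual (CohB1.tensorMod F G)) ∧
      ∃ w : (RefHull.ddual (CohB1.tensorMod F G)).presheaf.stalk (genericPoint X), w ≠ 0 ∧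
        ∀ x : X, Order.coheight x = 1 →
          sOrd (RefHull.ddual (CohB1.tensorMod F G)) x w = sOrd F x s + sOrd G x t := by
  obtain ⟨w, hw0, hw, hwx⟩ := exists_mul_section hF.1.1 hG.1.1 hF.2.2 hG.2.2 hs ht
  have hT := isCoh_tensorMod hF.1 hG.1
  have hη := bijective_stalk_bidualMap_genericPoint hT
  have hb := bijective_smul_map hη hw
  refine ⟨⟨isCoh_ddual hT, isReflexive_ddual hT, genInvertible_of_bijective_genericPoint (isCoh_ddual hT) _ hb⟩,
    _, fun e => hw0 (hη.1 (e.trans (map_zero _).symm)), fun x hx => ?_⟩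
  have hdim := ((ringKrullDim_eq_one_iff_coheight x).2 hx).le
  obtain ⟨tF, htF⟩ := exists_gen_codimOne hX hF hdim
  obtain ⟨tG, htG⟩ := exists_gen_codimOne hX hG hdim
  obtain ⟨z, hz, φ, hφ, hord⟩ := hwx x hx tF tG htF htG
  have hz' := bijective_smul_map ((bijective_stalk_bidualMap_iff hT x).2 (isReflexiveAt_of_gen hz)) hz
  rw [sOrd_eq (isCoh_ddual hT).1 hx hz' φ _ (by rw [toGen_stalkMap, ← map_smul, hφ]), hord]

omit [IsIntegral X] [IsLocallyNoetherian X] in
theorem bijective_smul_unitOne (x : X) :
    Function.Bijective fun a : X.presheaf.stalk x => a • AssSch12.unitOne x :=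
  (SDiv28.unitStalkEquiv x).bijective

omit [IsLocallyNoetherian X] in
theorem toGen_unitOne (x : X) : toGen (Coh.structureModule X) x (AssSch12.unitOne x) = AssSch12.unitOne (genericPoint X) :=
  toGen_germ _ _ _

/-- The structure module is rank one reflexive and `1` has trivial divisor. -/
theorem isRef1_structureModule : RefHull.IsRef1 (Coh.structureModule X) := by
  have hO : Coh.IsCoh (Coh.structureModule X) := Coherent.isCoh_structureModule X
  exact ⟨hO, (isReflexive_iff_stalks hO).2 fun x => isReflexiveAt_of_gen (bijective_smul_unitOne x),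
    genInvertible_of_bijective_genericPoint hO _ (bijective_smul_unitOne (genericPoint X))⟩

theorem unitOne_ne_zero : AssSch12.unitOne (genericPoint X) ≠ 0 := fun h =>
  one_ne_zero (α := X.presheaf.stalk (genericPoint X)) ((bijective_smul_unitOne (genericPoint X)).1 (by simp [h]))

theorem sOrd_unitOne {x : X} (hx : Order.coheight x = 1) :
    sOrd (Coh.structureModule X) x (AssSch12.unitOne (genericPoint X)) = 0 := by
  rw [sOrd_eq (Coherent.isCoh_structureModule X).1 hx (bijective_smul_unitOne x) 1 _
    (by rw [toGen_unitOne]; exact one_smul _ _)]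
  exact (Scheme.ord_eq_iff hx one_ne_zero).2 (map_one _)

omit [IsLocallyNoetherian X] in
/-- Values of germs of sections of the sheaf of homomorphisms are compatible with specialization. -/
theorem toGen_evalStalk (x : X) (d : (RefHull.homSh F G).presheaf.stalk x) (v : F.presheaf.stalk x) :
    toGen G x (RefHull.evalStalk F G x d v) =
      RefHull.evalStalk F G (genericPoint X) (toGen (RefHull.homSh F G) x d) (toGen F x v) := by
  obtain ⟨U, hU, g, rfl⟩ := TopCat.Presheaf.exists_germ_eq _ d
  obtain ⟨V, hV, m, rfl⟩ := TopCat.Presheaf.exists_germ_eq _ v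
  obtain ⟨W, hxW, j, n, hn⟩ := g.2 (U ⊓ V) (homOfLE (inf_le_left : U ⊓ V ≤ U))
    (resM F (inf_le_right : U ⊓ V ≤ V) m) ⟨x, hU, hV⟩
  have e : ∀ (y : X) (hy : y ∈ W), g.1 ⟨y, (j.le hy).1⟩ (F.presheaf.germ V y (j.le hy).2 m) =
      G.presheaf.germ W y hy n := fun y hy => by
    refine Eq.trans ?_ (hn ⟨y, hy⟩)
    exact congrArg _ (TopCat.Presheaf.germ_res_apply F.presheaf _ _ _ _).symm
  rw [RefHull.evalStalk_germ, toGen_germ, RefHull.evalStalk_germ, toGen_germ, e x hxW, toGen_germ]
  exact (e _ (genericPoint_mem_of_mem hxW)).symm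

/-- The dual of a rank one reflexive module, with the opposite divisor. -/
theorem exists_dual_section (hX : Pi1.IsNormalScheme X) (hF : RefHull.IsRef1 F)
    {s : F.presheaf.stalk (genericPoint X)} (hs : s ≠ 0) :
    RefHull.IsRef1 (RefHull.dual F) ∧
      ∃ d : (RefHull.dual F).presheaf.stalk (genericPoint X), d ≠ 0 ∧
        ∀ x : X, Order.coheight x = 1 → sOrd (RefHull.dual F) x d = - sOrd F x s := by
  have hd : Coh.IsCoh (RefHull.dual F) := isCoh_dual hF.1 (Coherent.isCoh_structureModule X)
  have hgen : ∀ y : X, ∀ t : F.presheaf.stalk y, Function.Bijective (fun a : X.presheaf.stalk y => a • t) →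
      ∃ d : (RefHull.dual F).presheaf.stalk y, Function.Bijective (fun a : X.presheaf.stalk y => a • d) ∧
        RefHull.evalStalk F (Coh.structureModule X) y d t = AssSch12.unitOne y := by
    intro y t ht
    let e : X.presheaf.stalk y ≃ₗ[X.presheaf.stalk y] F.presheaf.stalk y :=
      LinearEquiv.ofBijective (LinearMap.toSpanSingleton _ _ t) ht
    let θ : RefHull.StalkHom F (Coh.structureModule X) y := (SDiv28.unitStalkEquiv y).toLinearMap.comp e.symm.toLinearMap
    have hθt : θ t = AssSch12.unitOne y := by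
      show SDiv28.unitStalkEquiv y (e.symm t) = _
      rw [show e.symm t = 1 from (e.symm_apply_eq).2 (one_smul (X.presheaf.stalk y) t).symm]
      exact one_smul (X.presheaf.stalk y) (AssSch12.unitOne y)
    have hθ : Function.Bijective fun a : X.presheaf.stalk y => a • θ := by
      refine ⟨fun a b hab => (bijective_smul_unitOne y).1 ?_, fun ψ => ?_⟩
      · have := LinearMap.congr_fun hab t
        simpa [hθt] using this
      · obtain ⟨c, hc⟩ := (bijective_smul_unitOne y).2 (ψ t)
        refine ⟨c, LinearMap.ext fun v => ?_⟩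
        obtain ⟨b, rfl⟩ := ht.2 v
        dsimp only at hc ⊢
        rw [map_smul, map_smul, LinearMap.smul_apply, hθt, hc]
    have hev := evalStalk_bijective_of_isCoh (G := Coh.structureModule X) hF.1 y
    let E := LinearEquiv.ofBijective (RefHull.evalStalk F (Coh.structureModule X) y) hev
    refine ⟨E.symm θ, bijective_smul_map (l := E.symm.toLinearMap) E.symm.bijective hθ, ?_⟩
    show E (E.symm θ) t = _
    rw [E.apply_symm_apply, hθt]
  obtain ⟨f, hf0, hf⟩ := exists_ne_zero_genericPoint hF.2.2
  have hsb : Function.Bijective fun a : X.presheaf.stalk (genericPoint X) => a • s := by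
    obtain ⟨c, hc⟩ := hf.2 s
    dsimp only at hc
    have hc0 : c ≠ 0 := fun e => hs (by rw [← hc, e]; exact zero_smul _ _)
    have : (fun a : X.functionField => a • s) = (fun a : X.functionField => a • f) ∘ (fun a => a * c) :=
      funext fun a => by rw [Function.comp_apply, ← hc, mul_smul]
    show Function.Bijective fun a : X.functionField => a • s
    rw [this]
    exact hf.comp (mulRight_bijective₀ c hc0)
  obtain ⟨d, hdb, hds⟩ := hgen (genericPoint X) s hsb
  refine ⟨⟨hd, (isReflexive_iff_stalks hd).2 (isReflexiveAt_dual hF.1),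
    genInvertible_of_bijective_genericPoint hd d hdb⟩, d, fun e => unitOne_ne_zero (X := X) ?_, fun x hx => ?_⟩
  · rw [← hds, e, map_zero]; rfl
  obtain ⟨tF, htF⟩ := exists_gen_codimOne hX hF ((ringKrullDim_eq_one_iff_coheight x).2 hx).le
  obtain ⟨dx, hdx, hdxt⟩ := hgen x tF htF
  obtain ⟨φ, hφ0, hφ⟩ := exists_coord hF.1.1 htF hs
  have key : (φ⁻¹ : X.functionField) • toGen (RefHull.dual F) x dx = d := by
    apply (evalStalk_bijective_of_isCoh (G := Coh.structureModule X) hF.1 (genericPoint X)).1
    refine LinearMap.ext fun v => ?_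
    obtain ⟨c, rfl⟩ := hsb.2 v
    dsimp only
    rw [map_smul (RefHull.evalStalk F (Coh.structureModule X) (genericPoint X) d), hds, map_smul]
    congr 1
    rw [map_smul, LinearMap.smul_apply, ← hφ, map_smul, ← toGen_evalStalk, hdxt, toGen_unitOne]
    exact inv_smul_smul₀ hφ0 _
  rw [sOrd_eq hd.1 hx hdx φ⁻¹ d key, sOrd_eq hF.1.1 hx htF φ s hφ]
  have h1 := Scheme.ord_mul (x := x) hφ0 (inv_ne_zero hφ0)
  rw [mul_inv_cancel₀ hφ0] at h1
  have h2 : Scheme.ord (1 : X.functionField) x = 0 := (Scheme.ord_eq_iff hx one_ne_zero).2 (map_one _)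
  omega

end Groth.Agent.RefHullLib
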