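import Groth.Agent.CAlgH3.ProjDim
import Groth.Agent.CAlgH3.RegularCore
import Groth.Agent.CAlgMisc2.HomDepth
import Groth.Agent.CommAlg6.DepthOne
import Groth.Agent.CurvesLib24.Basic
import Groth.Agent.Props12.FinLocFree
import Groth.Agent.Coherent.FinitePres
import Groth.Agent.AssSch12.MaxSupport
import Groth.Agent.CAlgH3.Depth
import Mathlib

/-!
# Torsion free and reflexive modules on regular schemes of small dimension
-/

set_option autoImplicit false
set_option backward.isDefEq.respectTransparency.types false
universe u

open CategoryTheory AlgebraicGeometry IsLocalRing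

namespace Groth.Agent.RefHullLib

section Algebra

variable {R : Type u} [CommRing R] [IsRegularLocalRing R] {M : Type u} [AddCommGroup M] [Module R M]
  [Module.Finite R M]

theorem spanFinrank_le_of_dim_le {k : ℕ} (h : ringKrullDim R ≤ (k : WithBot ℕ∞)) :
    (maximalIdeal R).spanFinrank ≤ k := by
  rw [← IsRegularLocalRing.spanFinrank_maximalIdeal] at h
  exact_mod_cast h

/-- Torsion free modules over a regular local ring of dimension at most one are free. -/
theorem free_of_torsionFree_of_dim_le_one (hdim : ringKrullDim R ≤ 1) (htf : Module.IsTorsionFree R M) :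
    Module.Free R M := by
  haveI := CAlgH3.isDomain_of_isRegularLocalRing R
  have hd := spanFinrank_le_of_dim_le (k := 1) (by exact_mod_cast hdim)
  refine CAlgH3.free_of_le_depth _ R rfl M ?_
  rcases Nat.eq_zero_or_pos (maximalIdeal R).spanFinrank with h0 | h0
  · rw [h0]; simp
  have h1 : (maximalIdeal R).spanFinrank = 1 := le_antisymm hd h0
  rw [h1]
  refine (CommAlg6.one_le_depth_iff M).2 fun hm => ?_
  obtain ⟨-, z, hz⟩ := (isAssociatedPrime_iff (R := R)).1 hm
  have hbot : maximalIdeal R = ⊥ := by
    rw [eq_bot_iff]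
    intro r hr
    rw [hz, Submodule.mem_colon_singleton, Submodule.mem_bot] at hr
    rcases smul_eq_zero.1 hr with h | h
    · exact h
    · exfalso
      refine (maximalIdeal.isMaximal R).ne_top (hz.trans (eq_top_iff.2 fun r _ => ?_))
      simp [Submodule.mem_colon_singleton, h]
  rw [hbot, Submodule.spanFinrank_bot] at h1
  exact zero_ne_one h1

/-- Reflexive modules over a regular local ring of dimension at most two are free. -/
theorem free_of_reflexive_of_dim_le_two (hdim : ringKrullDim R ≤ 2) [Module.IsReflexive R M] :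
    Module.Free R M := by
  haveI := CAlgH3.isDomain_of_isRegularLocalRing R
  have hd := spanFinrank_le_of_dim_le (k := 2) (by exact_mod_cast hdim)
  refine CAlgH3.free_of_le_depth _ R rfl M ?_
  rw [CAlgH3.depth_congr (Module.evalEquiv R M)]
  refine le_trans ?_ (CAlgMisc2.min_two_depth_le_depth_hom (Module.Dual R M) R)
  rw [CAlgH3.depth_eq_spanFinrank]
  exact le_min (by exact_mod_cast hd) le_rfl

end Algebra

variable {X : Scheme.{u}} [IsLocallyNoetherian X] {F : X.Modules}

theorem isFinLocFree_iff_free_stalks (hF : Coh.IsCoh F) :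
    FlatMod.IsFinLocFree F ↔ ∀ x : X, Module.Free (X.presheaf.stalk x) (F.presheaf.stalk x) := by
  haveI : Coh.IsQCoh F := hF.1
  exact ⟨fun h x => Props12.free_stalk_of_isFinLocFree F h x,
    fun h => Props12.isFinLocFree_of_isFP_of_free_stalks F (Coherent.isFP_of_isCoh hF) h⟩

theorem isTorsionFree_iff_isFinLocFree_of_dim_le_one [IsIntegral X]
    (hreg : ∀ x : X, IsRegularLocalRing (X.presheaf.stalk x)) (hdim : topologicalKrullDim X ≤ 1)
    (hF : Coh.IsCoh F) :
    (∀ x : X, NoZeroSMulDivisors (X.presheaf.stalk x) (F.presheaf.stalk x)) ↔ FlatMod.IsFinLocFree F := by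
  rw [isFinLocFree_iff_free_stalks hF]
  constructor
  · intro h x
    haveI := hreg x
    haveI := AssSch12.finite_stalk hF x
    haveI := h x
    exact free_of_torsionFree_of_dim_le_one ((CurvesLib24.stalk_dim_le_topologicalKrullDim x).trans hdim)
      (Module.IsTorsionFree.of_smul_eq_zero fun r m hrm => smul_eq_zero.1 hrm)
  · intro h x
    haveI := h x
    haveI : Module.IsTorsionFree (X.presheaf.stalk x) (F.presheaf.stalk x) := inferInstance
    exact ⟨fun {c m} hc => smul_eq_zero.1 hc⟩

theorem isReflexive_iff_isFinLocFree_of_dim_le_two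
    (hreg : ∀ x : X, IsRegularLocalRing (X.presheaf.stalk x)) (hdim : topologicalKrullDim X ≤ 2)
    (hF : Coh.IsCoh F) :
    (∀ x : X, Module.IsReflexive (X.presheaf.stalk x) (F.presheaf.stalk x)) ↔ FlatMod.IsFinLocFree F := by
  rw [isFinLocFree_iff_free_stalks hF]
  constructor
  · intro h x
    haveI := hreg x
    haveI := h x
    haveI := AssSch12.finite_stalk hF x
    exact free_of_reflexive_of_dim_le_two ((CurvesLib24.stalk_dim_le_topologicalKrullDim x).trans hdim)
  · intro h x
    haveI := h x
    haveI := AssSch12.finite_stalk hF x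
    infer_instance

end Groth.Agent.RefHullLib
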