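import Groth.Agent.RefHullLib.Reflexive
import Groth.Agent.CAlgMisc2.Normal
import Groth.Agent.CAlgMisc2.TorsionFree
import Groth.Agent.Misc15.DivDescentInd
import Groth.Prelude.Def_Pi1
import Mathlib

/-!
# Stalks inside the generic stalk, and membership by codimension one
-/

set_option autoImplicit false
set_option backward.isDefEq.respectTransparency.types false
universe u

open CategoryTheory AlgebraicGeometry IsLocalRing

namespace Groth.Agent.RefHullLib

variable {X : Scheme.{u}} [IsIntegral X] (F : X.Modules)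

/-- The map from the stalk at a point to the stalk at the generic point. -/
noncomputable def toGen (x : X) : F.presheaf.stalk x →+ F.presheaf.stalk (genericPoint X) :=
  (F.presheaf.stalkSpecializes ((genericPoint_spec X).specializes (Set.mem_univ x))).hom

/-- The map from the local ring at a point to the function field. -/
noncomputable def toGenRing (x : X) : X.presheaf.stalk x →+* X.presheaf.stalk (genericPoint X) :=
  (X.presheaf.stalkSpecializes ((genericPoint_spec X).specializes (Set.mem_univ x))).hom

theorem genericPoint_mem_of_mem {U : X.Opens} {x : X} (hx : x ∈ U) : genericPoint X ∈ U :=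
  (genericPoint_specializes x).mem_open U.isOpen hx

theorem toGen_germ {U : X.Opens} {x : X} (hx : x ∈ U) (m : Γ(F, U)) :
    toGen F x (F.presheaf.germ U x hx m) = F.presheaf.germ U (genericPoint X) (genericPoint_mem_of_mem hx) m :=
  TopCat.Presheaf.germ_stalkSpecializes_apply F.presheaf hx _ m

theorem toGenRing_germ {U : X.Opens} {x : X} (hx : x ∈ U) (r : Γ(X, U)) :
    toGenRing x (X.presheaf.germ U x hx r) = X.presheaf.germ U (genericPoint X) (genericPoint_mem_of_mem hx) r :=
  TopCat.Presheaf.germ_stalkSpecializes_apply X.presheaf hx _ r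

theorem toGenRing_injective (x : X) : Function.Injective (toGenRing x) :=
  IsFractionRing.injective (X.presheaf.stalk x) X.functionField

theorem toGen_smul (x : X) (a : X.presheaf.stalk x) (v : F.presheaf.stalk x) :
    toGen F x (a • v) = toGenRing x a • toGen F x v := by
  obtain ⟨Ua, ha, r, rfl⟩ := X.presheaf.exists_germ_eq a
  obtain ⟨Uv, hv, m, rfl⟩ := F.presheaf.exists_germ_eq v
  rw [← TopCat.Presheaf.germ_res_apply X.presheaf (homOfLE (inf_le_left : Ua ⊓ Uv ≤ Ua)) x ⟨ha, hv⟩,
    ← TopCat.Presheaf.germ_res_apply F.presheaf (homOfLE (inf_le_right : Ua ⊓ Uv ≤ Uv)) x ⟨ha, hv⟩,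
    ← QCohLoc.germ_smul', toGen_germ, toGen_germ, toGenRing_germ, QCohLoc.germ_smul']

theorem toGen_stalkMap {G : X.Modules} (φ : F ⟶ G) (x : X) (v : F.presheaf.stalk x) :
    toGen G x (RefHull.stalkMapₗ φ x v) = RefHull.stalkMapₗ φ (genericPoint X) (toGen F x v) := by
  obtain ⟨U, hU, m, rfl⟩ := F.presheaf.exists_germ_eq v
  rw [toGen_germ, RefHull.stalkMapₗ_germ, RefHull.stalkMapₗ_germ, toGen_germ]

/-- A torsion free stalk embeds into the generic stalk. -/
theorem toGen_injective (hF : Coh.IsQCoh F) (x : X)
    (htf : Module.IsTorsionFree (X.presheaf.stalk x) (F.presheaf.stalk x)) :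
    Function.Injective (toGen F x) := by
  haveI := hF
  haveI := htf
  rw [injective_iff_map_eq_zero]
  intro v hv
  obtain ⟨_, ⟨U, hU, rfl⟩, hxU, -⟩ :=
    X.isBasis_affineOpens.exists_subset_of_mem_open (Set.mem_univ x) isOpen_univ
  obtain ⟨g, m, hg, hm⟩ := QCohLoc.exists_smul_stalk_eq_germ F hU hxU v
  have h0 : F.presheaf.germ U (genericPoint X) (genericPoint_mem_of_mem hxU) m = 0 := by
    rw [← toGen_germ F hxU, ← hm, toGen_smul, hv, smul_zero]
  obtain ⟨f, hf, hfm⟩ := QCohLoc.exists_smul_eq_zero_of_germ F hU (genericPoint_mem_of_mem hxU) m h0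
  have h1 : (X.presheaf.germ U x hxU f * X.presheaf.germ U x hxU g) • v = 0 := by
    rw [mul_smul, hm, ← QCohLoc.germ_smul', hfm, map_zero]
  refine (smul_eq_zero.1 h1).resolve_left (mul_ne_zero (fun h => ?_) (fun h => ?_))
  · have h2 := (X.mem_basicOpen f _ (genericPoint_mem_of_mem hxU)).1 hf
    rw [← toGenRing_germ hxU, h, map_zero] at h2
    exact not_isUnit_zero h2
  · have h2 := (X.mem_basicOpen g _ hxU).1 hg
    rw [h] at h2
    exact not_isUnit_zero h2

/-- Denominators: an element of a stalk at a generalization becomes an element of the smaller stalk. -/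
theorem exists_smul_toGen_eq (hF : Coh.IsQCoh F) {y x : X} (h : y ⤳ x) (w : F.presheaf.stalk y) :
    ∃ (s : X.presheaf.stalk x) (m : F.presheaf.stalk x),
      IsUnit ((X.presheaf.stalkSpecializes h).hom s) ∧ toGenRing x s • toGen F y w = toGen F x m := by
  haveI := hF
  obtain ⟨_, ⟨U, hU, rfl⟩, hxU, -⟩ :=
    X.isBasis_affineOpens.exists_subset_of_mem_open (Set.mem_univ x) isOpen_univ
  have hyU : y ∈ U := h.mem_open U.isOpen hxU
  obtain ⟨f, m, hf, hm⟩ := QCohLoc.exists_smul_stalk_eq_germ F hU hyU w
  refine ⟨X.presheaf.germ U x hxU f, F.presheaf.germ U x hxU m, ?_, ?_⟩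
  · have e : (X.presheaf.stalkSpecializes h).hom (X.presheaf.germ U x hxU f) = X.presheaf.germ U y hyU f :=
      TopCat.Presheaf.germ_stalkSpecializes_apply X.presheaf hxU h f
    rw [e]
    exact (X.mem_basicOpen f y hyU).1 hf
  · rw [toGenRing_germ, ← toGenRing_germ hyU, ← toGen_smul, hm, toGen_germ, toGen_germ]

/-- An element of the generic stalk lies in a reflexive stalk as soon as it does so in codimension one. -/
theorem mem_range_toGen [IsLocallyNoetherian X] (hX : Pi1.IsNormalScheme X) (hF : Coh.IsCoh F) (x : X)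
    (hrefl : RefHull.IsReflexiveAt F x) (v : F.presheaf.stalk (genericPoint X))
    (h : ∀ y : X, y ⤳ x → ringKrullDim (X.presheaf.stalk y) = 1 → v ∈ Set.range (toGen F y)) :
    v ∈ Set.range (toGen F x) := by
  haveI := (hX x).1
  haveI := (hX x).2
  haveI := AssSch12.finite_stalk hF x
  haveI : Module.IsReflexive (X.presheaf.stalk x) (F.presheaf.stalk x) := hrefl
  have hinj := toGen_injective F hF.1 x inferInstance
  obtain ⟨c, m, hc, hcm⟩ := exists_smul_toGen_eq F hF.1 (genericPoint_specializes x) v
  have hgen : toGen F (genericPoint X) v = v := by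
    obtain ⟨U, hU, n, rfl⟩ := F.presheaf.exists_germ_eq v
    exact toGen_germ F hU n
  rw [hgen] at hcm
  have hc0 : c ≠ 0 := fun e => by
    rw [e, map_zero] at hc
    exact not_isUnit_zero hc
  obtain ⟨z, hz⟩ := (CAlgMisc2.isReflexive_iff_divisible.1 hrefl).2 c m hc0 (fun φ => by
    let R := X.presheaf.stalk x
    let K := FractionRing R
    have hcK : algebraMap R K c ≠ 0 := (map_ne_zero_iff _ (IsFractionRing.injective R K)).2 hc0
    obtain ⟨q, hq⟩ := CAlgMisc2.mem_range_of_forall_height_one (R := R)
      (algebraMap R K (φ m) / algebraMap R K c) (fun p hp hp1 => by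
        obtain ⟨y, hy, hyp⟩ := Misc15.DivDescent.exists_point p hp
        have hdim : ringKrullDim (X.presheaf.stalk y) = 1 := by
          letI := (X.presheaf.stalkSpecializes hy).hom.toAlgebra
          haveI := Misc15.isLocalization_stalkSpecializes hy
          have hS : p.primeCompl =
              (IsUnit.submonoid (X.presheaf.stalk y)).comap (X.presheaf.stalkSpecializes hy).hom := by
            ext a
            exact hyp ▸ Misc15.DivDescent.notMem_primeOf hy a
          haveI : IsLocalization.AtPrime (X.presheaf.stalk y) p := by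
            show IsLocalization p.primeCompl _
            rw [hS]; infer_instance
          rw [IsLocalization.AtPrime.ringKrullDim_eq_height p (X.presheaf.stalk y), hp1]
          rfl
        obtain ⟨w, hw⟩ := h y hy hdim
        obtain ⟨s, m', hs, hsm⟩ := exists_smul_toGen_eq F hF.1 hy w
        rw [hw] at hsm
        have key : s • m = c • m' := hinj (by
          rw [toGen_smul, toGen_smul, ← hcm, ← hsm, smul_comm])
        refine ⟨φ m', s, hyp ▸ (Misc15.DivDescent.notMem_primeOf hy s).2 hs, ?_⟩
        have k2 := congrArg φ key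
        rw [map_smul, map_smul, smul_eq_mul, smul_eq_mul] at k2
        rw [div_mul_eq_mul_div, div_eq_iff hcK, ← map_mul, ← map_mul, mul_comm (φ m) s, k2, mul_comm])
    refine ⟨q, IsFractionRing.injective R K ?_⟩
    rw [map_mul, hq, mul_div_cancel₀ _ hcK])
  refine ⟨z, ?_⟩
  rw [← hz, toGen_smul] at hcm
  exact ((hc.map (X.presheaf.stalkSpecializes (genericPoint_specializes (genericPoint X))).hom).smul_left_cancel).1
    (by simpa [toGenRing] using hcm.symm)

/-- A section of a torsion free coherent module over an open is determined by its germ at the generic point. -/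
theorem section_ext_of_germ_genericPoint (hF : Coh.IsQCoh F) {U : X.Opens}
    (htf : ∀ x ∈ U, Module.IsTorsionFree (X.presheaf.stalk x) (F.presheaf.stalk x)) (a b : Γ(F, U))
    (h : ∀ hη : genericPoint X ∈ U,
      F.presheaf.germ U (genericPoint X) hη a = F.presheaf.germ U (genericPoint X) hη b) : a = b := by
  refine TopCat.Presheaf.section_ext ⟨F.presheaf, F.isSheaf⟩ U a b fun x hx => ?_
  apply toGen_injective F hF x (htf x hx)
  show toGen F x (F.presheaf.germ U x hx a) = toGen F x (F.presheaf.germ U x hx b)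
  rw [toGen_germ, toGen_germ]
  exact h _

/-- An element of the generic stalk lying in all stalks over an open is a section there. -/
theorem exists_germ_eq_of_forall_mem_range (hF : Coh.IsQCoh F)
    (htf : ∀ x, Module.IsTorsionFree (X.presheaf.stalk x) (F.presheaf.stalk x)) {U : X.Opens}
    (hη : genericPoint X ∈ U) (v : F.presheaf.stalk (genericPoint X))
    (h : ∀ x ∈ U, v ∈ Set.range (toGen F x)) :
    ∃ n : Γ(F, U), F.presheaf.germ U (genericPoint X) hη n = v := by
  classical
  choose w hw using h
  choose V hxV s hs using fun x : U => F.presheaf.exists_germ_eq (w x.1 x.2)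
  let W : U → X.Opens := fun x => V x ⊓ U
  let sf : ∀ x : U, Γ(F, W x) := fun x => F.presheaf.map (homOfLE (inf_le_left : V x ⊓ U ≤ V x)).op (s x)
  have hsf : ∀ (x : U) (hη' : genericPoint X ∈ W x), F.presheaf.germ (W x) (genericPoint X) hη' (sf x) = v := by
    intro x hη'
    rw [← hw x.1 x.2, ← hs x, toGen_germ]
    exact TopCat.Presheaf.germ_res_apply F.presheaf _ _ _ _
  let Fsh : TopCat.Sheaf Ab X := ⟨F.presheaf, F.isSheaf⟩
  obtain ⟨n, hn, -⟩ := Fsh.existsUnique_gluing' W U (fun x => homOfLE (inf_le_right : V x ⊓ U ≤ U))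
    (fun y hy => TopologicalSpace.Opens.mem_iSup.2 ⟨⟨y, hy⟩, hxV ⟨y, hy⟩, hy⟩) sf (fun x x' => by
      refine section_ext_of_germ_genericPoint F hF (fun y _ => htf y) _ _ fun hη' => ?_
      exact ((TopCat.Presheaf.germ_res_apply F.presheaf _ _ hη' _).trans (hsf x hη'.1)).trans
        ((TopCat.Presheaf.germ_res_apply F.presheaf _ _ hη' _).trans (hsf x' hη'.2)).symm)
  refine ⟨n, ?_⟩
  let x0 : U := ⟨genericPoint X, hη⟩
  have hm : genericPoint X ∈ W x0 := ⟨hxV x0, hη⟩
  have := congrArg (F.presheaf.germ (W x0) (genericPoint X) hm) (hn x0)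
  rw [hsf x0 hm] at this
  exact (TopCat.Presheaf.germ_res_apply F.presheaf _ _ hm n).symm.trans this

end Groth.Agent.RefHullLib
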