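import Groth.Agent.RefHullLib.Coh
import Groth.Agent.SDiv28.WeakAssUnit
import Groth.Agent.CAlgMisc2.Reflexive
import Groth.Agent.Misc15.StalkLoc
import Groth.Agent.ModStalk.Exact
import Groth.Agent.Coherent.ProperFinite
import Groth.Agent.Coherent.FinitePres
import Mathlib

/-!
# Stalks of the reflexive hull; reflexive coherent modules
-/

set_option autoImplicit false
set_option backward.isDefEq.respectTransparency.types false
universe u

open CategoryTheory AlgebraicGeometry Opposite TopologicalSpace
open Groth.Agent.Coherent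

namespace Groth.Agent.RefHullLib

variable {X : Scheme.{u}} {F G : X.Modules}

/-- The stalk map of the biduality map followed by evaluation is evaluation at an element. -/
theorem evalStalk_bidualMap (x : X) (v : F.presheaf.stalk x) :
    RefHull.evalStalk (RefHull.dual F) (Coh.structureModule X) x (RefHull.stalkMapₗ (RefHull.bidualMap F) x v) =
      RefHull.bidualAt F x v := by
  obtain ⟨U, hxU, s, rfl⟩ := F.presheaf.exists_germ_eq v
  rw [RefHull.stalkMapₗ_germ]
  exact (RefHull.evalStalk_germ _ _ x hxU _).trans (RefHull.bidualMap_app_apply F s ⟨x, hxU⟩)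

theorem isReflexive_iff_bijective_stalk (F : X.Modules) :
    RefHull.IsReflexive F ↔ ∀ x : X, Function.Bijective (RefHull.stalkMapₗ (RefHull.bidualMap F) x) := by
  constructor
  · intro h x
    haveI : IsIso (RefHull.bidualMap F) := h
    exact ConcreteCategory.bijective_of_isIso ((DerSch.stalkFunctor X x).map (RefHull.bidualMap F))
  · intro h
    exact ModStalk.isIso_of_stalks _ fun x => (ConcreteCategory.isIso_iff_bijective _).2 (h x)

variable [IsLocallyNoetherian X]

theorem evalStalk_bijective_of_isCoh (hF : Coh.IsCoh F) (x : X) :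
    Function.Bijective (RefHull.evalStalk F G x) :=
  evalStalk_bijective (isFP_of_isCoh hF) x

/-- The double dual of the stalk as maps out of the stalk of the dual. -/
noncomputable def doubleDualEquiv (hF : Coh.IsCoh F) (x : X) :
    Module.Dual (X.presheaf.stalk x) (Module.Dual (X.presheaf.stalk x) (F.presheaf.stalk x)) ≃ₗ[X.presheaf.stalk x]
      RefHull.StalkHom (RefHull.dual F) (Coh.structureModule X) x :=
  LinearEquiv.arrowCongr
    ((LinearEquiv.ofBijective (RefHull.evalStalk F (Coh.structureModule X) x)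
      (evalStalk_bijective_of_isCoh hF x)).trans
      (LinearEquiv.arrowCongr (LinearEquiv.refl _ _) (SDiv28.unitStalkEquiv x).symm)).symm
    (SDiv28.unitStalkEquiv x)

theorem doubleDualEquiv_eval (hF : Coh.IsCoh F) (x : X) (v : F.presheaf.stalk x) :
    doubleDualEquiv hF x (Module.Dual.eval _ _ v) = RefHull.bidualAt F x v := by
  refine LinearMap.ext fun θ => ?_
  simp only [doubleDualEquiv, LinearEquiv.arrowCongr_apply, LinearEquiv.symm_symm, LinearEquiv.trans_apply,
    LinearEquiv.ofBijective_apply, LinearEquiv.refl_symm, LinearEquiv.refl_apply, Module.Dual.eval_apply,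
    RefHull.bidualAt_apply, LinearEquiv.apply_symm_apply]

theorem bijective_stalk_bidualMap_iff (hF : Coh.IsCoh F) (x : X) :
    Function.Bijective (RefHull.stalkMapₗ (RefHull.bidualMap F) x) ↔ RefHull.IsReflexiveAt F x := by
  have hd : Coh.IsCoh (RefHull.dual F) := isCoh_dual hF (Coherent.isCoh_structureModule X)
  have h1 : ⇑(RefHull.bidualAt F x) =
      RefHull.evalStalk (RefHull.dual F) (Coh.structureModule X) x ∘ RefHull.stalkMapₗ (RefHull.bidualMap F) x :=
    funext fun v => (evalStalk_bidualMap x v).symm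
  have h2 : ⇑(RefHull.bidualAt F x) = doubleDualEquiv hF x ∘ Module.Dual.eval _ _ :=
    funext fun v => (doubleDualEquiv_eval hF x v).symm
  have e1 : Function.Bijective (RefHull.bidualAt F x) ↔
      Function.Bijective (RefHull.stalkMapₗ (RefHull.bidualMap F) x) := by
    rw [h1]; exact (evalStalk_bijective_of_isCoh hd x).of_comp_iff' _
  rw [← e1, h2]
  refine ((doubleDualEquiv hF x).bijective.of_comp_iff' _).trans ?_
  exact ⟨fun h => ⟨h⟩, fun h => h.bijective_dual_eval'⟩

/-- A coherent module is reflexive iff all its stalks are. -/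
theorem isReflexive_iff_stalks (hF : Coh.IsCoh F) :
    RefHull.IsReflexive F ↔ ∀ x : X, RefHull.IsReflexiveAt F x :=
  (isReflexive_iff_bijective_stalk F).trans (forall_congr' fun x => bijective_stalk_bidualMap_iff hF x)

/-- The specialization map of stalks of a quasi-coherent module is a localization. -/
theorem isBaseChange_stalkSpecializes (hF : Coh.IsQCoh F) {y x : X} (h : y ⤳ x) :
    letI := (X.presheaf.stalkSpecializes h).hom.toAlgebra
    letI := Module.compHom (F.presheaf.stalk y) (X.presheaf.stalkSpecializes h).hom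
    haveI : IsScalarTower (X.presheaf.stalk x) (X.presheaf.stalk y) (F.presheaf.stalk y) :=
      IsScalarTower.of_algebraMap_smul fun _ _ => rfl
    ∃ ρ : F.presheaf.stalk x →ₗ[X.presheaf.stalk x] F.presheaf.stalk y,
      IsBaseChange (X.presheaf.stalk y) ρ := by
  haveI := hF
  letI := (X.presheaf.stalkSpecializes h).hom.toAlgebra
  letI := Module.compHom (F.presheaf.stalk y) (X.presheaf.stalkSpecializes h).hom
  haveI : IsScalarTower (X.presheaf.stalk x) (X.presheaf.stalk y) (F.presheaf.stalk y) :=
    IsScalarTower.of_algebraMap_smul fun _ _ => rfl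
  haveI := Misc15.isLocalization_stalkSpecializes h
  let S := (IsUnit.submonoid (X.presheaf.stalk y)).comap (X.presheaf.stalkSpecializes h).hom
  obtain ⟨_, ⟨U, hU, rfl⟩, hxU, -⟩ :=
    X.isBasis_affineOpens.exists_subset_of_mem_open (Set.mem_univ x) isOpen_univ
  have hyU : y ∈ U := h.mem_open U.isOpen hxU
  have hgerm : ∀ r : Γ(X, U), (X.presheaf.stalkSpecializes h).hom (X.presheaf.germ U x hxU r) =
      X.presheaf.germ U y hyU r := fun r => TopCat.Presheaf.germ_stalkSpecializes_apply X.presheaf hxU h r
  have hgermF : ∀ m : Γ(F, U), F.presheaf.stalkSpecializes h (F.presheaf.germ U x hxU m) =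
      F.presheaf.germ U y hyU m := fun m => TopCat.Presheaf.germ_stalkSpecializes_apply F.presheaf hxU h m
  let ρ : F.presheaf.stalk x →ₗ[X.presheaf.stalk x] F.presheaf.stalk y :=
    { toFun := F.presheaf.stalkSpecializes h
      map_add' := fun a b => map_add _ a b
      map_smul' := fun a v => by
        obtain ⟨Ua, hxa, r, rfl⟩ := X.presheaf.exists_germ_eq a
        obtain ⟨Uv, hxv, m, rfl⟩ := F.presheaf.exists_germ_eq v
        rw [← TopCat.Presheaf.germ_res_apply X.presheaf (homOfLE (inf_le_left : Ua ⊓ Uv ≤ Ua)) x ⟨hxa, hxv⟩,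
          ← TopCat.Presheaf.germ_res_apply F.presheaf (homOfLE (inf_le_right : Ua ⊓ Uv ≤ Uv)) x ⟨hxa, hxv⟩,
          ← QCohLoc.germ_smul', TopCat.Presheaf.germ_stalkSpecializes_apply,
          TopCat.Presheaf.germ_stalkSpecializes_apply, QCohLoc.germ_smul']
        exact congrArg₂ (· • ·)
          (TopCat.Presheaf.germ_stalkSpecializes_apply X.presheaf
            (show x ∈ Ua ⊓ Uv from ⟨hxa, hxv⟩) h _).symm rfl }
  refine ⟨ρ, ?_⟩
  haveI : IsLocalizedModule S ρ := by
    refine { map_units := fun a => ?_, surj := fun z => ?_, exists_of_eq := fun {a b} hab => ?_ }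
    · exact EGA43.QcohFP.map_units_of_tower (R' := X.presheaf.stalk y) S a
    · obtain ⟨f, m, hf, hm⟩ := QCohLoc.exists_smul_stalk_eq_germ F hU hyU z
      refine ⟨⟨F.presheaf.germ U x hxU m, ⟨X.presheaf.germ U x hxU f, ?_⟩⟩, ?_⟩
      · show IsUnit ((X.presheaf.stalkSpecializes h).hom (X.presheaf.germ U x hxU f))
        rw [hgerm]; exact (X.mem_basicOpen f y hyU).1 hf
      · show (X.presheaf.stalkSpecializes h).hom (X.presheaf.germ U x hxU f) • z = F.presheaf.stalkSpecializes h _
        exact (congrArg (fun t => t • z) (hgerm f)).trans (hm.trans (hgermF m).symm)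
    · obtain ⟨g, m, hg, hm⟩ := QCohLoc.exists_smul_stalk_eq_germ F hU hxU (a - b)
      have h0 : F.presheaf.germ U y hyU m = 0 := by
        rw [← hgermF, ← hm]
        show ρ (_ • (a - b)) = 0
        rw [map_smul, map_sub, sub_eq_zero.2 hab, smul_zero]
      obtain ⟨f, hf, hfm⟩ := QCohLoc.exists_smul_eq_zero_of_germ F hU hyU m h0
      refine ⟨⟨X.presheaf.germ U x hxU (f * g), ?_⟩, ?_⟩
      · show IsUnit ((X.presheaf.stalkSpecializes h).hom (X.presheaf.germ U x hxU (f * g)))
        rw [hgerm, map_mul]
        exact ((X.mem_basicOpen f y hyU).1 hf).mul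
          ((X.mem_basicOpen g y hyU).1 (h.mem_open (X.basicOpen g).isOpen hg))
      · rw [Submonoid.smul_def, Submonoid.smul_def, ← sub_eq_zero, ← smul_sub]
        show X.presheaf.germ U x hxU (f * g) • (a - b) = 0
        rw [map_mul, mul_smul, hm, ← QCohLoc.germ_smul', hfm, map_zero]
  exact IsLocalizedModule.isBaseChange S (X.presheaf.stalk y) ρ

/-- Reflexivity of a stalk is inherited by generalizations. -/
theorem isReflexiveAt_of_specializes [IsIntegral X] (hF : Coh.IsCoh F) {y x : X} (h : y ⤳ x)
    (hx : RefHull.IsReflexiveAt F x) : RefHull.IsReflexiveAt F y := by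
  letI := (X.presheaf.stalkSpecializes h).hom.toAlgebra
  letI := Module.compHom (F.presheaf.stalk y) (X.presheaf.stalkSpecializes h).hom
  haveI : IsScalarTower (X.presheaf.stalk x) (X.presheaf.stalk y) (F.presheaf.stalk y) :=
    IsScalarTower.of_algebraMap_smul fun _ _ => rfl
  haveI : Module.Flat (X.presheaf.stalk x) (X.presheaf.stalk y) := Misc15.flat_stalkSpecializes h
  haveI := AssSch12.finite_stalk hF x
  obtain ⟨ρ, hρ⟩ := isBaseChange_stalkSpecializes hF.1 h
  haveI : Module.IsReflexive (X.presheaf.stalk x) (F.presheaf.stalk x) := hx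
  haveI := CAlgMisc2.isReflexive_baseChange (R := X.presheaf.stalk x) (M := F.presheaf.stalk x)
    (R' := X.presheaf.stalk y)
  exact Module.equiv hρ.equiv

end Groth.Agent.RefHullLib
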