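import Groth.Agent.RefHullLib.Extend
import Mathlib

/-!
# Stalks of restrictions to open subschemes
-/

set_option autoImplicit false
set_option backward.isDefEq.respectTransparency.types false
universe u

open CategoryTheory AlgebraicGeometry IsLocalRing Opposite
open Groth.Agent.Coherent Groth.Agent.PicLib

namespace Groth.Agent.RefHullLib

section Algebra

/-- Transport of freeness along a semilinear bijection. -/
theorem free_iff_of_semilinear {R S : Type u} [CommRing R] [CommRing S] (φ : R ≃+* S) {M N : Type u} [AddCommGroup M]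
    [Module R M] [AddCommGroup N] [Module S N] (e : M ≃+ N) (he : ∀ (r : R) (m : M), e (r • m) = φ r • e m) :
    Module.Free R M ↔ Module.Free S N := by
  have key : ∀ {R S : Type u} [CommRing R] [CommRing S] (φ : R ≃+* S) {M N : Type u} [AddCommGroup M]
      [Module R M] [AddCommGroup N] [Module S N] (e : M ≃+ N),
      (∀ (r : R) (m : M), e (r • m) = φ r • e m) → Module.Free R M → Module.Free S N := by
    intro R S _ _ φ M N _ _ _ _ e he h
    obtain ⟨ι, b⟩ := Module.Free.exists_basis (R := R) (M := M)
    refine Module.Free.of_basis (Module.Basis.ofRepr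
      { toAddEquiv := e.symm.trans (b.repr.toAddEquiv.trans (Finsupp.mapRange.addEquiv φ.toAddEquiv))
        map_smul' := fun s n => ?_ })
    have hs : e.symm (s • n) = φ.symm s • e.symm n := e.injective (by simp [he])
    ext i
    simp [hs]
  exact ⟨key φ e he, key φ.symm e.symm fun s n => e.injective (by simp [he])⟩

/-- Transport of reflexivity along a semilinear bijection. -/
theorem isReflexive_of_semilinear {R S : Type u} [CommRing R] [CommRing S] (φ : R ≃+* S) {M N : Type u}
    [AddCommGroup M] [Module R M] [AddCommGroup N] [Module S N] (e : M ≃+ N)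
    (he : ∀ (r : R) (m : M), e (r • m) = φ r • e m) [Module.IsReflexive R M] : Module.IsReflexive S N := by
  have hes : ∀ (s : S) (n : N), e.symm (s • n) = φ.symm s • e.symm n := fun s n => e.injective (by simp [he])
  let pull : Module.Dual S N → Module.Dual R M := fun θ =>
    { toFun := fun m => φ.symm (θ (e m))
      map_add' := fun a b => by simp
      map_smul' := fun r m => by simp [he] }
  let push : Module.Dual R M → Module.Dual S N := fun θ =>
    { toFun := fun n => φ (θ (e.symm n))
      map_add' := fun a b => by simp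
      map_smul' := fun s n => by simp [hes] }
  have hpp : ∀ θ, push (pull θ) = θ := fun θ => LinearMap.ext fun n => by simp [push, pull]
  have hpp' : ∀ θ, pull (push θ) = θ := fun θ => LinearMap.ext fun n => by simp [push, pull]
  refine ⟨⟨fun a b hab => e.symm.injective ((Module.bijective_dual_eval R M).1 (LinearMap.ext fun θ => ?_)),
    fun y => ?_⟩⟩
  · have h : push θ a = push θ b := LinearMap.congr_fun hab (push θ)
    exact φ.injective h
  · let y' : Module.Dual R (Module.Dual R M) :=
      { toFun := fun θ => φ.symm (y (push θ))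
        map_add' := fun a b => by
          rw [show push (a + b) = push a + push b from LinearMap.ext fun n => by simp [push], map_add, map_add]
        map_smul' := fun r θ => by
          rw [show push (r • θ) = φ r • push θ from LinearMap.ext fun n => by simp [push], map_smul]
          simp }
    obtain ⟨m, hm⟩ := (Module.bijective_dual_eval R M).2 y'
    refine ⟨e m, LinearMap.ext fun θ => φ.symm.injective ?_⟩
    have h := LinearMap.congr_fun hm (pull θ)
    simp only [Module.Dual.eval_apply, LinearMap.coe_mk, AddHom.coe_mk, y', hpp] at h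
    exact h

end Algebra

variable {X Z : Scheme.{u}} (f : Z ⟶ X) [IsOpenImmersion f] (M : X.Modules)

/-- The stalks of a restriction. -/
theorem exists_semilinear_restrict (z : Z) :
    ∃ (φ : X.presheaf.stalk (f z) ≃+* Z.presheaf.stalk z)
      (e : M.presheaf.stalk (f z) ≃+ (M.restrict f).presheaf.stalk z),
      (∀ (a : X.presheaf.stalk (f z)) (v : M.presheaf.stalk (f z)), e (a • v) = φ a • e v) ∧
        (∀ a, φ a = f.stalkMap z a) ∧
        ∀ (W : Z.Opens) (hz : z ∈ W) (m : Γ(M, f ''ᵁ W)),
          e (M.presheaf.germ (f ''ᵁ W) (f z) ⟨z, hz, rfl⟩ m) =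
            (M.restrict f).presheaf.germ W z hz ((M.restrictAppIso f W).inv m) := by
  let e : M.presheaf.stalk (f z) ≃+ (M.restrict f).presheaf.stalk z :=
    (CategoryTheory.Iso.addCommGroupIsoToAddEquiv ((Scheme.Modules.restrictStalkNatIso f z).app M)).symm
  let φ : X.presheaf.stalk (f z) ≃+* Z.presheaf.stalk z :=
    RingEquiv.ofBijective (f.stalkMap z).hom (ConcreteCategory.bijective_of_isIso (f.stalkMap z))
  have hgerm : ∀ (W : Z.Opens) (hz : z ∈ W) (m : Γ(M, f ''ᵁ W)),
      e (M.presheaf.germ (f ''ᵁ W) (f z) ⟨z, hz, rfl⟩ m) =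
        (M.restrict f).presheaf.germ W z hz ((M.restrictAppIso f W).inv m) := fun W hz m => by
    apply e.symm.injective
    rw [AddEquiv.symm_apply_apply]
    exact (ConcreteCategory.congr_hom (Scheme.Modules.germ_restrictStalkNatIso_hom_app f z M hz) m).symm
  refine ⟨φ, e, fun a v => ?_, fun a => rfl, hgerm⟩
  obtain ⟨Ua, ha, r, rfl⟩ := X.presheaf.exists_germ_eq a
  obtain ⟨Uv, hv, m, rfl⟩ := M.presheaf.exists_germ_eq v
  let W : Z.Opens := f ⁻¹ᵁ (Ua ⊓ Uv)
  have hz : z ∈ W := ⟨ha, hv⟩
  have hle : f ''ᵁ W ≤ Ua ⊓ Uv := f.image_preimage_le _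
  rw [← TopCat.Presheaf.germ_res_apply X.presheaf (homOfLE (hle.trans (inf_le_left : Ua ⊓ Uv ≤ Ua))) (f z) ⟨z, hz, rfl⟩ r,
    ← TopCat.Presheaf.germ_res_apply M.presheaf (homOfLE (hle.trans (inf_le_right : Ua ⊓ Uv ≤ Uv))) (f z) ⟨z, hz, rfl⟩ m,
    ← QCohLoc.germ_smul', hgerm W hz, hgerm W hz, Scheme.Modules.smul_restrictAppIso_inv_apply, QCohLoc.germ_smul']
  congr 1
  show _ = f.stalkMap z (X.presheaf.germ (f ''ᵁ W) (f z) _ _)
  rw [Scheme.Hom.germ_stalkMap_apply]
  simp only [Scheme.Hom.appIso_hom', Scheme.Hom.app_eq_appLE]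
  exact (congrArg _ (ConcreteCategory.congr_hom (Scheme.Hom.appLE_map f (le_rfl : f ⁻¹ᵁ f ''ᵁ W ≤ f ⁻¹ᵁ f ''ᵁ W)
    (homOfLE (f.preimage_image_eq W).ge).op) _).symm).trans (TopCat.Presheaf.germ_res_apply Z.presheaf _ _ _ _)

theorem isReflexiveAt_restrict_iff (z : Z) :
    RefHull.IsReflexiveAt (M.restrict f) z ↔ RefHull.IsReflexiveAt M (f z) := by
  obtain ⟨φ, e, he, -, -⟩ := exists_semilinear_restrict f M z
  constructor
  · intro h
    haveI : Module.IsReflexive (Z.presheaf.stalk z) ((M.restrict f).presheaf.stalk z) := h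
    exact isReflexive_of_semilinear φ.symm e.symm fun a v => e.injective (by simp [he])
  · intro h
    haveI : Module.IsReflexive (X.presheaf.stalk (f z)) (M.presheaf.stalk (f z)) := h
    exact isReflexive_of_semilinear φ e he

theorem free_stalk_restrict_iff (z : Z) :
    Module.Free (Z.presheaf.stalk z) ((M.restrict f).presheaf.stalk z) ↔
      Module.Free (X.presheaf.stalk (f z)) (M.presheaf.stalk (f z)) := by
  obtain ⟨φ, e, he, -, -⟩ := exists_semilinear_restrict f M z
  exact (free_iff_of_semilinear φ e he).symm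

end Groth.Agent.RefHullLib
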