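import Groth.Agent.RefHullLib.Ord
import Groth.Agent.AmpleLib.Tensor
import Groth.Agent.AmpleLib.Power
import Groth.Agent.Coherent.TensorQcoh
import Groth.Agent.KLLib.Basic
import Mathlib

/-!
# Generators of stalks of tensor products, and spreading them out
-/

set_option autoImplicit false
set_option backward.isDefEq.respectTransparency.types false
universe u

open CategoryTheory AlgebraicGeometry IsLocalRing TopologicalSpace
open Groth.Agent.Coherent Groth.Agent.PicLib Groth.Agent.AmpleLib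

namespace Groth.Agent.RefHullLib

variable {X : Scheme.{u}}

/-- A section generating every stalk generates. -/
theorem isGen_of_bijective_germ {F : X.Modules} {U : X.Opens} (s : Γ(F, U))
    (h : ∀ (y : X) (hy : y ∈ U), Function.Bijective fun a : X.presheaf.stalk y => a • F.presheaf.germ U y hy s) :
    IsGen F U s := by
  intro V hV
  have hres : ∀ (y : X) (hy : y ∈ V), F.presheaf.germ V y hy (resM F hV s) = F.presheaf.germ U y (hV hy) s :=
    fun y hy => TopCat.Presheaf.germ_res_apply F.presheaf _ _ _ _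
  have hinjW : ∀ (W : X.Opens) (hW : W ≤ V), Function.Injective
      fun r : Γ(X, W) => r • resM F hW (resM F hV s) := by
    intro W hW r r' e
    refine TopCat.Presheaf.section_ext X.sheaf W r r' fun y hy => ?_
    have e' := congrArg (F.presheaf.germ W y hy) e
    rw [QCohLoc.germ_smul', QCohLoc.germ_smul',
      show F.presheaf.germ W y hy (resM F hW (resM F hV s)) = F.presheaf.germ U y (hV (hW hy)) s from
        (TopCat.Presheaf.germ_res_apply F.presheaf _ _ _ _).trans (hres y (hW hy))] at e'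
    exact (h y _).1 e'
  refine ⟨fun r r' e => hinjW V le_rfl (by simpa only [resM_self] using e), fun z => ?_⟩
  have loc : ∀ y : V, ∃ (W : X.Opens) (hW : W ≤ V), y.1 ∈ W ∧
      ∃ r : Γ(X, W), r • resM F hW (resM F hV s) = resM F hW z := by
    intro y
    obtain ⟨a, ha⟩ := (h y.1 (hV y.2)).2 (F.presheaf.germ V y.1 y.2 z)
    obtain ⟨W₀, hy0, r₀, rfl⟩ := X.presheaf.exists_germ_eq a
    have hym : y.1 ∈ W₀ ⊓ V := ⟨hy0, y.2⟩
    have he : F.presheaf.germ (W₀ ⊓ V) y.1 hym
        (res (inf_le_left : W₀ ⊓ V ≤ W₀) r₀ • resM F inf_le_right (resM F hV s)) =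
        F.presheaf.germ (W₀ ⊓ V) y.1 hym (resM F inf_le_right z) := by
      refine (QCohLoc.germ_smul' (M := F) hym _ _).trans ?_
      refine Eq.trans ?_ (TopCat.Presheaf.germ_res_apply F.presheaf _ _ hym z).symm
      refine Eq.trans ?_ ha
      exact congrArg₂ (· • ·) (TopCat.Presheaf.germ_res_apply X.presheaf _ _ hym _)
        ((TopCat.Presheaf.germ_res_apply F.presheaf _ _ hym _).trans (hres y.1 y.2))
    obtain ⟨W, hyW, i, j, hW⟩ := F.presheaf.germ_eq y.1 _ _ _ _ he
    have hWle : W ≤ W₀ ⊓ V := i.le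
    refine ⟨W, hWle.trans inf_le_right, hyW, res hWle (res inf_le_left r₀), ?_⟩
    have e1 : resM F hWle (res (inf_le_left : W₀ ⊓ V ≤ W₀) r₀ • resM F inf_le_right (resM F hV s)) =
        resM F hWle (resM F inf_le_right z) := hW
    simpa only [resM_smul, resM_resM] using e1
  choose W hWle hyW r hr using loc
  have hcov : V ≤ ⨆ y : V, W y := fun y hy => Opens.mem_iSup.2 ⟨⟨y, hy⟩, hyW ⟨y, hy⟩⟩
  obtain ⟨ρ, hρ, -⟩ := TopCat.Sheaf.existsUnique_gluing' X.sheaf W V (fun y => homOfLE (hWle y)) hcov r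
    (fun i j => by
      refine hinjW (W i ⊓ W j) (inf_le_left.trans (hWle i)) ?_
      have hl := congrArg (resM F (inf_le_left : W i ⊓ W j ≤ W i)) (hr i)
      have hr' := congrArg (resM F (inf_le_right : W i ⊓ W j ≤ W j)) (hr j)
      simp only [resM_smul, resM_resM] at hl hr' ⊢
      exact hl.trans hr'.symm)
  refine ⟨(show Γ(X, V) from ρ), TopCat.Sheaf.eq_of_locally_eq'
    (⟨F.presheaf, F.isSheaf⟩ : TopCat.Sheaf Ab X) W V (fun y => homOfLE (hWle y)) hcov _ _ fun y => ?_⟩
  show resM F (hWle y) ((show Γ(X, V) from ρ) • resM F hV s) = resM F (hWle y) z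
  rw [resM_smul]
  exact (congrArg (fun c : Γ(X, W y) => c • resM F (hWle y) (resM F hV s)) (hρ y)).trans (hr y)

/-- Germs of tensors only depend on germs. -/
theorem germ_tmul_eq {F G : X.Modules} {U V : X.Opens} {y : X} (hU : y ∈ U) (hV : y ∈ V)
    (a : Γ(F, U)) (b : Γ(G, U)) (s : Γ(F, V)) (t : Γ(G, V)) (α β : X.presheaf.stalk y)
    (ha : F.presheaf.germ U y hU a = α • F.presheaf.germ V y hV s)
    (hb : G.presheaf.germ U y hU b = β • G.presheaf.germ V y hV t) :
    (CohB1.tensorMod F G).presheaf.germ U y hU (tmul a b) =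
      (α * β) • (CohB1.tensorMod F G).presheaf.germ V y hV (tmul s t) := by
  obtain ⟨Wa, hya, ra, rfl⟩ := X.presheaf.exists_germ_eq α
  obtain ⟨Wb, hyb, rb, rfl⟩ := X.presheaf.exists_germ_eq β
  let W := U ⊓ V ⊓ Wa ⊓ Wb
  have hU' : W ≤ U := inf_le_left.trans (inf_le_left.trans inf_le_left)
  have hV' : W ≤ V := inf_le_left.trans (inf_le_left.trans inf_le_right)
  have ha' : W ≤ Wa := inf_le_left.trans inf_le_right
  have hb' : W ≤ Wb := inf_le_right
  have hy : y ∈ W := ⟨⟨⟨hU, hV⟩, hya⟩, hyb⟩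
  have eA : F.presheaf.germ W y hy (resM F hU' a) = F.presheaf.germ W y hy (res ha' ra • resM F hV' s) := by
    rw [QCohLoc.germ_smul']
    show F.presheaf.germ W y hy (F.presheaf.map _ a) = _
    rw [TopCat.Presheaf.germ_res_apply, ha]
    exact congrArg₂ (· • ·) (TopCat.Presheaf.germ_res_apply X.presheaf _ _ _ _).symm
      (TopCat.Presheaf.germ_res_apply F.presheaf _ _ _ _).symm
  have eB : G.presheaf.germ W y hy (resM G hU' b) = G.presheaf.germ W y hy (res hb' rb • resM G hV' t) := by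
    rw [QCohLoc.germ_smul']
    show G.presheaf.germ W y hy (G.presheaf.map _ b) = _
    rw [TopCat.Presheaf.germ_res_apply, hb]
    exact congrArg₂ (· • ·) (TopCat.Presheaf.germ_res_apply X.presheaf _ _ _ _).symm
      (TopCat.Presheaf.germ_res_apply G.presheaf _ _ _ _).symm
  obtain ⟨W1, hy1, i1, j1, e1⟩ := F.presheaf.germ_eq y hy hy _ _ eA
  obtain ⟨W2, hy2, i2, j2, e2⟩ := G.presheaf.germ_eq y hy hy _ _ eB
  have hA : W1 ⊓ W2 ≤ W := inf_le_left.trans i1.le
  have e1' : resM F (inf_le_left : W1 ⊓ W2 ≤ W1) (resM F i1.le (resM F hU' a)) =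
      resM F inf_le_left (resM F i1.le (res ha' ra • resM F hV' s)) := congrArg _ e1
  have e2' : resM G (inf_le_right : W1 ⊓ W2 ≤ W2) (resM G i2.le (resM G hU' b)) =
      resM G inf_le_right (resM G i2.le (res hb' rb • resM G hV' t)) := congrArg _ e2
  rw [resM_resM, resM_resM, resM_smul, resM_smul, resM_resM, resM_resM] at e1' e2'
  have hY : y ∈ W1 ⊓ W2 := ⟨hy1, hy2⟩
  rw [← TopCat.Presheaf.germ_res_apply (CohB1.tensorMod F G).presheaf (homOfLE (hA.trans hU')) y hY]
  show (CohB1.tensorMod F G).presheaf.germ _ y hY (resM _ (hA.trans hU') (tmul a b)) = _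
  rw [resM_tmul, e1', e2', tmul_smul_smul, QCohLoc.germ_smul', map_mul, ← resM_tmul]
  refine congrArg₂ (· • ·) (congrArg₂ (· * ·) ?_ ?_) (TopCat.Presheaf.germ_res_apply _ _ _ _ _)
  · rw [PicLib.res_res, PicLib.res_res]; exact TopCat.Presheaf.germ_res_apply X.presheaf _ _ _ _
  · rw [PicLib.res_res, PicLib.res_res]; exact TopCat.Presheaf.germ_res_apply X.presheaf _ _ _ _

/-- Tensors of generators of stalks generate the stalk of the tensor product. -/
theorem surjective_smul_germ_tmul {F G : X.Modules} {V : X.Opens} {y : X} (hV : y ∈ V) (s : Γ(F, V))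
    (t : Γ(G, V)) (hs : Function.Surjective fun a : X.presheaf.stalk y => a • F.presheaf.germ V y hV s)
    (ht : Function.Surjective fun a : X.presheaf.stalk y => a • G.presheaf.germ V y hV t) :
    Function.Surjective fun a : X.presheaf.stalk y =>
      a • (CohB1.tensorMod F G).presheaf.germ V y hV (tmul s t) := by
  intro v
  obtain ⟨U, hU, z, rfl⟩ := TopCat.Presheaf.exists_germ_eq _ v
  revert hU
  refine induction_local
    (P := fun U z => ∀ hU : y ∈ U, ∃ a : X.presheaf.stalk y,
      a • (CohB1.tensorMod F G).presheaf.germ V y hV (tmul s t) = (CohB1.tensorMod F G).presheaf.germ U y hU z)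
    (fun U z z' h h' hU => ?_) (fun U hU => ⟨0, by rw [zero_smul, map_zero]⟩) (fun U z h hU => ?_)
    (fun U a b hU => ?_) U z
  · obtain ⟨c, hc⟩ := h hU
    obtain ⟨c', hc'⟩ := h' hU
    exact ⟨c + c', by rw [add_smul, hc, hc', map_add]⟩
  · obtain ⟨W, hW, hyW, h'⟩ := h y hU
    obtain ⟨c, hc⟩ := h' hyW
    exact ⟨c, hc.trans (TopCat.Presheaf.germ_res_apply _ _ _ _ _)⟩
  · obtain ⟨α, hα⟩ := hs (F.presheaf.germ U y hU a)
    obtain ⟨β, hβ⟩ := ht (G.presheaf.germ U y hU b)
    exact ⟨α * β, (germ_tmul_eq hU hV a b s t α β hα.symm hβ.symm).symm⟩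

variable [IsIntegral X] [IsLocallyNoetherian X]

/-- A generator of a stalk spreads out. -/
theorem exists_isGen_near {F : X.Modules} (hF : Coh.IsCoh F) {x : X} (t : F.presheaf.stalk x)
    (ht : Function.Bijective fun a : X.presheaf.stalk x => a • t) :
    ∃ (W : X.Opens) (hx : x ∈ W) (s : Γ(F, W)), IsGen F W s ∧ F.presheaf.germ W x hx s = t := by
  classical
  haveI := hF.1
  obtain ⟨V₀, hx0, m₀, hm₀⟩ := F.presheaf.exists_germ_eq t
  obtain ⟨_, ⟨U, hU, rfl⟩, hxU, hUV⟩ :=
    X.isBasis_affineOpens.exists_subset_of_mem_open (show x ∈ (V₀ : Set X) from hx0) V₀.isOpen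
  let m : Γ(F, U) := resM F hUV m₀
  have hm : F.presheaf.germ U x hxU m = t := (TopCat.Presheaf.germ_res_apply F.presheaf _ _ _ _).trans hm₀
  haveI := finite_sections F (locallyFinGen_of_isFT F hF.2) hU
  obtain ⟨gens, hgens⟩ := Module.Finite.fg_top (R := Γ(X, U)) (M := Γ(F, U))
  have hfrac : ∀ n : Γ(F, U), ∃ g a : Γ(X, U), x ∈ X.basicOpen g ∧ g • n = a • m := by
    intro n
    obtain ⟨c, hc⟩ := ht.2 (F.presheaf.germ U x hxU n)
    dsimp only at hc
    letI := X.presheaf.algebra_section_stalk (⟨x, hxU⟩ : U)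
    haveI := hU.isLocalization_stalk ⟨x, hxU⟩
    obtain ⟨⟨a, g⟩, hag⟩ := IsLocalization.surj (hU.primeIdealOf ⟨x, hxU⟩).asIdeal.primeCompl c
    have hag' : c * X.presheaf.germ U x hxU g.1 = X.presheaf.germ U x hxU a := hag
    have h0 : F.presheaf.germ U x hxU (g.1 • n - a • m) = 0 := by
      rw [map_sub, QCohLoc.germ_smul', QCohLoc.germ_smul', ← hag', ← hc, hm, ← mul_smul, mul_comm c, sub_self]
    obtain ⟨f, hf, hf0⟩ := QCohLoc.exists_smul_eq_zero_of_germ F hU hxU _ h0
    refine ⟨f * g.1, f * a, ?_, ?_⟩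
    · rw [Scheme.mem_basicOpen _ _ _ hxU, map_mul]
      exact ((X.mem_basicOpen f x hxU).1 hf).mul (IsLocalization.map_units (X.presheaf.stalk x) g)
    · rw [smul_sub, sub_eq_zero, ← mul_smul, ← mul_smul] at hf0
      exact hf0
  choose g a hg hga using hfrac
  let f : Γ(X, U) := ∏ n ∈ gens, g n
  have hxf : x ∈ X.basicOpen f := by
    rw [Scheme.mem_basicOpen _ _ _ hxU, map_prod]
    exact IsUnit.prod_iff.2 fun n _ => (X.mem_basicOpen (g n) x hxU).1 (hg n)
  have hspan : ∀ n : Γ(F, U), ∃ b : Γ(X, U), f • n = b • m := fun n => by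
    induction (hgens.symm ▸ Submodule.mem_top : n ∈ Submodule.span Γ(X, U) (gens : Set Γ(F, U)))
      using Submodule.span_induction with
    | mem k hk => exact ⟨(∏ i ∈ gens.erase k, g i) * a k, by
        rw [mul_smul, ← hga k, ← mul_smul]
        exact congrArg (· • k) (Finset.prod_erase_mul gens g hk).symm⟩
    | zero => exact ⟨0, by rw [smul_zero, zero_smul]⟩
    | add k l _ _ hk hl =>
      obtain ⟨b, hb⟩ := hk
      obtain ⟨b', hb'⟩ := hl
      exact ⟨b + b', by rw [smul_add, hb, hb', add_smul]⟩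
    | smul r k _ hk =>
      obtain ⟨b, hb⟩ := hk
      exact ⟨r * b, by rw [smul_comm, hb, mul_smul]⟩
  have hW : X.basicOpen f ≤ U := X.basicOpen_le f
  refine ⟨X.basicOpen f, hxf, resM F hW m, isGen_of_bijective_germ _ fun y hy => ?_,
    (TopCat.Presheaf.germ_res_apply F.presheaf _ _ _ _).trans hm⟩
  have hgy : F.presheaf.germ _ y hy (resM F hW m) = F.presheaf.germ U y (hW hy) m :=
    TopCat.Presheaf.germ_res_apply F.presheaf _ _ _ _
  rw [hgy]
  refine ⟨fun c c' e => ?_, fun v => ?_⟩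
  · have e' : toGen F y (c • F.presheaf.germ U y (hW hy) m) = toGen F y (c' • F.presheaf.germ U y (hW hy) m) :=
      congrArg _ e
    rw [toGen_smul, toGen_smul, toGen_germ, ← toGen_germ F hxU, hm] at e'
    exact toGenRing_injective y ((bijective_smul_toGen hF.1 ht).1 e')
  · obtain ⟨k, n, hk, hkn⟩ := QCohLoc.exists_smul_stalk_eq_germ F hU (hW hy) v
    obtain ⟨b, hb⟩ := hspan n
    have hu : IsUnit (X.presheaf.germ U y (hW hy) f * X.presheaf.germ U y (hW hy) k) :=
      ((X.mem_basicOpen f y (hW hy)).1 hy).mul ((X.mem_basicOpen k y (hW hy)).1 hk)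
    obtain ⟨w, hw⟩ := hu
    refine ⟨↑w⁻¹ * X.presheaf.germ U y (hW hy) b, ?_⟩
    dsimp only
    rw [mul_smul, ← QCohLoc.germ_smul', ← hb, QCohLoc.germ_smul', ← hkn, ← mul_smul _ _ v, ← hw, ← mul_smul,
      Units.inv_mul, one_smul]

theorem genInvertible_of_isGen {F : X.Modules} {U : X.Opens} (hη : genericPoint X ∈ U) {s : Γ(F, U)}
    (hs : IsGen F U s) : RefHull.GenInvertible F := by
  refine ⟨U, U.isOpen.dense ⟨_, hη⟩, ?_⟩
  obtain ⟨e⟩ := nonempty_restrict_iso hs
  exact KLLib.isInvertible_of_iso e.symm isInvertible_structureModule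

theorem genInvertible_of_bijective_genericPoint {F : X.Modules} (hF : Coh.IsCoh F)
    (t : F.presheaf.stalk (genericPoint X))
    (ht : Function.Bijective fun a : X.presheaf.stalk (genericPoint X) => a • t) : RefHull.GenInvertible F := by
  obtain ⟨W, hW, s, hs, -⟩ := exists_isGen_near hF t ht
  exact genInvertible_of_isGen hW hs

/-- At a point of codimension one a rank one reflexive module on a normal scheme has a generator. -/
theorem exists_gen_codimOne {F : X.Modules} (hX : Pi1.IsNormalScheme X) (hF : RefHull.IsRef1 F) {x : X}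
    (hx : ringKrullDim (X.presheaf.stalk x) ≤ 1) :
    ∃ t : F.presheaf.stalk x, Function.Bijective fun a : X.presheaf.stalk x => a • t := by
  haveI := (hX x).1
  haveI := (hX x).2
  haveI : IsRegularLocalRing (X.presheaf.stalk x) := CAlgH3.isRegularLocalRing_of_normal_dim_le_one hx
  haveI := AssSch12.finite_stalk hF.1 x
  haveI : Module.IsReflexive (X.presheaf.stalk x) (F.presheaf.stalk x) := (isReflexive_iff_stalks hF.1).1 hF.2.1 x
  haveI := free_of_torsionFree_of_dim_le_one (M := F.presheaf.stalk x) hx inferInstance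
  have hrk := finrank_stalk_eq_one hF.1.1 hF.2.2 x
  obtain ⟨b⟩ : Nonempty (Module.Basis (Fin 1) (X.presheaf.stalk x) (F.presheaf.stalk x)) :=
    ⟨Module.finBasisOfFinrankEq _ _ hrk⟩
  refine ⟨b 0, ?_⟩
  have e : (fun a : X.presheaf.stalk x => a • b 0) =
      b.equivFun.symm ∘ (LinearEquiv.funUnique (Fin 1) (X.presheaf.stalk x) (X.presheaf.stalk x)).symm := by
    funext c
    simp [Module.Basis.equivFun_symm_apply]
  rw [e]
  exact b.equivFun.symm.bijective.comp (LinearEquiv.funUnique _ _ _).symm.bijective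

/-- The common coordinate system at the generic point for a pair of modules and their tensor product. -/
structure TensorFrame (F G : X.Modules) where
  /-- A generator of the first generic stalk. -/
  f : F.presheaf.stalk (genericPoint X)
  /-- A generator of the second generic stalk. -/
  g : G.presheaf.stalk (genericPoint X)
  /-- Their product. -/
  z : (CohB1.tensorMod F G).presheaf.stalk (genericPoint X)
  bij_f : Function.Bijective fun a : X.presheaf.stalk (genericPoint X) => a • f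
  bij_g : Function.Bijective fun a : X.presheaf.stalk (genericPoint X) => a • g
  bij_z : Function.Bijective fun a : X.presheaf.stalk (genericPoint X) => a • z
  tmul_eq : ∀ (V : X.Opens) (hV : genericPoint X ∈ V) (s : Γ(F, V)) (t : Γ(G, V))
    (a b : X.presheaf.stalk (genericPoint X)), F.presheaf.germ V _ hV s = a • f →
      G.presheaf.germ V _ hV t = b • g → (CohB1.tensorMod F G).presheaf.germ V _ hV (tmul s t) = (a * b) • z

theorem exists_tensorFrame {F G : X.Modules} (hF : RefHull.GenInvertible F) (hG : RefHull.GenInvertible G) :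
    Nonempty (TensorFrame F G) := by
  obtain ⟨U, hU, s, hs⟩ := exists_gen_genericPoint hF
  obtain ⟨V, hV, t, ht⟩ := exists_gen_genericPoint hG
  have hW : genericPoint X ∈ U ⊓ V := ⟨hU, hV⟩
  have hs' := hs.restrict (inf_le_left : U ⊓ V ≤ U)
  have ht' := ht.restrict (inf_le_right : U ⊓ V ≤ V)
  exact ⟨⟨_, _, _, SDiv28.bijective_smul_germ_gen hs' hW, SDiv28.bijective_smul_germ_gen ht' hW,
    SDiv28.bijective_smul_germ_gen (isGen_tmul hs' ht') hW,
    fun V' hV' a b α β ha hb => germ_tmul_eq hV' hW a b _ _ α β ha hb⟩⟩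

/-- The stalk generators multiply. -/
theorem TensorFrame.exists_gen {F G : X.Modules} (T : TensorFrame F G) {x : X} {t : F.presheaf.stalk x}
    {t' : G.presheaf.stalk x} (ht : Function.Bijective fun a : X.presheaf.stalk x => a • t)
    (ht' : Function.Bijective fun a : X.presheaf.stalk x => a • t')
    (a b : X.presheaf.stalk (genericPoint X)) (ha : toGen F x t = a • T.f) (hb : toGen G x t' = b • T.g)
    (hab : a * b ≠ 0) :
    ∃ w : (CohB1.tensorMod F G).presheaf.stalk x,
      (Function.Bijective fun c : X.presheaf.stalk x => c • w) ∧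
        toGen (CohB1.tensorMod F G) x w = (a * b) • T.z := by
  obtain ⟨U, hU, s, rfl⟩ := F.presheaf.exists_germ_eq t
  obtain ⟨V, hV, r, rfl⟩ := G.presheaf.exists_germ_eq t'
  let s' := resM F (inf_le_left : U ⊓ V ≤ U) s
  let r' := resM G (inf_le_right : U ⊓ V ≤ V) r
  have es : F.presheaf.germ (U ⊓ V) x ⟨hU, hV⟩ s' = F.presheaf.germ U x hU s :=
    TopCat.Presheaf.germ_res_apply F.presheaf _ _ _ _
  have er : G.presheaf.germ (U ⊓ V) x ⟨hU, hV⟩ r' = G.presheaf.germ V x hV r :=
    TopCat.Presheaf.germ_res_apply G.presheaf _ _ _ _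
  have hz : toGen (CohB1.tensorMod F G) x
      ((CohB1.tensorMod F G).presheaf.germ (U ⊓ V) x ⟨hU, hV⟩ (tmul s' r')) = (a * b) • T.z := by
    rw [toGen_germ]
    exact T.tmul_eq _ _ s' r' a b (by rw [← ha, ← es, toGen_germ]) (by rw [← hb, ← er, toGen_germ])
  refine ⟨_, ⟨fun c c' e => toGenRing_injective x ?_,
    surjective_smul_germ_tmul (F := F) (G := G) (show x ∈ U ⊓ V from ⟨hU, hV⟩) s' r' (by rw [es]; exact ht.2) (by rw [er]; exact ht'.2)⟩, hz⟩
  have e' := congrArg (toGen (CohB1.tensorMod F G) x) e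
  dsimp only at e'
  rw [toGen_smul, toGen_smul, hz, ← mul_smul, ← mul_smul] at e'
  letI : Field (X.presheaf.stalk (genericPoint X)) := inferInstanceAs (Field X.functionField)
  exact mul_right_cancel₀ hab (T.bij_z.1 e')

end Groth.Agent.RefHullLib
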