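import Groth.Agent.RefHullLib.Eval
import Groth.Agent.Coherent.FiniteType
import Groth.Agent.Coherent.QcohLocal
import Mathlib

/-!
# The sheaf Hom of coherent modules is coherent
-/

set_option autoImplicit false
set_option backward.isDefEq.respectTransparency.types false
universe u

open CategoryTheory AlgebraicGeometry Opposite TopologicalSpace
open Groth.Agent.Coherent

namespace Groth.Agent.RefHullLib

variable {X : Scheme.{u}} {F G : X.Modules}

theorem section_eq_zero_of_germ {U : X.Opens} (b : Γ(G, U))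
    (h : ∀ (y : X) (hy : y ∈ U), G.presheaf.germ U y hy b = 0) : b = 0 := by
  apply TopCat.Presheaf.section_ext (⟨G.presheaf, G.isSheaf⟩ : TopCat.Sheaf Ab X)
  intro y hy
  exact (h y hy).trans (map_zero _).symm

theorem section_eq_of_germ {U : X.Opens} (a b : Γ(G, U))
    (h : ∀ (y : X) (hy : y ∈ U), G.presheaf.germ U y hy a = G.presheaf.germ U y hy b) : a = b :=
  TopCat.Presheaf.section_ext (⟨G.presheaf, G.isSheaf⟩ : TopCat.Sheaf Ab X) _ a b h

/-- Finitely many generators on an affine open, indexed in the universe of the scheme. -/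
theorem exists_span_ulift [F.IsQuasicoherent] {U : X.Opens} [Module.Finite Γ(X, U) Γ(F, U)] :
    ∃ (n : ℕ) (s : ULift.{u} (Fin n) → Γ(F, U)), Submodule.span Γ(X, U) (Set.range s) = ⊤ := by
  obtain ⟨n, t, ht⟩ := Module.Finite.exists_fin (R := Γ(X, U)) (M := Γ(F, U))
  refine ⟨n, fun i => t i.down, ?_⟩
  rw [← ht]
  exact congrArg _ (Set.ext fun a => ⟨fun ⟨i, hi⟩ => ⟨i.down, hi⟩, fun ⟨i, hi⟩ => ⟨⟨i⟩, hi⟩⟩)

variable [IsLocallyNoetherian X]

theorem localizesOn_homSh (hF : Coh.IsCoh F) [Coh.IsQCoh G] {U : X.Opens} (hU : IsAffineOpen U) :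
    LocalizesOn (RefHull.homSh F G) U := by
  haveI : F.IsQuasicoherent := hF.1
  haveI : IsNoetherianRing Γ(X, U) := IsLocallyNoetherian.component_noetherian ⟨U, hU⟩
  haveI : Module.Finite Γ(X, U) Γ(F, U) := ((isCoh_iff_finite_sections F).1 hF).2 U hU
  obtain ⟨n, s, hspan⟩ := exists_span_ulift (F := F) (U := U)
  have hgen := genOn_of_span hU hspan
  constructor
  · intro f g
    choose b hb using fun i => exists_evalSec g (resM F (X.basicOpen_le f) (s i))
    choose k t ht using fun i => qcoh_exists_pow_smul hU G f (b i)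
    classical
    let K := Finset.univ.sup k
    let t1 : ULift.{u} (Fin n) → Γ(G, U) := fun i => f ^ (K - k i) • t i
    have ht1 : ∀ (i) (y : X) (hy : y ∈ X.basicOpen f),
        G.presheaf.germ U y (X.basicOpen_le f hy) (t1 i) =
          X.presheaf.germ U y (X.basicOpen_le f hy) (f ^ K) •
            g.1 ⟨y, hy⟩ (F.presheaf.germ U y (X.basicOpen_le f hy) (s i)) := by
      intro i y hy
      have h1 := congr(G.presheaf.germ (X.basicOpen f) y hy $(ht i))
      rw [TopCat.Presheaf.germ_res_apply, QCohLoc.germ_smul', TopCat.Presheaf.germ_res_apply, hb i ⟨y, hy⟩,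
        TopCat.Presheaf.germ_res_apply] at h1
      rw [QCohLoc.germ_smul', h1, smul_smul, ← map_mul, ← pow_add, Nat.sub_add_cancel (Finset.le_sup (Finset.mem_univ i))]
    let L : (ULift.{u} (Fin n) → Γ(X, U)) →ₗ[Γ(X, U)] Γ(F, U) := Fintype.linearCombination Γ(X, U) s
    obtain ⟨R, hR⟩ : (LinearMap.ker L).FG := IsNoetherian.noetherian _
    let rel : (ULift.{u} (Fin n) → Γ(X, U)) →ₗ[Γ(X, U)] Γ(G, U) := Fintype.linearCombination Γ(X, U) t1
    have hrel : ∀ r : R, ∃ l : ℕ, f ^ l • rel r.1 = 0 := fun r => by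
      refine qcoh_exists_pow_smul_eq_zero hU G f _ (section_eq_zero_of_germ _ fun y hy => ?_)
      have hr : L r.1 = 0 := LinearMap.mem_ker.1 (hR ▸ Submodule.subset_span r.2)
      have h1 := congr(X.presheaf.germ U y (X.basicOpen_le f hy) (f ^ K) •
        g.1 ⟨y, hy⟩ (F.presheaf.germ U y (X.basicOpen_le f hy) $hr))
      rw [Fintype.linearCombination_apply, map_sum, map_sum, map_zero, map_zero, smul_zero, Finset.smul_sum] at h1
      rw [TopCat.Presheaf.germ_res_apply, Fintype.linearCombination_apply, map_sum, ← h1]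
      refine Finset.sum_congr rfl fun i _ => ?_
      rw [QCohLoc.germ_smul' G _ (r.1 i) (t1 i), ht1 i y hy, QCohLoc.germ_smul' F _ (r.1 i) (s i),
        LinearMap.map_smul, smul_comm]
    choose l hl using hrel
    let N := Finset.univ.sup l
    have hm : ∀ r : ULift.{u} (Fin n) → Γ(X, U), ∑ i, r i • s i = 0 →
        ∀ (y : X) (hy : y ∈ U), ∑ i, X.presheaf.germ U y ((le_refl U) hy) (r i) •
          G.presheaf.germ U y hy (f ^ N • t1 i) = 0 := by
      intro r hr y hy
      have hr' : r ∈ Submodule.span Γ(X, U) (R : Set (ULift.{u} (Fin n) → Γ(X, U))) := by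
        rw [hR, LinearMap.mem_ker, Fintype.linearCombination_apply]; exact hr
      have h0 : f ^ N • rel r = 0 := by
        clear hr
        induction hr' using Submodule.span_induction with
        | mem a ha =>
          obtain ⟨d, hd⟩ := Nat.le.dest (Finset.le_sup (f := l) (Finset.mem_univ (⟨a, ha⟩ : R)))
          show f ^ Finset.univ.sup l • rel a = 0
          rw [← hd, pow_add, mul_comm, mul_smul, hl ⟨a, ha⟩, smul_zero]
        | zero => rw [map_zero, smul_zero]
        | add a b _ _ ha hb => rw [map_add, smul_add, ha, hb, add_zero]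
        | smul c a _ ha => rw [map_smul, smul_comm, ha, smul_zero]
      have h1 := congr(G.presheaf.germ U y hy $h0)
      rw [Fintype.linearCombination_apply, Finset.smul_sum, map_sum, map_zero] at h1
      refine Eq.trans (Finset.sum_congr rfl fun i _ => ?_) h1
      rw [← QCohLoc.germ_smul', smul_comm]
    obtain ⟨h, hh⟩ := exists_homSec hU hspan le_rfl (fun i => f ^ N • t1 i) hm
    refine ⟨N + K, h, homSh_hom_ext (X.basicOpen_le f) hgen fun i y => ?_⟩
    rw [homSh_res_apply, homSh_smul_apply, TopCat.Presheaf.germ_res_apply, hh i ⟨y.1, X.basicOpen_le f y.2⟩,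
      QCohLoc.germ_smul', ht1 i y.1 y.2, smul_smul, ← map_mul, ← pow_add]
  · intro f g hg
    choose b hb using fun i => exists_evalSec g (s i)
    have h0 : ∀ i, ∃ k : ℕ, f ^ k • b i = 0 := fun i => by
      refine qcoh_exists_pow_smul_eq_zero hU G f _ (section_eq_zero_of_germ _ fun y hy => ?_)
      rw [TopCat.Presheaf.germ_res_apply, hb i ⟨y, X.basicOpen_le f hy⟩,
        ← homSh_res_apply (X.basicOpen_le f) g ⟨y, hy⟩, hg]
      exact LinearMap.zero_apply _
    choose k hk using h0
    classical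
    refine ⟨Finset.univ.sup k, homSh_hom_ext le_rfl hgen fun i y => ?_⟩
    obtain ⟨d, hd⟩ := Nat.le.dest (Finset.le_sup (f := k) (Finset.mem_univ i))
    rw [homSh_smul_apply, ← hb i y, ← QCohLoc.germ_smul', ← hd, pow_add, mul_comm, mul_smul, hk i,
      smul_zero, map_zero]
    exact (LinearMap.zero_apply _).symm

theorem isQCoh_homSh (hF : Coh.IsCoh F) (hG : Coh.IsQCoh G) : Coh.IsQCoh (RefHull.homSh F G) :=
  haveI := hG
  (isQCoh_iff_localizesOn _).2 fun _ hU => localizesOn_homSh hF hU

theorem isCoh_homSh (hF : Coh.IsCoh F) (hG : Coh.IsCoh G) : Coh.IsCoh (RefHull.homSh F G) := by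
  refine (isCoh_iff_finite_sections _).2 ⟨isQCoh_homSh hF hG.1, fun U hU => ?_⟩
  haveI : F.IsQuasicoherent := hF.1
  haveI : IsNoetherianRing Γ(X, U) := IsLocallyNoetherian.component_noetherian ⟨U, hU⟩
  haveI : Module.Finite Γ(X, U) Γ(F, U) := ((isCoh_iff_finite_sections F).1 hF).2 U hU
  haveI : Module.Finite Γ(X, U) Γ(G, U) := ((isCoh_iff_finite_sections G).1 hG).2 U hU
  obtain ⟨n, s, hspan⟩ := exists_span_ulift (F := F) (U := U)
  choose b hb using fun (g : Γ(RefHull.homSh F G, U)) (i : ULift.{u} (Fin n)) => exists_evalSec g (s i)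
  let φ : Γ(RefHull.homSh F G, U) →ₗ[Γ(X, U)] (ULift.{u} (Fin n) → Γ(G, U)) :=
    { toFun := fun g i => b g i
      map_add' := fun g g' => funext fun i => section_eq_of_germ _ _ fun y hy => by
        show G.presheaf.germ U y hy (b (g + g') i) = G.presheaf.germ U y hy (b g i + b g' i)
        rw [map_add, hb _ i ⟨y, hy⟩, hb g i ⟨y, hy⟩, hb g' i ⟨y, hy⟩]
        exact LinearMap.add_apply _ _ _
      map_smul' := fun r g => funext fun i => section_eq_of_germ _ _ fun y hy => by
        show G.presheaf.germ U y hy (b (r • g) i) = G.presheaf.germ U y hy (r • b g i)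
        rw [QCohLoc.germ_smul', hb _ i ⟨y, hy⟩, hb g i ⟨y, hy⟩, homSh_smul_apply] }
  refine Module.Finite.of_injective φ fun g g' h => ?_
  refine homSh_hom_ext le_rfl (genOn_of_span hU hspan) fun i y => ?_
  rw [← hb g i y, ← hb g' i y]
  exact congrArg _ (congrFun h i)

theorem isCoh_dual (hF : Coh.IsCoh F) (hO : Coh.IsCoh (Coh.structureModule X)) : Coh.IsCoh (RefHull.dual F) :=
  isCoh_homSh hF hO

end Groth.Agent.RefHullLib
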