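import Groth.Agent.RefHullLib.DivFinite
import Groth.Agent.Coherent.FiniteType
import Groth.Agent.Coherent.QcohLocal
import Mathlib

/-!
# The module of a Weil divisor
-/

set_option autoImplicit false
set_option backward.isDefEq.respectTransparency.types false
universe u

open CategoryTheory AlgebraicGeometry TopologicalSpace IsLocalRing Opposite
open Groth.Agent.Coherent Groth.Agent.PicLib

namespace Groth.Agent.RefHullLib

variable {X : Scheme.{u}} [IsIntegral X] [IsLocallyNoetherian X]

open Classical in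
/-- A rational function of order one at a point, where there is one. -/
noncomputable def unif (y : X) : X.functionField :=
  if h : ∃ v : X.functionField, v ≠ 0 ∧ Scheme.ord v y = 1 then h.choose else 1

theorem unif_ne_zero (y : X) : unif y ≠ 0 := by
  unfold unif
  split_ifs with h
  · exact h.choose_spec.1
  · exact one_ne_zero

theorem ord_unif (hX : Pi1.IsNormalScheme X) {y : X} (hy : Order.coheight y = 1) : Scheme.ord (unif y) y = 1 := by
  haveI := (hX y).1
  haveI := (hX y).2
  have hdim : ringKrullDim (X.presheaf.stalk y) = 1 := (ringKrullDim_eq_one_iff_coheight y).2 hy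
  haveI : IsRegularLocalRing (X.presheaf.stalk y) := CAlgH3.isRegularLocalRing_of_normal_dim_le_one hdim.le
  obtain ⟨_, hdvr⟩ := CAlgMisc2.dvr_iff.2
    ⟨spanFinrank_le_of_dim_le (R := X.presheaf.stalk y) (k := 1) (by exact_mod_cast hdim.le), hdim⟩
  haveI := hdvr
  obtain ⟨ϖ, hϖ⟩ := IsDiscreteValuationRing.exists_irreducible (X.presheaf.stalk y)
  haveI : Ring.KrullDimLE 1 (X.presheaf.stalk y) := krullDimLE_of_coheight_le hy.le
  have hne : algebraMap (X.presheaf.stalk y) X.functionField ϖ ≠ 0 :=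
    (map_ne_zero_iff _ (IsFractionRing.injective _ _)).2 hϖ.ne_zero
  have hex : ∃ v : X.functionField, v ≠ 0 ∧ Scheme.ord v y = 1 :=
    ⟨_, hne, (Scheme.ord_eq_iff hy hne).2 (Ring.ordFrac_irreducible hϖ)⟩
  simp only [unif, dif_pos hex]
  exact hex.choose_spec.2

theorem ord_unif_zpow (hX : Pi1.IsNormalScheme X) {y : X} (hy : Order.coheight y = 1) (k : ℤ) :
    Scheme.ord (unif y ^ k) y = k := by
  have h1 := (Scheme.ord_eq_iff hy (unif_ne_zero y)).1 (ord_unif hX hy)
  rw [Scheme.ord_eq_iff hy (zpow_ne_zero k (unif_ne_zero y)), map_zpow₀, h1, ← WithZero.coe_zpow, ← ofAdd_zsmul,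
    smul_eq_mul, mul_one]

/-- The functions of order at least `-k` at a point of codimension one. -/
noncomputable def lat (y : X) (k : ℤ) : Submodule (X.presheaf.stalk y) X.functionField :=
  Submodule.span (X.presheaf.stalk y) {unif y ^ (-k)}

theorem mem_lat_iff {y : X} {k : ℤ} {v : X.functionField} :
    v ∈ lat y k ↔ ∃ a : X.presheaf.stalk y, algebraMap (X.presheaf.stalk y) X.functionField a * unif y ^ (-k) = v := by
  rw [lat, Submodule.mem_span_singleton]
  simp only [Algebra.smul_def]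

omit [IsLocallyNoetherian X] in
theorem algebraMap_germ {U : X.Opens} {y : X} (hy : y ∈ U) (r : Γ(X, U)) :
    algebraMap (X.presheaf.stalk y) X.functionField (X.presheaf.germ U y hy r) =
      X.presheaf.germ U (genericPoint X) (genericPoint_mem_of_mem hy) r := toGenRing_germ hy r

/-- Constant functions of bounded poles. -/
noncomputable def divLoc (D : X → ℤ) : TopCat.LocalPredicate (fun _ : X => (X.functionField : Type u)) where
  pred {U} f := (∀ a b : U, f a = f b) ∧ ∀ y : U, Order.coheight y.1 = 1 → f y ∈ lat y.1 (D y.1)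
  res {U V} i f h := ⟨fun a b => h.1 (i a) (i b), fun y hy => h.2 (i y) hy⟩
  locality {U} f h := by
    refine ⟨fun a b => ?_, fun y hy => ?_⟩
    · obtain ⟨Va, ha, ia, hfa⟩ := h a
      obtain ⟨Vb, hb, ib, hfb⟩ := h b
      exact ((hfa.1 ⟨a.1, ha⟩ ⟨genericPoint X, genericPoint_mem_of_mem ha⟩).trans
        (hfb.1 ⟨genericPoint X, genericPoint_mem_of_mem hb⟩ ⟨b.1, hb⟩))
    · obtain ⟨V, hV, i, hf⟩ := h y
      exact hf.2 ⟨y.1, hV⟩ hy

instance divLoc_isModPred (D : X → ℤ) : Mero.IsModPred (divLoc D) where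
  zero U := ⟨fun _ _ => rfl, fun _ _ => Submodule.zero_mem _⟩
  add U f g hf hg := ⟨fun a b => congrArg₂ (· + ·) (hf.1 a b) (hg.1 a b),
    fun y hy => Submodule.add_mem _ (hf.2 y hy) (hg.2 y hy)⟩
  smul U r f hf := ⟨fun a b => by
      show X.presheaf.germ U a.1 a.2 r • f a = X.presheaf.germ U b.1 b.2 r • f b
      rw [Algebra.smul_def, Algebra.smul_def, algebraMap_germ, algebraMap_germ, hf.1 a b],
    fun y hy => Submodule.smul_mem _ _ (hf.2 y hy)⟩

/-- The module of sections with poles bounded by `D`. -/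
noncomputable def divMod (D : X → ℤ) : X.Modules := Mero.modOf (divLoc D)

variable {D : X → ℤ}

/-- The value of a section. -/
def sval {U : X.Opens} (s : Γ(divMod D, U)) (x : X) (hx : x ∈ U) : X.functionField := s.1 ⟨x, hx⟩

theorem sval_eq {U : X.Opens} (s : Γ(divMod D, U)) {x y : X} (hx : x ∈ U) (hy : y ∈ U) :
    sval s x hx = sval s y hy := s.2.1 _ _

theorem sec_ext {U : X.Opens} {s t : Γ(divMod D, U)} (h : ∀ (x : X) (hx : x ∈ U), sval s x hx = sval t x hx) :
    s = t := Subtype.ext (funext fun x => h x.1 x.2)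

theorem sval_mem {U : X.Opens} (s : Γ(divMod D, U)) {x : X} (hx : x ∈ U) (hc : Order.coheight x = 1) :
    sval s x hx ∈ lat x (D x) := s.2.2 ⟨x, hx⟩ hc

theorem sval_smul {U : X.Opens} (r : Γ(X, U)) (s : Γ(divMod D, U)) (x : X) (hx : x ∈ U) :
    sval (r • s) x hx = algebraMap (X.presheaf.stalk x) X.functionField (X.presheaf.germ U x hx r) * sval s x hx :=
  (Mero.modOf_smul_apply _ r s ⟨x, hx⟩).trans (Algebra.smul_def _ _)

theorem exists_sec {U : X.Opens} (v : X.functionField)
    (h : ∀ y ∈ U, Order.coheight y = 1 → v ∈ lat y (D y)) :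
    ∃ s : Γ(divMod D, U), ∀ (x : X) (hx : x ∈ U), sval s x hx = v :=
  ⟨⟨fun _ => v, fun _ _ => rfl, fun y hy => h y.1 y.2 hy⟩, fun _ _ => rfl⟩

theorem germ_eq_iff {U V : X.Opens} {x : X} (hU : x ∈ U) (hV : x ∈ V) (s : Γ(divMod D, U))
    (t : Γ(divMod D, V)) :
    (divMod D).presheaf.germ U x hU s = (divMod D).presheaf.germ V x hV t ↔ sval s x hU = sval t x hV := by
  constructor
  · intro h
    obtain ⟨W, hxW, i, j, e⟩ := (divMod D).presheaf.germ_eq x hU hV s t h
    exact congrArg (fun w => sval w x hxW) e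
  · intro h
    have e : (divMod D).presheaf.map (homOfLE (inf_le_left : U ⊓ V ≤ U)).op s =
        (divMod D).presheaf.map (homOfLE (inf_le_right : U ⊓ V ≤ V)).op t :=
      sec_ext fun y hy => ((sval_eq s hy.1 hU).trans h).trans (sval_eq t hV hy.2)
    rw [← TopCat.Presheaf.germ_res_apply (divMod D).presheaf (homOfLE (inf_le_left : U ⊓ V ≤ U)) x ⟨hU, hV⟩ s, e,
      TopCat.Presheaf.germ_res_apply]

/-- Away from finitely many points a given rational function is a section. -/
theorem finite_bad (D : AlgebraicCycle X ℤ) (v : X.functionField) {V : X.Opens} (hV : IsAffineOpen V) :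
    {y : X | y ∈ V ∧ Order.coheight y = 1 ∧ v ∉ lat y (D y)}.Finite := by
  obtain ⟨W, hW, r, hr⟩ := X.presheaf.exists_germ_eq (show X.presheaf.stalk (genericPoint X) from v)
  refine ((finite_support_inter D hV).union (finite_coheight_one_notMem hW hV)).subset ?_
  rintro y ⟨hy, hy1, hyv⟩
  by_cases hD : D y = 0
  · refine Or.inr ⟨hy, hy1, fun hyW => hyv ?_⟩
    rw [mem_lat_iff]
    refine ⟨X.presheaf.germ W y hyW r, ?_⟩
    rw [hD, neg_zero, zpow_zero, mul_one, algebraMap_germ]
    exact hr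
  · exact Or.inl ⟨hy, hD⟩

omit [IsLocallyNoetherian X] in
/-- High powers of a nonunit clear any denominator at a point of codimension one. -/
theorem exists_pow_mul_mem [IsLocallyNoetherian X] {y : X} (hy : Order.coheight y = 1) {g : X.presheaf.stalk y}
    (hg : g ∈ maximalIdeal (X.presheaf.stalk y)) (k : ℤ) (v : X.functionField) :
    ∃ N : ℕ, algebraMap (X.presheaf.stalk y) X.functionField (g ^ N) * v ∈ lat y k := by
  haveI : Ring.KrullDimLE 1 (X.presheaf.stalk y) := krullDimLE_of_coheight_le hy.le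
  obtain ⟨a, b, hb, he⟩ := IsFractionRing.div_surjective (X.presheaf.stalk y) (v * unif y ^ k)
  have hb0 : b ≠ 0 := nonZeroDivisors.ne_zero hb
  have hrad : g ∈ (Ideal.span {b}).radical := by
    rw [Ideal.radical_eq_sInf, Ideal.mem_sInf]
    rintro P ⟨hP, hPp⟩
    have hne : P ≠ ⊥ := fun e => hb0 (by simpa [e] using hP (Ideal.mem_span_singleton_self b))
    have hmax : P.IsMaximal := Ring.krullDimLE_one_iff_of_noZeroDivisors.1 inferInstance P hne hPp
    rwa [IsLocalRing.eq_maximalIdeal hmax]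
  obtain ⟨N, hN⟩ := hrad
  obtain ⟨c, hc⟩ := Ideal.mem_span_singleton'.1 hN
  refine ⟨N, mem_lat_iff.2 ⟨c * a, ?_⟩⟩
  have hb' : algebraMap (X.presheaf.stalk y) X.functionField b ≠ 0 :=
    IsFractionRing.to_map_ne_zero_of_mem_nonZeroDivisors hb
  rw [← hc, map_mul, map_mul, zpow_neg]
  rw [div_eq_iff hb'] at he
  rw [he]
  field_simp [unif_ne_zero y, zpow_ne_zero]

theorem localizesOn_divMod (D : AlgebraicCycle X ℤ) {U : X.Opens} (hU : IsAffineOpen U) :
    LocalizesOn (divMod ⇑D) U := by
  classical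
  constructor
  · intro f g
    by_cases hη : genericPoint X ∈ X.basicOpen f
    · set v := sval g (genericPoint X) hη with hv
      have hB := finite_bad D v hU
      have hN : ∀ y : hB.toFinset, ∃ N : ℕ, algebraMap (X.presheaf.stalk y.1) X.functionField
          (X.presheaf.germ U y.1 (hB.mem_toFinset.1 y.2).1 f ^ N) * v ∈ lat y.1 (D y.1) := fun y => by
        obtain ⟨hyU, hy1, hyv⟩ := hB.mem_toFinset.1 y.2
        refine exists_pow_mul_mem hy1 ((mem_maximalIdeal _).2 fun hu => hyv ?_) _ _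
        have hyf : y.1 ∈ X.basicOpen f := (X.mem_basicOpen f y.1 hyU).2 hu
        show sval g (genericPoint X) hη ∈ _
        rw [sval_eq g hη hyf]
        exact sval_mem g hyf hy1
      choose N hN using hN
      let n := Finset.univ.sup N
      have hηU : genericPoint X ∈ U := X.basicOpen_le f hη
      obtain ⟨t, ht⟩ := exists_sec (D := ⇑D) (U := U)
        (X.presheaf.germ U (genericPoint X) hηU (f ^ n) * v) (fun y hyU hy1 => by
          rw [← algebraMap_germ hyU]
          by_cases hyv : v ∈ lat y (D y)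
          · rw [← Algebra.smul_def]
            exact Submodule.smul_mem _ _ hyv
          · have hm : y ∈ hB.toFinset := hB.mem_toFinset.2 ⟨hyU, hy1, hyv⟩
            obtain ⟨d, hd⟩ := Nat.le.dest (Finset.le_sup (f := N) (Finset.mem_univ (⟨y, hm⟩ : hB.toFinset)))
            have h1 := hN ⟨y, hm⟩
            rw [map_pow (X.presheaf.germ U y hyU).hom, show n = Finset.univ.sup N from rfl, ← hd, pow_add, map_mul, mul_comm (algebraMap _ _ _),
              mul_assoc, ← Algebra.smul_def]
            exact Submodule.smul_mem _ _ h1)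
      refine ⟨n, t, sec_ext fun x hx => ?_⟩
      refine Eq.trans (ht x (X.basicOpen_le f hx)) ?_
      rw [sval_smul, ← sval_eq g hη hx, algebraMap_germ]
      exact congrArg (· * v) (TopCat.Presheaf.germ_res_apply X.presheaf _ _ _ _).symm
    · refine ⟨0, 0, sec_ext fun x hx => absurd (genericPoint_mem_of_mem hx) hη⟩
  · intro f t ht
    by_cases hη : genericPoint X ∈ X.basicOpen f
    · refine ⟨0, ?_⟩
      rw [pow_zero, one_smul]
      refine sec_ext fun x hx => ?_
      rw [sval_eq t hx (X.basicOpen_le f hη)]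
      exact congrArg (fun w => sval w (genericPoint X) hη) ht
    · refine ⟨1, sec_ext fun x hx => ?_⟩
      have h0 : X.presheaf.germ U (genericPoint X) (genericPoint_mem_of_mem hx) f = 0 := by
        by_contra h
        exact hη ((X.mem_basicOpen f _ (genericPoint_mem_of_mem hx)).2
          (isUnit_iff_ne_zero.2 (show (X.presheaf.germ U (genericPoint X) _ f : X.functionField) ≠ 0 from h)))
      rw [pow_one, sval_smul, algebraMap_germ, h0, zero_mul]
      rfl

theorem isCoh_divMod (hX : Pi1.IsNormalScheme X) (D : AlgebraicCycle X ℤ) : Coh.IsCoh (divMod ⇑D) := by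
  classical
  refine (isCoh_iff_finite_sections _).2 ⟨(isQCoh_iff_localizesOn _).2 fun U hU => localizesOn_divMod D hU,
    fun U hU => ?_⟩
  by_cases hη : genericPoint X ∈ U
  swap
  · haveI : Subsingleton Γ(divMod ⇑D, U) :=
      ⟨fun a b => sec_ext fun x hx => absurd (genericPoint_mem_of_mem hx) hη⟩
    exact Module.Finite.of_finite
  haveI : IsNoetherianRing Γ(X, U) := IsLocallyNoetherian.component_noetherian ⟨U, hU⟩
  have hB : {y : X | y ∈ U ∧ Order.coheight y = 1 ∧ D y ≠ 0}.Finite :=
    (finite_support_inter D hU).subset fun y hy => ⟨hy.1, hy.2.2⟩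
  have hg : ∀ y : hB.toFinset, ∃ g : Γ(X, U), g ≠ 0 ∧ algebraMap (X.presheaf.stalk y.1) X.functionField
      (X.presheaf.germ U y.1 (hB.mem_toFinset.1 y.2).1 g) * unif y.1 ^ (-D y.1) ∈ lat y.1 0 := fun y => by
    obtain ⟨hyU, hy1, -⟩ := hB.mem_toFinset.1 y.2
    let V : X.Opens := ⟨(closure {y.1})ᶜ, isClosed_closure.isOpen_compl⟩
    have hηV : genericPoint X ∈ V := fun h => ne_genericPoint_of_coheight hy1
      ((specializes_iff_mem_closure.2 h).antisymm (genericPoint_specializes y.1)).eq
    obtain ⟨g, hgV, hgη⟩ := hU.exists_basicOpen_le (⟨genericPoint X, hηV⟩ : V) hη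
    have hnot : y.1 ∉ X.basicOpen g := fun h => hgV h (subset_closure rfl)
    obtain ⟨N, hN⟩ := exists_pow_mul_mem hy1
      ((mem_maximalIdeal _).2 fun hu => hnot ((X.mem_basicOpen g y.1 hyU).2 hu)) 0 (unif y.1 ^ (-D y.1))
    refine ⟨g ^ N, fun h => ?_, by rw [map_pow (X.presheaf.germ U y.1 hyU).hom]; exact hN⟩
    have h1 := (X.mem_basicOpen g _ hη).1 hgη
    haveI : Nonempty U := ⟨⟨_, hη⟩⟩
    rw [eq_zero_of_pow_eq_zero h, map_zero] at h1
    exact not_isUnit_zero h1
  choose g hg0 hg using hg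
  let a : Γ(X, U) := ∏ y, g y
  haveI : Nonempty U := ⟨⟨_, hη⟩⟩
  have ha : a ≠ 0 := Finset.prod_ne_zero_iff.2 fun y _ => hg0 y
  have hmem : ∀ (t : Γ(divMod ⇑D, U)) (y : X) (hy : y ∈ U), Order.coheight y = 1 →
      algebraMap (X.presheaf.stalk y) X.functionField (X.presheaf.germ U y hy a) * sval t y hy ∈
        Set.range (algebraMap (X.presheaf.stalk y) X.functionField) := by
    intro t y hy hy1
    obtain ⟨c, hc⟩ := mem_lat_iff.1 (sval_mem t hy hy1)
    by_cases hD : D y = 0
    · exact ⟨X.presheaf.germ U y hy a * c, by rw [map_mul, ← hc, hD, neg_zero, zpow_zero, mul_one]⟩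
    · have hm : y ∈ hB.toFinset := hB.mem_toFinset.2 ⟨hy, hy1, hD⟩
      obtain ⟨e, he⟩ := mem_lat_iff.1 (hg ⟨y, hm⟩)
      rw [neg_zero, zpow_zero, mul_one] at he
      refine ⟨X.presheaf.germ U y hy (∏ z ∈ Finset.univ.erase ⟨y, hm⟩, g z) * c * e, ?_⟩
      rw [← hc, show a = g ⟨y, hm⟩ * ∏ z ∈ Finset.univ.erase ⟨y, hm⟩, g z from
        (Finset.mul_prod_erase _ g (Finset.mem_univ _)).symm, map_mul, map_mul, map_mul, map_mul, he]
      ring
  have hO := Coherent.isCoh_structureModule X
  have hOr : ∀ x : X, RefHull.IsReflexiveAt (Coh.structureModule X) x := fun x =>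
    isReflexiveAt_of_gen (SDiv28.unitStalkEquiv x).bijective
  have hex : ∀ t : Γ(divMod ⇑D, U), ∃ r : Γ(X, U),
      (X.presheaf.germ U (genericPoint X) hη r : X.functionField) =
        X.presheaf.germ U (genericPoint X) hη a * sval t _ hη := by
    intro t
    obtain ⟨n, hn⟩ := exists_section_of_codimOne (F := Coh.structureModule X) hX hO hOr hη
      ((show X.presheaf.stalk (genericPoint X) from
        (X.presheaf.germ U (genericPoint X) hη a : X.functionField) * sval t _ hη) •
          AssSch12.unitOne (genericPoint X)) (fun y hy hdim => by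
        obtain ⟨c, hc⟩ := hmem t y hy ((ringKrullDim_eq_one_iff_coheight y).1 hdim)
        refine ⟨c • AssSch12.unitOne y, ?_⟩
        rw [toGen_smul, show toGen (Coh.structureModule X) y (AssSch12.unitOne y) = AssSch12.unitOne (genericPoint X)
          from toGen_germ _ _ _]
        congr 1
        refine Eq.trans hc ?_
        rw [algebraMap_germ, sval_eq t hy hη])
    refine ⟨(show Γ(X, U) from n), (SDiv28.unitStalkEquiv (genericPoint X)).injective ?_⟩
    exact (AssSch12.germ_eq_smul_unitOne (genericPoint X) hη (show Γ(X, U) from n)).symm.trans hn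
  choose r hr using hex
  have hinj : Function.Injective (X.presheaf.germ U (genericPoint X) hη) :=
    germ_injective_of_isIntegral X (genericPoint X) hη
  let φ : Γ(divMod ⇑D, U) →ₗ[Γ(X, U)] Γ(X, U) :=
    { toFun := r
      map_add' := fun s t => hinj (by
        rw [map_add, hr, hr, hr, show sval (s + t) _ hη = sval s _ hη + sval t _ hη from rfl, mul_add])
      map_smul' := fun c t => hinj (by
        rw [RingHom.id_apply, smul_eq_mul, map_mul, hr, hr, sval_smul, algebraMap_germ]
        ring) }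
  refine Module.Finite.of_injective φ fun s t h => sec_ext fun x hx => ?_
  rw [sval_eq s hx hη, sval_eq t hx hη]
  have h1 := congrArg (X.presheaf.germ U (genericPoint X) hη) h
  simp only [φ, LinearMap.coe_mk, AddHom.coe_mk, hr] at h1
  refine mul_left_cancel₀ (fun h0 => ha (hinj ?_)) h1
  exact h0.trans (map_zero _).symm

/-- The module of `D` has generators wherever `D` allows: the chosen power of the uniformizer. -/
theorem exists_gen_divMod (D : AlgebraicCycle X ℤ) {x : X} (v : X.functionField) (hv : v ≠ 0)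
    (hgood : ∀ y : X, y ⤳ x → Order.coheight y = 1 → v ∈ lat y (D y))
    (hmax : ∀ (U : X.Opens) (hU : x ∈ U) (s : Γ(divMod ⇑D, U)), ∃ a : X.presheaf.stalk x,
      algebraMap (X.presheaf.stalk x) X.functionField a * v = sval s x hU) :
    ∃ t : (divMod ⇑D).presheaf.stalk x, Function.Bijective (fun a : X.presheaf.stalk x => a • t) ∧
      ∀ (U : X.Opens) (hU : x ∈ U) (s : Γ(divMod ⇑D, U)) (φ : X.functionField),
        φ * v = sval s x hU → φ • toGen (divMod ⇑D) x t = toGen (divMod ⇑D) x ((divMod ⇑D).presheaf.germ U x hU s) := by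
  obtain ⟨_, ⟨V, hV, rfl⟩, hxV, -⟩ :=
    X.isBasis_affineOpens.exists_subset_of_mem_open (Set.mem_univ x) isOpen_univ
  have hB := finite_bad D v hV
  let C : Set X := ⋃ y ∈ hB.toFinset, closure ({y} : Set X)
  have hC : IsClosed C := Set.Finite.isClosed_biUnion (Finset.finite_toSet _) fun _ _ => isClosed_closure
  let W : X.Opens := V ⊓ ⟨Cᶜ, hC.isOpen_compl⟩
  have hxW : x ∈ W := ⟨hxV, fun h => by
    obtain ⟨y, hy, hyx⟩ := Set.mem_iUnion₂.1 h
    obtain ⟨-, hy1, hyv⟩ := hB.mem_toFinset.1 hy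
    exact hyv (hgood y (specializes_iff_mem_closure.2 hyx) hy1)⟩
  obtain ⟨s0, hs0⟩ := exists_sec (D := ⇑D) (U := W) v (fun y hy hy1 => by
    by_contra hyv
    exact hy.2 (Set.mem_iUnion₂.2 ⟨y, hB.mem_toFinset.2 ⟨hy.1, hy1, hyv⟩, subset_closure rfl⟩))
  have hsmul : ∀ (y : X) (hy : y ∈ W) (a : X.presheaf.stalk y), ∃ (W' : X.Opens) (hy' : y ∈ W')
      (s : Γ(divMod ⇑D, W')), (divMod ⇑D).presheaf.germ W' y hy' s = a • (divMod ⇑D).presheaf.germ W y hy s0 ∧
        sval s y hy' = algebraMap (X.presheaf.stalk y) X.functionField a * v := by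
    intro y hy a
    obtain ⟨W', hy', r, rfl⟩ := X.presheaf.exists_germ_eq a
    refine ⟨W' ⊓ W, ⟨hy', hy⟩, res (inf_le_left : W' ⊓ W ≤ W') r • resM _ (inf_le_right : W' ⊓ W ≤ W) s0, ?_, ?_⟩
    · refine (QCohLoc.germ_smul' (M := divMod ⇑D) _ _ _).trans ?_
      exact congrArg₂ (· • ·) (TopCat.Presheaf.germ_res_apply X.presheaf _ _ _ _)
        (TopCat.Presheaf.germ_res_apply (divMod ⇑D).presheaf _ _ _ _)
    · rw [sval_smul]
      exact congrArg₂ (· * ·)
        (congrArg _ (TopCat.Presheaf.germ_res_apply X.presheaf _ _ _ _)) (hs0 y hy)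
  refine ⟨(divMod ⇑D).presheaf.germ W x hxW s0, ⟨fun a b hab => ?_, fun w => ?_⟩, fun U hU s φ hφ => ?_⟩
  · obtain ⟨W1, h1, s1, e1, v1⟩ := hsmul x hxW a
    obtain ⟨W2, h2, s2, e2, v2⟩ := hsmul x hxW b
    dsimp only at hab
    rw [← e1, ← e2, germ_eq_iff, v1, v2] at hab
    exact IsFractionRing.injective _ X.functionField (mul_right_cancel₀ hv hab)
  · obtain ⟨U, hU, s, rfl⟩ := (divMod ⇑D).presheaf.exists_germ_eq w
    obtain ⟨a, ha⟩ := hmax U hU s
    obtain ⟨W1, h1, s1, e1, v1⟩ := hsmul x hxW a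
    exact ⟨a, e1.symm.trans ((germ_eq_iff h1 hU s1 s).2 (v1.trans ha))⟩
  · rw [toGen_germ, toGen_germ]
    obtain ⟨W1, h1, s1, e1, v1⟩ := hsmul (genericPoint X) (genericPoint_mem_of_mem hxW) φ
    refine Eq.trans e1.symm ((germ_eq_iff h1 (genericPoint_mem_of_mem hU) s1 s).2 ?_)
    rw [v1, sval_eq s _ hU, ← hφ]
    congr 1
    exact DFunLike.congr_fun (congrArg CommRingCat.Hom.hom (X.presheaf.stalkSpecializes_refl (genericPoint X))) φ

theorem exists_ref1_of_cycle (hX : Pi1.IsNormalScheme X) (D : AlgebraicCycle X ℤ) :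
    ∃ (F : X.Modules) (_ : RefHull.IsRef1 F) (s : F.presheaf.stalk (genericPoint X)), s ≠ 0 ∧
      ∀ x : X, Order.coheight x = 1 → D x = sOrd F x s := by
  have hF := isCoh_divMod hX D
  have hgen_η : ∀ y : X, y ⤳ genericPoint X → Order.coheight y ≠ 1 := fun y hy h =>
    ne_genericPoint_of_coheight h (hy.antisymm (genericPoint_specializes y)).eq
  obtain ⟨e, he, hev⟩ := exists_gen_divMod D (x := genericPoint X) 1 one_ne_zero
    (fun y hy h => absurd h (hgen_η y hy)) (fun U hU s => ⟨sval s _ hU, by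
      rw [mul_one]
      exact DFunLike.congr_fun
        (congrArg CommRingCat.Hom.hom (X.presheaf.stalkSpecializes_refl (genericPoint X))) _⟩)
  have hη := bijective_stalk_bidualMap_genericPoint hF
  have hb := bijective_smul_map hη he
  have he0 : e ≠ 0 := fun h => one_ne_zero (α := X.presheaf.stalk (genericPoint X)) (he.1 (by simp [h]))
  refine ⟨RefHull.ddual (divMod ⇑D), ⟨isCoh_ddual hF, isReflexive_ddual hF,
    genInvertible_of_bijective_genericPoint (isCoh_ddual hF) _ hb⟩, RefHull.stalkMapₗ (RefHull.bidualMap (divMod ⇑D)) _ e,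
    fun h => he0 (hη.1 (h.trans (map_zero _).symm)), fun x hx => ?_⟩
  obtain ⟨t, ht, htv⟩ := exists_gen_divMod D (x := x) (unif x ^ (-D x)) (zpow_ne_zero _ (unif_ne_zero x))
    (fun y hy h => by
      obtain rfl := eq_of_specializes_coheight_one h hx hy
      exact Submodule.mem_span_singleton_self _)
    (fun U hU s => mem_lat_iff.1 (sval_mem s hU hx))
  have hz := bijective_smul_map ((bijective_stalk_bidualMap_iff hF x).2 (isReflexiveAt_of_gen ht)) ht
  have key : (unif x ^ D x) • toGen (divMod ⇑D) x t = e := by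
    obtain ⟨U, hU, s, hs⟩ := (divMod ⇑D).presheaf.exists_germ_eq t
    have hsv : sval s x hU = unif x ^ (-D x) := by
      obtain ⟨a, ha⟩ := mem_lat_iff.1 (sval_mem s hU hx)
      have h1 := htv U hU s (algebraMap (X.presheaf.stalk x) X.functionField a) ha
      rw [hs] at h1
      have ha1 : algebraMap (X.presheaf.stalk x) X.functionField a = 1 :=
        (bijective_smul_toGen hF.1 ht).1 (h1.trans (one_smul X.functionField _).symm)
      rw [← ha, ha1, one_mul]
    have hηU : genericPoint X ∈ U := genericPoint_mem_of_mem hU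
    have h2 := hev U hηU s (unif x ^ (-D x)) (by rw [mul_one, sval_eq s hηU hU, hsv])
    rw [toGen_genericPoint, toGen_genericPoint] at h2
    rw [← hs, toGen_germ, ← h2, ← mul_smul, ← zpow_add₀ (unif_ne_zero x), add_neg_cancel, zpow_zero]
    exact one_smul _ _
  rw [sOrd_eq (isCoh_ddual hF).1 hx hz (unif x ^ D x) _ (by rw [toGen_stalkMap, ← map_smul, key]),
    ord_unif_zpow hX hx]

end Groth.Agent.RefHullLib
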