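import Groth.Agent.RefHullLib.LowDim
import Groth.Agent.RefHullLib.Reflexive
import Groth.Agent.SDiv28.RegMeroExists
import Groth.Agent.PicLib.FlatTriv
import Groth.Agent.CAlgH3.Factorial
import Groth.Agent.PicLib.FiniteSetTriv
import Mathlib

/-!
# Rank one reflexive modules on locally factorial schemes are invertible
-/

set_option autoImplicit false
set_option backward.isDefEq.respectTransparency.types false
universe u

open CategoryTheory AlgebraicGeometry IsLocalRing
open Groth.Agent.Coherent Groth.Agent.PicLib

namespace Groth.Agent.RefHullLib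

section Algebra

variable {R : Type u} [CommRing R] [IsDomain R] [UniqueFactorizationMonoid R]

/-- The dual of a finite submodule of a factorial domain is free. -/
theorem free_dual_of_injective {D : Type u} [AddCommGroup D] [Module R D] [Module.Finite R D]
    (h : D →ₗ[R] R) (hh : Function.Injective h) : Module.Free R (Module.Dual R D) := by
  classical
  rcases subsingleton_or_nontrivial D with hD | hD
  · haveI : Subsingleton (Module.Dual R D) := ⟨fun f g => LinearMap.ext fun x => by
      rw [Subsingleton.elim x 0, map_zero, map_zero]⟩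
    exact Module.Free.of_subsingleton R _
  letI := Classical.arbitrary (NormalizedGCDMonoid R)
  obtain ⟨s, hs⟩ := Module.Finite.fg_top (R := R) (M := D)
  let g := s.gcd h
  have hdvd : ∀ x : D, g ∣ h x := by
    intro x
    have hx : x ∈ Submodule.span R (s : Set D) := hs ▸ Submodule.mem_top
    induction hx using Submodule.span_induction with
    | mem a ha => exact Finset.gcd_dvd ha
    | zero => rw [map_zero]; exact dvd_zero g
    | add a b _ _ ha hb => rw [map_add]; exact dvd_add ha hb
    | smul c a _ ha => rw [map_smul, smul_eq_mul]; exact ha.mul_left c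
  obtain ⟨x0, hx0⟩ := exists_ne (0 : D)
  have hh0 : h x0 ≠ 0 := fun e => hx0 (hh (e.trans (map_zero h).symm))
  have hg : g ≠ 0 := fun e => hh0 (zero_dvd_iff.1 (e ▸ hdvd x0))
  choose a ha using hdvd
  let ψ : Module.Dual R D :=
    { toFun := a
      map_add' := fun x y => mul_left_cancel₀ hg (by rw [← ha, map_add, ha x, ha y, mul_add])
      map_smul' := fun c x => mul_left_cancel₀ hg (by
        rw [← ha, map_smul, ha x]; simp only [smul_eq_mul, RingHom.id_apply]; ring) }
  have hsurj : ∀ φ : Module.Dual R D, ∃ q : R, q • ψ = φ := by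
    intro φ
    have key : ∀ x : D, h x0 * φ x = h x * φ x0 := fun x => by
      have e : h x0 • x = h x • x0 := hh (by simp only [map_smul, smul_eq_mul, mul_comm])
      have := congrArg φ e
      simpa [map_smul, smul_eq_mul] using this
    have hd : h x0 ∣ g * φ x0 := by
      have h1 : h x0 ∣ s.gcd (fun x => h x * φ x0) := Finset.dvd_gcd fun x _ => ⟨φ x, (key x).symm⟩
      exact h1.trans (Finset.gcd_mul_right' (s := s) (f := h) (φ x0)).dvd
    obtain ⟨q, hq⟩ := hd
    refine ⟨q, LinearMap.ext fun x => mul_left_cancel₀ hh0 ?_⟩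
    show h x0 * (q * a x) = h x0 * φ x
    rw [key, ← mul_assoc, ← hq, ha x]
    ring
  have hinj : Function.Injective (LinearMap.toSpanSingleton R (Module.Dual R D) ψ) := by
    rw [injective_iff_map_eq_zero]
    intro q hq
    have h1 : q * a x0 = 0 := LinearMap.congr_fun hq x0
    refine (mul_eq_zero.1 h1).resolve_right fun e => hh0 ?_
    rw [ha x0, e, mul_zero]
  exact Module.Free.of_equiv (LinearEquiv.ofBijective _ ⟨hinj, hsurj⟩)

/-- A reflexive module of rank one over a Noetherian factorial domain is free. -/
theorem free_of_isReflexive_of_finrank_le_one [IsNoetherianRing R] {M : Type u} [AddCommGroup M] [Module R M]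
    [Module.Finite R M] [Module.IsReflexive R M] (hrk : Module.finrank R (Module.Dual R M) ≤ 1) :
    Module.Free R M := by
  obtain ⟨c, g, h, hc, -, -, hgh⟩ := CAlgMisc2.exists_rank_maps R (Module.Dual R M)
  haveI : Module.IsTorsionFree R (Module.Dual R M) := inferInstance
  have hh : Function.Injective h := fun x y hxy =>
    smul_right_injective (Module.Dual R M) hc (by simp only; rw [← hgh, ← hgh, hxy])
  obtain ⟨e, he⟩ : ∃ e : (Fin (Module.finrank R (Module.Dual R M)) → R) →ₗ[R] R, Function.Injective e := by
    rcases Nat.le_one_iff_eq_zero_or_eq_one.1 hrk with h0 | h1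
    · rw [h0]; exact ⟨0, fun a b _ => Subsingleton.elim _ _⟩
    · rw [h1]; exact ⟨LinearMap.proj 0, fun a b hab => funext fun i => (Fin.eq_zero i) ▸ hab⟩
  haveI := free_dual_of_injective (e.comp h) (he.comp hh)
  exact Module.Free.of_equiv (Module.evalEquiv R M).symm

theorem finrank_dual {M : Type u} [AddCommGroup M] [Module R M] [Module.Finite R M] :
    Module.finrank R (Module.Dual R M) ≤ Module.finrank R M := by
  obtain ⟨c, g, h, hc, -, -, hgh⟩ := CAlgMisc2.exists_rank_maps R M
  refine (LinearMap.finrank_le_finrank_of_injective (f := g.dualMap) ?_).trans ?_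
  · rw [injective_iff_map_eq_zero]
    intro φ hφ
    refine LinearMap.ext fun x => ?_
    have h1 : φ (g (h x)) = 0 := LinearMap.congr_fun hφ (h x)
    rw [hgh, map_smul, smul_eq_mul] at h1
    exact (mul_eq_zero.1 h1).resolve_left hc
  · rw [← (LinearEquiv.piRing R R (Fin (Module.finrank R M)) R).symm.finrank_eq, Module.finrank_fin_fun]

end Algebra

variable {X : Scheme.{u}} [IsIntegral X] {F : X.Modules}

/-- The generic stalk of a generically invertible module is a line. -/
theorem exists_gen_genericPoint (hrk : RefHull.GenInvertible F) :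
    ∃ (U : X.Opens) (_ : genericPoint X ∈ U) (t : Γ(F, U)), IsGen F U t := by
  obtain ⟨U, hd, hinv⟩ := hrk
  have hη : genericPoint X ∈ U :=
    ((genericPoint_spec X).mem_open_set_iff U.isOpen).2 (by simpa using hd.nonempty)
  obtain ⟨W, hyW, s, hs⟩ := exists_isGen hinv ⟨genericPoint X, hη⟩
  obtain ⟨t, ht⟩ := exists_isGen_of_restrict F U hs
  exact ⟨U.ι ''ᵁ W, (⟨⟨genericPoint X, hη⟩, hyW, rfl⟩ : genericPoint X ∈ (U.ι '' (W : Set U.toScheme))), t, ht⟩

theorem finrank_stalk_eq_one [IsLocallyNoetherian X] (hF : Coh.IsQCoh F) (hrk : RefHull.GenInvertible F) (x : X) :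
    Module.finrank (X.presheaf.stalk x) (F.presheaf.stalk x) = 1 := by
  obtain ⟨U, hη, t, ht⟩ := exists_gen_genericPoint hrk
  have h : genericPoint X ⤳ x := genericPoint_specializes x
  letI := (X.presheaf.stalkSpecializes h).hom.toAlgebra
  letI := Module.compHom (F.presheaf.stalk (genericPoint X)) (X.presheaf.stalkSpecializes h).hom
  haveI : IsScalarTower (X.presheaf.stalk x) (X.presheaf.stalk (genericPoint X))
      (F.presheaf.stalk (genericPoint X)) := IsScalarTower.of_algebraMap_smul fun _ _ => rfl
  haveI : FaithfulSMul (X.presheaf.stalk x) (X.presheaf.stalk (genericPoint X)) :=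
    (faithfulSMul_iff_algebraMap_injective _ _).2 (IsFractionRing.injective (X.presheaf.stalk x) X.functionField)
  obtain ⟨ρ, hρ⟩ := isBaseChange_stalkSpecializes hF h
  rw [← hρ.finrank_eq]
  let e : X.presheaf.stalk (genericPoint X) ≃ₗ[X.presheaf.stalk (genericPoint X)] F.presheaf.stalk (genericPoint X) :=
    LinearEquiv.ofBijective (LinearMap.toSpanSingleton _ _ (F.presheaf.germ U (genericPoint X) hη t))
      (SDiv28.bijective_smul_germ_gen ht hη)
  rw [← e.finrank_eq, Module.finrank_self]

/-- Rank one reflexive modules on integral locally factorial schemes are invertible. -/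
theorem free_stalk_of_isReflexive_of_genInvertible [IsLocallyNoetherian X] (hF : Coh.IsCoh F)
    (hrefl : ∀ x : X, RefHull.IsReflexiveAt F x) (hrk : RefHull.GenInvertible F) (x : X)
    [UniqueFactorizationMonoid (X.presheaf.stalk x)] :
    Module.Free (X.presheaf.stalk x) (F.presheaf.stalk x) := by
  haveI := AssSch12.finite_stalk hF x
  haveI : Module.IsReflexive (X.presheaf.stalk x) (F.presheaf.stalk x) := hrefl x
  exact free_of_isReflexive_of_finrank_le_one (finrank_dual.trans (finrank_stalk_eq_one hF.1 hrk x).le)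

end Groth.Agent.RefHullLib

namespace Groth.Agent.RefHullLib

variable {X : Scheme.{u}} [IsIntegral X] [IsLocallyNoetherian X] {F : X.Modules}

/-- Rank one reflexive coherent modules on an integral locally factorial scheme are invertible. -/
theorem isInvertible_of_isReflexive_of_genInvertible
    (hufd : ∀ x : X, UniqueFactorizationMonoid (X.presheaf.stalk x))
    (hF : Coh.IsCoh F) (hrefl : ∀ x : X, RefHull.IsReflexiveAt F x) (hrk : RefHull.GenInvertible F) :
    PicF.IsInvertible F := by
  haveI : Coh.IsQCoh F := hF.1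
  have hfree : FlatMod.IsFinLocFree F := (isFinLocFree_iff_free_stalks hF).2 fun x =>
    haveI := hufd x
    free_stalk_of_isReflexive_of_genInvertible hF hrefl hrk x
  intro x
  obtain ⟨V, n, hxV, ⟨e⟩⟩ := hfree x
  obtain ⟨U, hU, hxU, hUV⟩ := TopologicalSpace.Opens.isBasis_iff_nbhd.mp X.isBasis_affineOpens hxV
  obtain ⟨b⟩ := Props12.exists_basis_sections e hUV
  let _ := (X.presheaf.germ U x hxU).hom.toAlgebra
  let _ := Module.compHom (F.presheaf.stalk x) (X.presheaf.germ U x hxU).hom
  have : IsScalarTower Γ(X, U) (X.presheaf.stalk x) (F.presheaf.stalk x) :=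
    IsScalarTower.of_algebraMap_smul fun _ _ => rfl
  let φ : Γ(F, U) →ₗ[Γ(X, U)] F.presheaf.stalk x :=
    { toFun := F.presheaf.germ U x hxU
      map_add' := map_add _
      map_smul' := QCohLoc.germ_smul' (M := F) hxU }
  have := EGA43.QcohFP.isLocalizedModule_germ F hU hxU φ fun _ => rfl
  have := hU.isLocalization_stalk ⟨x, hxU⟩
  have hn := Module.finrank_eq_card_basis (b.ofIsLocalizedModule (X.presheaf.stalk x)
    (hU.primeIdealOf ⟨x, hxU⟩).asIdeal.primeCompl φ)
  rw [finrank_stalk_eq_one hF.1 hrk x, Fintype.card_fin] at hn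
  subst hn
  exact ⟨V, hxV, ⟨e ≪≫ PicLib.freeModOneIso _⟩⟩

end Groth.Agent.RefHullLib
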