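import Groth.Agent.RefHullLib.Hartogs
import Groth.Agent.RefHullLib.LowDim
import Groth.Agent.Coherent.FinMor
import Mathlib

/-!
# The open locus of free stalks
-/

set_option autoImplicit false
set_option backward.isDefEq.respectTransparency.types false
universe u

open CategoryTheory AlgebraicGeometry TopologicalSpace
open Groth.Agent.Coherent Groth.Agent.PicLib

namespace Groth.Agent.RefHullLib

variable {X : Scheme.{u}} [IsLocallyNoetherian X] {F : X.Modules}

theorem isOpen_free_stalk (hF : Coh.IsCoh F) :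
    IsOpen {x : X | Module.Free (X.presheaf.stalk x) (F.presheaf.stalk x)} := by
  haveI : Coh.IsQCoh F := hF.1
  refine isOpen_iff_forall_mem_open.2 fun x hx => ?_
  obtain ⟨V, n, hxV, ⟨e⟩⟩ := Props12.exists_nhd_free F (Coherent.isFP_of_isCoh hF) x hx
  obtain ⟨_, ⟨U, hU, rfl⟩, hxU, hUV⟩ := X.isBasis_affineOpens.exists_subset_of_mem_open hxV V.isOpen
  obtain ⟨b⟩ := Props12.exists_basis_sections e hUV
  refine ⟨U, fun y hy => ?_, U.isOpen, hxU⟩
  let _ := (X.presheaf.germ U y hy).hom.toAlgebra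
  let _ := Module.compHom (F.presheaf.stalk y) (X.presheaf.germ U y hy).hom
  have : IsScalarTower Γ(X, U) (X.presheaf.stalk y) (F.presheaf.stalk y) :=
    IsScalarTower.of_algebraMap_smul fun _ _ => rfl
  let φ : Γ(F, U) →ₗ[Γ(X, U)] F.presheaf.stalk y :=
    { toFun := F.presheaf.germ U y hy
      map_add' := map_add _
      map_smul' := QCohLoc.germ_smul' (M := F) hy }
  have := EGA43.QcohFP.isLocalizedModule_germ F hU hy φ fun _ => rfl
  have := hU.isLocalization_stalk ⟨y, hy⟩
  exact Module.Free.of_basis (b.ofIsLocalizedModule (X.presheaf.stalk y)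
    (hU.primeIdealOf ⟨y, hy⟩).asIdeal.primeCompl φ)

theorem isFinLocFree_restrict_iff (hF : Coh.IsCoh F) (U : X.Opens) :
    FlatMod.IsFinLocFree (F.restrict U.ι) ↔ ∀ y ∈ U, Module.Free (X.presheaf.stalk y) (F.presheaf.stalk y) := by
  rw [isFinLocFree_iff_free_stalks (Coherent.isCoh_restrict U hF)]
  refine ⟨fun h y hy => (free_stalk_restrict_iff U.ι F ⟨y, hy⟩).1 (h ⟨y, hy⟩), fun h z => ?_⟩
  exact (free_stalk_restrict_iff U.ι F z).2 (h _ z.2)

end Groth.Agent.RefHullLib
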