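import Groth.Agent.RefHullLib.GenericStalk
import Mathlib

/-!
# Morphisms of reflexive modules from maps of generic stalks
-/

set_option autoImplicit false
set_option backward.isDefEq.respectTransparency.types false
universe u

open CategoryTheory AlgebraicGeometry IsLocalRing Opposite

namespace Groth.Agent.RefHullLib

section Algebra

variable {R : Type u} [CommRing R] [IsDomain R] [IsNoetherianRing R] {M : Type u} [AddCommGroup M] [Module R M]
  [Module.Finite R M]

/-- Over a domain the evaluation map is onto when the torsion free quotient is free. -/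
theorem eval_surjective_of_free (h : Module.Free R (M ⧸ Submodule.torsion R M)) :
    Function.Surjective (Module.Dual.eval R M) := by
  let q := (Submodule.torsion R M).mkQ
  have hq : Function.Bijective q.dualMap := by
    refine ⟨LinearMap.dualMap_injective_of_surjective (Submodule.mkQ_surjective _), fun φ =>
      ⟨(Submodule.torsion R M).liftQ φ fun m hm => ?_, LinearMap.ext fun m => rfl⟩⟩
    obtain ⟨a, ha⟩ := (Submodule.mem_torsion_iff m).1 hm
    have h1 := congrArg φ ha
    rw [Submonoid.smul_def, map_smul, map_zero, smul_eq_mul] at h1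
    exact (mul_eq_zero.1 h1).resolve_left (nonZeroDivisors.ne_zero a.2)
  intro y
  obtain ⟨z, hz⟩ := (Module.bijective_dual_eval R (M ⧸ Submodule.torsion R M)).2 (y ∘ₗ q.dualMap)
  obtain ⟨m, rfl⟩ := Submodule.mkQ_surjective _ z
  refine ⟨m, LinearMap.ext fun φ => ?_⟩
  obtain ⟨ψ, rfl⟩ := hq.2 φ
  exact LinearMap.congr_fun hz ψ

omit [IsNoetherianRing R] [Module.Finite R M] in
theorem isTorsionFree_quotient_torsion : Module.IsTorsionFree R (M ⧸ Submodule.torsion R M) := by
  refine .of_smul_eq_zero fun r x hrx => or_iff_not_imp_left.2 fun hr => ?_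
  obtain ⟨m, rfl⟩ := Submodule.Quotient.mk_surjective _ x
  rw [← Submodule.Quotient.mk_smul, Submodule.Quotient.mk_eq_zero, Submodule.mem_torsion_iff] at hrx
  obtain ⟨a, ha⟩ := hrx
  rw [Submodule.Quotient.mk_eq_zero, Submodule.mem_torsion_iff]
  refine ⟨a * ⟨r, mem_nonZeroDivisors_of_ne_zero hr⟩, ?_⟩
  rwa [mul_smul]

end Algebra

variable {X : Scheme.{u}} [IsIntegral X] [IsLocallyNoetherian X]

theorem isReflexiveAt_dual {G : X.Modules} (hG : Coh.IsCoh G) (x : X) :
    RefHull.IsReflexiveAt (RefHull.dual G) x := by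
  haveI := AssSch12.finite_stalk hG x
  haveI : Module.IsReflexive (X.presheaf.stalk x) (Module.Dual (X.presheaf.stalk x) (G.presheaf.stalk x)) :=
    CAlgMisc2.isReflexive_hom
  exact Module.equiv ((LinearEquiv.ofBijective (RefHull.evalStalk G (Coh.structureModule X) x)
      (evalStalk_bijective_of_isCoh hG x)).trans
      (LinearEquiv.arrowCongr (LinearEquiv.refl _ _) (SDiv28.unitStalkEquiv x).symm)).symm

theorem isCoh_ddual {G : X.Modules} (hG : Coh.IsCoh G) : Coh.IsCoh (RefHull.ddual G) :=
  isCoh_dual (isCoh_dual hG (Coherent.isCoh_structureModule X)) (Coherent.isCoh_structureModule X)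

theorem isReflexiveAt_ddual {G : X.Modules} (hG : Coh.IsCoh G) (x : X) :
    RefHull.IsReflexiveAt (RefHull.ddual G) x :=
  isReflexiveAt_dual (isCoh_dual hG (Coherent.isCoh_structureModule X)) x

theorem isReflexive_ddual {G : X.Modules} (hG : Coh.IsCoh G) : RefHull.IsReflexive (RefHull.ddual G) :=
  (isReflexive_iff_stalks (isCoh_ddual hG)).2 (isReflexiveAt_ddual hG)

theorem stalk_bidualMap_surjective {F : X.Modules} (hF : Coh.IsCoh F) (x : X)
    (h : Module.Free (X.presheaf.stalk x)
      (F.presheaf.stalk x ⧸ Submodule.torsion (X.presheaf.stalk x) (F.presheaf.stalk x))) :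
    Function.Surjective (RefHull.stalkMapₗ (RefHull.bidualMap F) x) := by
  haveI := AssSch12.finite_stalk hF x
  intro w
  have hd : Coh.IsCoh (RefHull.dual F) := isCoh_dual hF (Coherent.isCoh_structureModule X)
  obtain ⟨v, hv⟩ := eval_surjective_of_free h
    ((doubleDualEquiv hF x).symm (RefHull.evalStalk (RefHull.dual F) (Coh.structureModule X) x w))
  refine ⟨v, (evalStalk_bijective_of_isCoh hd x).1 ?_⟩
  rw [evalStalk_bidualMap, ← doubleDualEquiv_eval hF x v, hv, LinearEquiv.apply_symm_apply]

theorem isField_stalk_genericPoint : IsField (X.presheaf.stalk (genericPoint X)) :=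
  Field.toIsField X.functionField

theorem bijective_stalk_bidualMap_genericPoint {F : X.Modules} (hF : Coh.IsCoh F) :
    Function.Bijective (RefHull.stalkMapₗ (RefHull.bidualMap F) (genericPoint X)) := by
  rw [bijective_stalk_bidualMap_iff hF]
  haveI := AssSch12.finite_stalk hF (genericPoint X)
  letI : Field (X.presheaf.stalk (genericPoint X)) := isField_stalk_genericPoint.toField
  show Module.IsReflexive _ _
  infer_instance

/-- Morphisms into a torsion free module are determined at the generic point. -/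
theorem hom_ext_genericPoint {G F : X.Modules} (hF : Coh.IsCoh F) (hrefl : ∀ x, RefHull.IsReflexiveAt F x)
    {φ ψ : G ⟶ F} (h : RefHull.stalkMapₗ φ (genericPoint X) = RefHull.stalkMapₗ ψ (genericPoint X)) : φ = ψ := by
  refine Scheme.Modules.hom_ext _ _ fun U => ?_
  ext m
  refine section_ext_of_germ_genericPoint F hF.1 (fun x _ => by
    haveI := AssSch12.finite_stalk hF x
    haveI : Module.IsReflexive (X.presheaf.stalk x) (F.presheaf.stalk x) := hrefl x
    infer_instance) _ _ fun hη => ?_
  rw [← RefHull.stalkMapₗ_germ, ← RefHull.stalkMapₗ_germ, h]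

/-- A generic element lying in codimension one stalks over an open is a section there. -/
theorem exists_section_of_codimOne {F : X.Modules} (hX : Pi1.IsNormalScheme X) (hF : Coh.IsCoh F)
    (hrefl : ∀ x, RefHull.IsReflexiveAt F x) {U : X.Opens} (hη : genericPoint X ∈ U)
    (v : F.presheaf.stalk (genericPoint X))
    (h : ∀ y ∈ U, ringKrullDim (X.presheaf.stalk y) = 1 → v ∈ Set.range (toGen F y)) :
    ∃ n : Γ(F, U), F.presheaf.germ U (genericPoint X) hη n = v :=
  exists_germ_eq_of_forall_mem_range F hF.1 (fun x => by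
    haveI := AssSch12.finite_stalk hF x
    haveI : Module.IsReflexive (X.presheaf.stalk x) (F.presheaf.stalk x) := hrefl x
    infer_instance) hη v fun x hx =>
      mem_range_toGen F hX hF x (hrefl x) v fun y hy hd => h y (hy.mem_open U.isOpen hx) hd

/-- A map of generic stalks respecting the codimension one stalks extends to a morphism. -/
theorem exists_hom_of_genericMap {G F : X.Modules} (hX : Pi1.IsNormalScheme X) (hF : Coh.IsCoh F)
    (hrefl : ∀ x, RefHull.IsReflexiveAt F x) (T : RefHull.StalkHom G F (genericPoint X))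
    (hT : ∀ y : X, ringKrullDim (X.presheaf.stalk y) = 1 →
      ∀ v, T (toGen G y v) ∈ Set.range (toGen F y)) :
    ∃ ψ : G ⟶ F, RefHull.stalkMapₗ ψ (genericPoint X) = T := by
  classical
  have htf : ∀ x, Module.IsTorsionFree (X.presheaf.stalk x) (F.presheaf.stalk x) := fun x => by
    haveI := AssSch12.finite_stalk hF x
    haveI : Module.IsReflexive (X.presheaf.stalk x) (F.presheaf.stalk x) := hrefl x
    infer_instance
  have hex : ∀ (W : X.Opens) (m : Γ(G, W)), ∃ n : Γ(F, W), ∀ hη : genericPoint X ∈ W,
      F.presheaf.germ W (genericPoint X) hη n = T (G.presheaf.germ W (genericPoint X) hη m) := by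
    intro W m
    by_cases hη : genericPoint X ∈ W
    · obtain ⟨n, hn⟩ := exists_section_of_codimOne hX hF hrefl hη
        (T (G.presheaf.germ W (genericPoint X) hη m)) (fun y hy hd => by
          have := hT y hd (G.presheaf.germ W y hy m)
          rwa [toGen_germ] at this)
      exact ⟨n, fun _ => hn⟩
    · exact ⟨0, fun h => absurd h hη⟩
  choose n hn using hex
  have huniq : ∀ (W : X.Opens) (a b : Γ(F, W)), (∀ hη : genericPoint X ∈ W,
      F.presheaf.germ W (genericPoint X) hη a = F.presheaf.germ W (genericPoint X) hη b) → a = b :=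
    fun W a b => section_ext_of_germ_genericPoint F hF.1 (fun x _ => htf x) a b
  let f : ∀ W : X.Opens, Γ(G, W) →+ Γ(F, W) := fun W =>
    AddMonoidHom.mk' (n W) fun a b => huniq W _ _ fun hη => by
      rw [map_add, hn W _ hη, hn W _ hη, hn W _ hη, map_add, map_add]
  refine ⟨⟨PresheafOfModules.homMk
      { app := fun W => AddCommGrpCat.ofHom (f W.unop)
        naturality := fun {W V} i => by
          ext m
          refine huniq _ _ _ fun hη => ?_
          change F.presheaf.germ _ _ hη (n _ (G.presheaf.map i m)) = F.presheaf.germ _ _ hη (F.presheaf.map i (n _ m))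
          rw [hn _ _ hη, TopCat.Presheaf.germ_res_apply', TopCat.Presheaf.germ_res_apply', hn] }
      (fun W r m => huniq _ _ _ fun hη => by
        change F.presheaf.germ _ _ hη (n _ _) = _
        rw [hn _ _ hη]
        refine (congrArg T (Mero.germ_smul G W.unop _ hη r m)).trans ?_
        rw [map_smul]
        refine (Eq.symm ((Mero.germ_smul F W.unop _ hη r (n W.unop m)).trans ?_))
        rw [hn _ _ hη])⟩, LinearMap.ext fun v => ?_⟩
  obtain ⟨W, hη, m, rfl⟩ := G.presheaf.exists_germ_eq v
  rw [RefHull.stalkMapₗ_germ]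
  exact hn W m hη

/-- Reflexive modules with generic stalks matching in codimension one are isomorphic. -/
theorem nonempty_iso_of_genericEquiv {G F : X.Modules} (hX : Pi1.IsNormalScheme X) (hF : Coh.IsCoh F)
    (hFr : ∀ x, RefHull.IsReflexiveAt F x) (hG : Coh.IsCoh G) (hGr : ∀ x, RefHull.IsReflexiveAt G x)
    (T : G.presheaf.stalk (genericPoint X) ≃ₗ[X.presheaf.stalk (genericPoint X)] F.presheaf.stalk (genericPoint X))
    (hT : ∀ y : X, ringKrullDim (X.presheaf.stalk y) = 1 →
      T '' Set.range (toGen G y) = Set.range (toGen F y)) : Nonempty (G ≅ F) := by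
  obtain ⟨ψ, hψ⟩ := exists_hom_of_genericMap hX hF hFr T.toLinearMap
    fun y hy v => (hT y hy) ▸ Set.mem_image_of_mem _ ⟨v, rfl⟩
  obtain ⟨φ, hφ⟩ := exists_hom_of_genericMap hX hG hGr T.symm.toLinearMap fun y hy v => by
    obtain ⟨w, ⟨a, rfl⟩, hw⟩ := (hT y hy).symm.subset (Set.mem_range_self v)
    exact ⟨a, by rw [← hw]; exact (T.symm_apply_apply _).symm⟩
  have hc : ∀ {A B C : X.Modules} (a : A ⟶ B) (b : B ⟶ C) (v : A.presheaf.stalk (genericPoint X)),
      RefHull.stalkMapₗ (a ≫ b) _ v = RefHull.stalkMapₗ b _ (RefHull.stalkMapₗ a _ v) := fun a b v => by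
    obtain ⟨U, hU, m, rfl⟩ := TopCat.Presheaf.exists_germ_eq _ v
    rw [RefHull.stalkMapₗ_germ, RefHull.stalkMapₗ_germ, RefHull.stalkMapₗ_germ]
    rfl
  have hid : ∀ (A : X.Modules) (v : A.presheaf.stalk (genericPoint X)),
      RefHull.stalkMapₗ (𝟙 A) _ v = v := fun A v => by
    obtain ⟨U, hU, m, rfl⟩ := TopCat.Presheaf.exists_germ_eq _ v
    rw [RefHull.stalkMapₗ_germ]
    rfl
  refine ⟨⟨ψ, φ, hom_ext_genericPoint hG hGr (LinearMap.ext fun v => ?_),
    hom_ext_genericPoint hF hFr (LinearMap.ext fun v => ?_)⟩⟩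
  · rw [hc, hψ, hφ, hid]; exact T.symm_apply_apply v
  · rw [hc, hφ, hψ, hid]; exact T.apply_symm_apply v

end Groth.Agent.RefHullLib
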