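import Groth.Agent.RefHullLib.Restrict
import Groth.Agent.SDiv28.IsoCriterion
import Groth.Agent.Coherent.QcohOps
import Groth.Agent.Coherent.DevissageIdeal
import Groth.Agent.Coherent.SubFTCovers
import Groth.Agent.Coherent.RpushSupport
import Mathlib

/-!
# Reflexive modules extend across closed subsets of depth at least two
-/

set_option autoImplicit false
set_option backward.isDefEq.respectTransparency.types false
universe u

open CategoryTheory AlgebraicGeometry IsLocalRing TopologicalSpace Opposite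
open Groth.Agent.Coherent Groth.Agent.PicLib

namespace Groth.Agent.RefHullLib

variable {X : Scheme.{u}}

theorem two_le_depth_of_isReflexiveAt [IsLocallyNoetherian X] [IsIntegral X] {F : X.Modules} (hF : Coh.IsCoh F)
    {x : X} (h : RefHull.IsReflexiveAt F x)
    (hd : (2 : ℕ∞) ≤ LocCoh.depth (X.presheaf.stalk x) (X.presheaf.stalk x)) :
    (2 : ℕ∞) ≤ LocCoh.depth (X.presheaf.stalk x) (F.presheaf.stalk x) := by
  haveI := AssSch12.finite_stalk hF x
  haveI : Module.IsReflexive (X.presheaf.stalk x) (F.presheaf.stalk x) := h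
  rw [CAlgH3.depth_congr (Module.evalEquiv (X.presheaf.stalk x) (F.presheaf.stalk x))]
  exact le_trans (le_min le_rfl hd)
    (CAlgMisc2.min_two_depth_le_depth_hom (Module.Dual (X.presheaf.stalk x) (F.presheaf.stalk x)) (X.presheaf.stalk x))

theorem ne_genericPoint_of_two_le_depth [IsLocallyNoetherian X] [IsIntegral X] {x : X}
    (hd : (2 : ℕ∞) ≤ LocCoh.depth (X.presheaf.stalk x) (X.presheaf.stalk x)) : x ≠ genericPoint X := by
  rintro rfl
  refine (CAlgH3.one_le_depth_iff (R := X.presheaf.stalk (genericPoint X))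
    (M := X.presheaf.stalk (genericPoint X))).1 (le_trans (by norm_num) hd) ?_
  rw [IsLocalRing.isField_iff_maximalIdeal_eq.1 isField_stalk_genericPoint]
  refine (isAssociatedPrime_iff (R := X.presheaf.stalk (genericPoint X))).2 ⟨Ideal.isPrime_bot, 1, ?_⟩
  ext a
  simp [Submodule.mem_colon_singleton]

/-- The sections of `j_* j^* M` are those over the trace on the open. -/
theorem resM_push_injective (M : X.Modules) (U V : X.Opens) :
    Function.Injective (resM ((Scheme.Modules.pushforward U.ι).obj (M.restrict U.ι)) (inf_le_left : V ⊓ U ≤ V)) := by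
  have e : U.ι ''ᵁ U.ι ⁻¹ᵁ (V ⊓ U) = U.ι ''ᵁ U.ι ⁻¹ᵁ V := by
    congr 1
    ext z
    exact ⟨fun h => h.1, fun h => ⟨h, z.2⟩⟩
  let i : op (U.ι ''ᵁ U.ι ⁻¹ᵁ V) ⟶ op (U.ι ''ᵁ U.ι ⁻¹ᵁ (V ⊓ U)) := (homOfLE e.le).op
  haveI : IsIso i := ⟨(homOfLE e.ge).op, Subsingleton.elim _ _, Subsingleton.elim _ _⟩
  exact (ConcreteCategory.bijective_of_isIso (M.presheaf.map i)).1

/-- A point outside the open is not associated to `j_* j^* M`. -/
theorem notMem_ass_push [IsLocallyNoetherian X] [IsIntegral X] (M : X.Modules) (U : X.Opens) {x : X}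
    (hxη : x ≠ genericPoint X)
    (htf : ∀ y ∈ U, Module.IsTorsionFree (X.presheaf.stalk y) (M.presheaf.stalk y)) :
    x ∉ AssSch.Ass ((Scheme.Modules.pushforward U.ι).obj (M.restrict U.ι)) := by
  let G := (Scheme.Modules.pushforward U.ι).obj (M.restrict U.ι)
  intro h
  obtain ⟨hprime, z, hz⟩ := (isAssociatedPrime_iff (R := X.presheaf.stalk x)).1 h
  obtain ⟨_, ⟨V, hV, rfl⟩, hxV, -⟩ :=
    X.isBasis_affineOpens.exists_subset_of_mem_open (Set.mem_univ x) isOpen_univ
  let A : X.Opens := ⟨(closure ({x} : Set X))ᶜ, isClosed_closure.isOpen_compl⟩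
  have hηV := genericPoint_mem_of_mem hxV
  have hηA : genericPoint X ∈ A := fun hm =>
    hxη ((specializes_iff_mem_closure.2 hm).antisymm (genericPoint_specializes x)).eq
  obtain ⟨g, hgA, hgη⟩ := hV.exists_basicOpen_le (⟨genericPoint X, hηA⟩ : A) hηV
  have hgm : X.presheaf.germ V x hxV g ∈ maximalIdeal (X.presheaf.stalk x) :=
    (mem_maximalIdeal _).2 fun hu => hgA ((X.mem_basicOpen g x hxV).2 hu) (subset_closure rfl)
  obtain ⟨W₀, hxW₀, t, rfl⟩ := G.presheaf.exists_germ_eq z
  rw [hz, Submodule.mem_colon_singleton, Submodule.mem_bot] at hgm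
  have hxW : x ∈ V ⊓ W₀ := ⟨hxV, hxW₀⟩
  have h0 : G.presheaf.germ (V ⊓ W₀) x hxW (res (inf_le_left : V ⊓ W₀ ≤ V) g • resM G inf_le_right t) =
      G.presheaf.germ (V ⊓ W₀) x hxW 0 := by
    rw [map_zero, ← hgm, QCohLoc.germ_smul']
    exact congrArg₂ (· • ·) (TopCat.Presheaf.germ_res_apply X.presheaf _ _ _ _)
      (TopCat.Presheaf.germ_res_apply G.presheaf _ _ _ _)
  obtain ⟨W, hxW', i, j, hW⟩ := G.presheaf.germ_eq x _ _ _ _ h0
  have hzero : resM G (i.le.trans inf_le_right) t = 0 := by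
    apply resM_push_injective M U W
    rw [map_zero]
    refine TopCat.Presheaf.section_ext ⟨G.presheaf, G.isSheaf⟩ (W ⊓ U) _ _ fun y hy => ?_
    rw [map_zero]
    let η : M ⟶ G := (Scheme.Modules.restrictAdjunction U.ι).unit.app M
    have hη : Function.Bijective (RefHull.stalkMapₗ η y) := Coherent.bijective_stalk_restrictUnit M hy.2
    obtain ⟨v, hv⟩ := hη.2 (G.presheaf.germ (W ⊓ U) y hy (resM G inf_le_left (resM G (i.le.trans inf_le_right) t)))
    rw [← hv]
    suffices v = 0 by rw [this, map_zero]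
    have hyV : y ∈ V := (i.le hy.1).1
    have hne : X.presheaf.germ V y hyV g ≠ 0 := fun e => by
      have h1 := (X.mem_basicOpen g _ hηV).1 hgη
      rw [← toGenRing_germ hyV, e, map_zero] at h1
      exact not_isUnit_zero h1
    haveI := htf y hy.2
    refine (smul_eq_zero.1 (hη.1 ?_)).resolve_left hne
    rw [map_zero, map_smul, hv]
    have h1 := congrArg (fun s => G.presheaf.germ W y hy.1 s) hW
    simp only [map_zero] at h1
    rw [TopCat.Presheaf.germ_res_apply, QCohLoc.germ_smul'] at h1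
    refine Eq.trans (congrArg₂ (· • ·) (TopCat.Presheaf.germ_res_apply X.presheaf _ _ _ _).symm
      ((TopCat.Presheaf.germ_res_apply G.presheaf _ _ _ _).trans
        ((TopCat.Presheaf.germ_res_apply G.presheaf _ _ _ _).trans
          (TopCat.Presheaf.germ_res_apply G.presheaf _ _ (i.le hy.1) _).symm))) h1
  refine hprime.ne_top (hz.trans (eq_top_iff.2 fun a _ => ?_))
  rw [Submodule.mem_colon_singleton, Submodule.mem_bot,
    ← TopCat.Presheaf.germ_res_apply G.presheaf (homOfLE (i.le.trans (inf_le_right : V ⊓ W₀ ≤ W₀))) x hxW' t]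
  exact (congrArg (a • ·) ((congrArg (G.presheaf.germ W x hxW') hzero).trans (map_zero _))).trans (smul_zero a)

variable [IsLocallyNoetherian X]

theorem isQCoh_push_restrict (M : X.Modules) (hM : Coh.IsQCoh M) (U : X.Opens) :
    Coh.IsQCoh ((Scheme.Modules.pushforward U.ι).obj (M.restrict U.ι)) := by
  haveI := hM
  exact isQCoh_push U.ι (M.restrict U.ι)

/-- A reflexive coherent module is the direct image of its restriction. -/
theorem isIso_restrictUnit [IsIntegral X] (U : X.Opens)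
    (hU : ∀ x : X, x ∉ U → (2 : ℕ∞) ≤ LocCoh.depth (X.presheaf.stalk x) (X.presheaf.stalk x))
    {F : X.Modules} (hF : Coh.IsCoh F) (hrefl : ∀ x, RefHull.IsReflexiveAt F x) :
    IsIso ((Scheme.Modules.restrictAdjunction U.ι).unit.app F) := by
  refine SDiv28.isIso_of_stalk_iso_or_two_le_depth _ hF (isQCoh_push_restrict F hF.1 U) fun x => ?_
  by_cases hx : x ∈ U
  · exact Or.inl (Coherent.bijective_stalk_restrictUnit F hx)
  refine Or.inr ⟨two_le_depth_of_isReflexiveAt hF (hrefl x) (hU x hx),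
    notMem_ass_push F U (ne_genericPoint_of_two_le_depth (hU x hx)) fun y _ => ?_⟩
  haveI := AssSch12.finite_stalk hF y
  haveI : Module.IsReflexive (X.presheaf.stalk y) (F.presheaf.stalk y) := hrefl y
  infer_instance

theorem stalkMapₗ_restrict_bijective {F G : X.Modules} (φ : F ⟶ G) (U : X.Opens) (z : U.toScheme)
    (h : Function.Bijective (RefHull.stalkMapₗ φ (U.ι z))) :
    Function.Bijective (RefHull.stalkMapₗ ((Scheme.Modules.restrictFunctor U.ι).map φ) z) := by
  obtain ⟨_, eF, -, -, hgF⟩ := exists_semilinear_restrict U.ι F z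
  obtain ⟨_, eG, -, -, hgG⟩ := exists_semilinear_restrict U.ι G z
  have : ⇑(RefHull.stalkMapₗ ((Scheme.Modules.restrictFunctor U.ι).map φ) z) =
      eG ∘ RefHull.stalkMapₗ φ (U.ι z) ∘ eF.symm := by
    funext v
    obtain ⟨W, hW, m, rfl⟩ := (F.restrict U.ι).presheaf.exists_germ_eq v
    rw [RefHull.stalkMapₗ_germ, Function.comp_apply, Function.comp_apply]
    obtain ⟨m', rfl⟩ : ∃ m' : Γ(F, U.ι ''ᵁ W), (F.restrictAppIso U.ι W).inv m' = m := ⟨m, rfl⟩
    rw [← hgF W hW m', eF.symm_apply_apply, RefHull.stalkMapₗ_germ, hgG W hW]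
    rfl
  rw [this]
  exact eG.bijective.comp (h.comp eF.symm.bijective)

theorem isIso_restrict_map {F G : X.Modules} (φ : F ⟶ G) (U : X.Opens)
    (h : ∀ y ∈ U, Function.Bijective (RefHull.stalkMapₗ φ y)) :
    IsIso ((Scheme.Modules.restrictFunctor U.ι).map φ) := by
  refine ModStalk.isIso_of_stalks _ fun z => ?_
  rw [ConcreteCategory.isIso_iff_bijective]
  exact stalkMapₗ_restrict_bijective φ U z (h _ z.2)

/-- If `F` is the direct image of a restriction with reflexive stalks, then it is reflexive. -/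
theorem isReflexive_of_isIso_restrictUnit [IsIntegral X] (U : X.Opens)
    (hU : ∀ x : X, x ∉ U → (2 : ℕ∞) ≤ LocCoh.depth (X.presheaf.stalk x) (X.presheaf.stalk x))
    {F : X.Modules} (hF : Coh.IsCoh F) (hrefl : ∀ y ∈ U, RefHull.IsReflexiveAt F y)
    (hiso : IsIso ((Scheme.Modules.restrictAdjunction U.ι).unit.app F)) :
    RefHull.IsReflexive F := by
  haveI := hiso
  haveI := isIso_restrictUnit U hU (isCoh_ddual hF) (isReflexiveAt_ddual hF)
  haveI := isIso_restrict_map (RefHull.bidualMap F) U fun y hy => (bijective_stalk_bidualMap_iff hF y).2 (hrefl y hy)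
  let ad := Scheme.Modules.restrictAdjunction U.ι
  have hnat : RefHull.bidualMap F ≫ ad.unit.app (RefHull.ddual F) =
      ad.unit.app F ≫ (Scheme.Modules.pushforward U.ι).map
        ((Scheme.Modules.restrictFunctor U.ι).map (RefHull.bidualMap F)) :=
    ad.unit.naturality (RefHull.bidualMap F)
  haveI : IsIso (RefHull.bidualMap F ≫ ad.unit.app (RefHull.ddual F)) := hnat ▸ inferInstance
  exact IsIso.of_isIso_comp_right (RefHull.bidualMap F) (ad.unit.app (RefHull.ddual F))

/-- The direct image of a reflexive coherent module on the open is coherent and reflexive. -/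
theorem isCoh_and_isReflexive_push [IsIntegral X] (U : X.Opens)
    (hU : ∀ x : X, x ∉ U → (2 : ℕ∞) ≤ LocCoh.depth (X.presheaf.stalk x) (X.presheaf.stalk x))
    (G : (U : Scheme.{u}).Modules) (hG : Coh.IsCoh G) (hrefl : ∀ z, RefHull.IsReflexiveAt G z) :
    Coh.IsCoh ((Scheme.Modules.pushforward U.ι).obj G) ∧
      ∀ x : X, RefHull.IsReflexiveAt ((Scheme.Modules.pushforward U.ι).obj G) x := by
  haveI := hG.1
  let ad := Scheme.Modules.restrictAdjunction U.ι
  haveI : Coh.IsQCoh ((Scheme.Modules.pushforward U.ι).obj G) := isQCoh_push U.ι G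
  let i : G ⟶ ((Scheme.Modules.pushforward U.ι).obj G).restrict U.ι := ((asIso ad.counit).app G).inv
  have hX : ∀ x : X, ∃ W : X.Opens, x ∈ W ∧ NoetherianSpace (W : Set X) := fun x => by
    obtain ⟨_, ⟨V, hV, rfl⟩, hxV, -⟩ :=
      X.isBasis_affineOpens.exists_subset_of_mem_open (Set.mem_univ x) isOpen_univ
    haveI : IsNoetherianRing Γ(X, V) := IsLocallyNoetherian.component_noetherian ⟨V, hV⟩
    exact ⟨V, hxV, noetherianSpace_of_isAffineOpen V hV⟩
  obtain ⟨F, i', e, -, hFq, hFt, -⟩ := exists_finiteType_extension_locallyNoetherian U i hG.2 hX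
  have hF : Coh.IsCoh F := ⟨hFq, hFt⟩
  have hFU : ∀ y ∈ U, RefHull.IsReflexiveAt F y := fun y hy => by
    refine (isReflexiveAt_restrict_iff U.ι F ⟨y, hy⟩).1 ?_
    haveI : Module.IsReflexive (U.toScheme.presheaf.stalk ⟨y, hy⟩) (G.presheaf.stalk ⟨y, hy⟩) := hrefl ⟨y, hy⟩
    let e' : (F.restrict U.ι).presheaf.stalk ⟨y, hy⟩ ≃ₗ[U.toScheme.presheaf.stalk ⟨y, hy⟩] G.presheaf.stalk ⟨y, hy⟩ :=
      LinearEquiv.ofBijective (RefHull.stalkMapₗ e.hom ⟨y, hy⟩)
        (ConcreteCategory.bijective_of_isIso ((DerSch.stalkFunctor U.toScheme ⟨y, hy⟩).map e.hom))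
    exact Module.equiv e'.symm
  haveI := isIso_restrict_map (RefHull.bidualMap F) U fun y hy => (bijective_stalk_bidualMap_iff hF y).2 (hFU y hy)
  haveI := isIso_restrictUnit U hU (isCoh_ddual hF) (isReflexiveAt_ddual hF)
  let eD : RefHull.ddual F ≅ (Scheme.Modules.pushforward U.ι).obj G :=
    asIso (ad.unit.app (RefHull.ddual F)) ≪≫ (Scheme.Modules.pushforward U.ι).mapIso
      ((asIso ((Scheme.Modules.restrictFunctor U.ι).map (RefHull.bidualMap F))).symm ≪≫ e)
  have hC : Coh.IsCoh ((Scheme.Modules.pushforward U.ι).obj G) := Coherent.isCoh_of_iso eD (isCoh_ddual hF)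
  refine ⟨hC, fun x => ?_⟩
  haveI : Module.IsReflexive (X.presheaf.stalk x) ((RefHull.ddual F).presheaf.stalk x) := isReflexiveAt_ddual hF x
  exact Module.equiv (LinearEquiv.ofBijective (RefHull.stalkMapₗ eD.hom x)
    (ConcreteCategory.bijective_of_isIso ((DerSch.stalkFunctor X x).map eD.hom)))

end Groth.Agent.RefHullLib
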