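import Groth.Agent.RefHullLib.TensorGen
import Groth.Agent.CAlgMisc2.DVRCrit
import Groth.Agent.ModStalk.Exact
import Mathlib

/-!
# Divisors of rational sections of rank one reflexive modules
-/

set_option autoImplicit false
set_option backward.isDefEq.respectTransparency.types false
universe u

open CategoryTheory AlgebraicGeometry IsLocalRing
open Groth.Agent.Coherent Groth.Agent.PicLib Groth.Agent.AmpleLib

namespace Groth.Agent.RefHullLib

variable {X : Scheme.{u}} [IsIntegral X]

/-- The order of an element of the generic stalk along a point. -/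
noncomputable def sOrd (F : X.Modules) (x : X) (s : F.presheaf.stalk (genericPoint X)) : ℤ :=
  Cyc.secOrdAt F (genericPoint X) x ((genericPoint_spec X).specializes (Set.mem_univ x)) (Submodule.Quotient.mk s)

theorem toGen_genericPoint (F : X.Modules) (v : F.presheaf.stalk (genericPoint X)) :
    toGen F (genericPoint X) v = v := by
  obtain ⟨U, hU, n, rfl⟩ := F.presheaf.exists_germ_eq v
  exact toGen_germ F hU n

variable [IsLocallyNoetherian X]

theorem sOrd_eq {F : X.Modules} (hF : Coh.IsQCoh F) {x : X} (hx : Order.coheight x = 1)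
    {t : F.presheaf.stalk x} (ht : Function.Bijective fun a : X.presheaf.stalk x => a • t)
    (φ : X.functionField) (s : F.presheaf.stalk (genericPoint X)) (hs : φ • toGen F x t = s) :
    sOrd F x s = Scheme.ord φ x :=
  secOrdAt_eq (fun y => (genericPoint_spec X).specializes (Set.mem_univ y)) hF hx ht φ _ (by rw [← hs])

theorem exists_coord {F : X.Modules} (hF : Coh.IsQCoh F) {x : X} {t : F.presheaf.stalk x}
    (ht : Function.Bijective fun a : X.presheaf.stalk x => a • t) {s : F.presheaf.stalk (genericPoint X)}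
    (hs : s ≠ 0) : ∃ φ : X.functionField, φ ≠ 0 ∧ φ • toGen F x t = s := by
  obtain ⟨φ, hφ⟩ := (bijective_smul_toGen hF ht).2 s
  exact ⟨φ, fun h => hs (by rw [← hφ, h]; exact zero_smul _ _), hφ⟩

theorem sOrd_smul {F : X.Modules} (hF : Coh.IsQCoh F) {x : X} (hx : Order.coheight x = 1)
    {t : F.presheaf.stalk x} (ht : Function.Bijective fun a : X.presheaf.stalk x => a • t)
    {f : X.functionField} (hf : f ≠ 0) {s : F.presheaf.stalk (genericPoint X)} (hs : s ≠ 0) :
    sOrd F x (f • s) = sOrd F x s + Scheme.ord f x := by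
  obtain ⟨φ, hφ0, hφ⟩ := exists_coord hF ht hs
  rw [sOrd_eq hF hx ht φ s hφ, sOrd_eq hF hx ht (f * φ) (f • s) (by rw [mul_smul, hφ]), Scheme.ord_mul hf hφ0,
    add_comm]

/-- A rational function without zeros or poles at a normal point of codimension one is a unit there. -/
theorem exists_unit_of_ord_eq_zero (hX : Pi1.IsNormalScheme X) {x : X} (hx : Order.coheight x = 1)
    {φ : X.functionField} (hφ : φ ≠ 0) (h : Scheme.ord φ x = 0) :
    ∃ u : (X.presheaf.stalk x)ˣ, algebraMap (X.presheaf.stalk x) X.functionField u = φ := by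
  haveI := (hX x).1
  haveI := (hX x).2
  haveI : Ring.KrullDimLE 1 (X.presheaf.stalk x) := krullDimLE_of_coheight_le hx.le
  have hdim : ringKrullDim (X.presheaf.stalk x) = 1 := (ringKrullDim_eq_one_iff_coheight x).2 hx
  haveI : IsRegularLocalRing (X.presheaf.stalk x) := CAlgH3.isRegularLocalRing_of_normal_dim_le_one hdim.le
  obtain ⟨_, hdvr⟩ := CAlgMisc2.dvr_iff.2
    ⟨spanFinrank_le_of_dim_le (R := X.presheaf.stalk x) (k := 1) (by exact_mod_cast hdim.le), hdim⟩
  have key : ∀ a : X.presheaf.stalk x, a ≠ 0 →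
      Scheme.ord (algebraMap (X.presheaf.stalk x) X.functionField a) x = 0 → IsUnit a := by
    intro a ha h0
    have ha' : algebraMap (X.presheaf.stalk x) X.functionField a ≠ 0 :=
      (map_ne_zero_iff _ (IsFractionRing.injective _ _)).2 ha
    rw [Scheme.ord_eq_iff hx ha'] at h0
    change Ring.ordFrac (X.presheaf.stalk x) (algebraMap (X.presheaf.stalk x) X.functionField a) = _ at h0
    obtain ⟨m, hm⟩ := ENat.ne_top_iff_exists.mp (Ring.ord_ne_top (mem_nonZeroDivisors_of_ne_zero ha))
    rw [Ring.ordFrac_eq_ord _ ha, Ring.ordMonoidWithZeroHom_eq_coe _ (mem_nonZeroDivisors_of_ne_zero ha) hm.symm,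
      WithZero.coe_inj] at h0
    have hm0 : m = 0 := by
      have := congrArg Multiplicative.toAdd h0
      simpa using this
    subst hm0
    have hl : Module.length (X.presheaf.stalk x) (X.presheaf.stalk x ⧸ Ideal.span {a}) = 0 := hm.symm
    rw [Module.length_eq_zero_iff, Submodule.Quotient.subsingleton_iff] at hl
    exact Ideal.span_singleton_eq_top.1 hl
  rcases ValuationRing.isInteger_or_isInteger (X.presheaf.stalk x) φ with ⟨a, ha⟩ | ⟨a, ha⟩
  · have hu := key a (fun e => hφ (by rw [← ha, e, map_zero])) (ha ▸ h)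
    exact ⟨hu.unit, ha⟩
  · have hinv : Scheme.ord φ⁻¹ x = 0 := by
      have := Scheme.ord_mul (x := x) hφ (inv_ne_zero hφ)
      rw [mul_inv_cancel₀ hφ, h, zero_add] at this
      rw [← this]
      exact (Scheme.ord_eq_iff hx one_ne_zero).2 (map_one _)
    have hu := key a (fun e => inv_ne_zero hφ (by rw [← ha, e, map_zero])) (ha ▸ hinv)
    refine ⟨hu.unit⁻¹, ?_⟩
    apply inv_injective
    rw [← ha, map_units_inv, inv_inv]
    rfl

/-- A divisor of some nonzero rational section. -/
def IsDiv (F : X.Modules) (D : X → ℤ) : Prop :=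
  ∃ s : F.presheaf.stalk (genericPoint X), s ≠ 0 ∧ ∀ x : X, Order.coheight x = 1 → sOrd F x s = D x

variable {F G : X.Modules}

theorem exists_ne_zero_genericPoint (hF : RefHull.GenInvertible F) :
    ∃ f : F.presheaf.stalk (genericPoint X), f ≠ 0 ∧
      Function.Bijective fun a : X.functionField => a • f := by
  obtain ⟨U, hU, t, ht⟩ := exists_gen_genericPoint hF
  have hb := SDiv28.bijective_smul_germ_gen ht hU
  refine ⟨_, fun h => one_ne_zero (α := X.functionField) (hb.1 ?_), hb⟩
  simp [h]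

/-- Equal divisors give isomorphic modules. -/
theorem nonempty_iso_of_isDiv (hX : Pi1.IsNormalScheme X) (hF : RefHull.IsRef1 F) (hG : RefHull.IsRef1 G)
    {s : F.presheaf.stalk (genericPoint X)} (hs : s ≠ 0) {t : G.presheaf.stalk (genericPoint X)} (ht : t ≠ 0)
    (h : ∀ x : X, Order.coheight x = 1 → sOrd F x s = sOrd G x t) : Nonempty (F ≅ G) := by
  obtain ⟨f, hf0, hf⟩ := exists_ne_zero_genericPoint hF.2.2
  obtain ⟨g, hg0, hg⟩ := exists_ne_zero_genericPoint hG.2.2
  have hline : ∀ {M : X.Modules} {m : M.presheaf.stalk (genericPoint X)} (_ : Function.Bijective fun a : X.functionField => a • m)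
      {v : M.presheaf.stalk (genericPoint X)}, v ≠ 0 → Function.Bijective fun a : X.functionField => a • v := by
    intro M m hm v hv
    obtain ⟨c, hc⟩ := hm.2 v
    dsimp only at hc
    have hc0 : c ≠ 0 := fun e => hv (by rw [← hc, e]; exact zero_smul _ _)
    have : (fun a : X.functionField => a • v) = (fun a : X.functionField => a • m) ∘ (fun a => a * c) :=
      funext fun a => by rw [Function.comp_apply, ← hc, mul_smul]
    rw [this]
    exact hm.comp (mulRight_bijective₀ c hc0)
  let eF := LinearEquiv.ofBijective (LinearMap.toSpanSingleton X.functionField _ s) (hline hf hs)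
  let eG := LinearEquiv.ofBijective (LinearMap.toSpanSingleton X.functionField _ t) (hline hg ht)
  let T : F.presheaf.stalk (genericPoint X) ≃ₗ[X.presheaf.stalk (genericPoint X)] G.presheaf.stalk (genericPoint X) :=
    eF.symm.trans eG
  have hT : ∀ a : X.functionField, T (a • s) = a • t := fun a => by
    show eG (eF.symm (a • s)) = a • t
    rw [show a • s = eF a from rfl, LinearEquiv.symm_apply_apply]
    rfl
  refine nonempty_iso_of_genericEquiv hX hG.1 ((isReflexive_iff_stalks hG.1).1 hG.2.1) hF.1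
    ((isReflexive_iff_stalks hF.1).1 hF.2.1) T fun y hy => ?_
  have hy1 := (ringKrullDim_eq_one_iff_coheight y).1 hy
  obtain ⟨tF, htF⟩ := exists_gen_codimOne hX hF hy.le
  obtain ⟨tG, htG⟩ := exists_gen_codimOne hX hG hy.le
  obtain ⟨φ, hφ0, hφ⟩ := exists_coord hF.1.1 htF hs
  obtain ⟨ψ, hψ0, hψ⟩ := exists_coord hG.1.1 htG ht
  have hord := h y hy1
  rw [sOrd_eq hF.1.1 hy1 htF φ s hφ, sOrd_eq hG.1.1 hy1 htG ψ t hψ] at hord
  obtain ⟨u, hu⟩ := exists_unit_of_ord_eq_zero hX hy1 (φ := φ⁻¹ * ψ) (mul_ne_zero (inv_ne_zero hφ0) hψ0) (by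
    have h1 := Scheme.ord_mul (x := y) hφ0 (mul_ne_zero (inv_ne_zero hφ0) hψ0)
    rw [mul_inv_cancel_left₀ hφ0] at h1
    omega)
  have hTt : T (toGen F y tF) = toGen G y ((u : X.presheaf.stalk y) • tG) := by
    rw [show toGen F y tF = φ⁻¹ • s by rw [← hφ, inv_smul_smul₀ hφ0], hT, ← hψ, toGen_smul, ← mul_smul, ← hu]
    rfl
  refine Set.Subset.antisymm ?_ ?_
  · rintro _ ⟨_, ⟨v, rfl⟩, rfl⟩
    obtain ⟨a, rfl⟩ := htF.2 v
    dsimp only
    rw [toGen_smul, map_smul, hTt, ← toGen_smul]
    exact ⟨_, rfl⟩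
  · rintro _ ⟨v, rfl⟩
    obtain ⟨a, rfl⟩ := htG.2 v
    refine ⟨toGen F y ((a * ↑u⁻¹) • tF), ⟨_, rfl⟩, ?_⟩
    rw [toGen_smul, map_smul, hTt, ← toGen_smul, smul_smul]
    exact congrArg (fun c => toGen G y (c • tG)) (by rw [mul_assoc, Units.inv_mul, mul_one])

/-- The stalk map at the generic point commutes with orders for isomorphisms. -/
theorem sOrd_iso (e : F ≅ G) (hF : Coh.IsQCoh F) (hG : Coh.IsQCoh G) {x : X} (hx : Order.coheight x = 1)
    {t : F.presheaf.stalk x} (ht : Function.Bijective fun a : X.presheaf.stalk x => a • t)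
    {s : F.presheaf.stalk (genericPoint X)} (hs : s ≠ 0) :
    sOrd G x (RefHull.stalkMapₗ e.hom (genericPoint X) s) = sOrd F x s := by
  obtain ⟨φ, hφ0, hφ⟩ := exists_coord hF ht hs
  have hb : Function.Bijective (RefHull.stalkMapₗ e.hom x) :=
    ConcreteCategory.bijective_of_isIso ((DerSch.stalkFunctor X x).map e.hom)
  have ht' : Function.Bijective fun a : X.presheaf.stalk x => a • RefHull.stalkMapₗ e.hom x t := by
    have : (fun a : X.presheaf.stalk x => a • RefHull.stalkMapₗ e.hom x t) =
        RefHull.stalkMapₗ e.hom x ∘ fun a : X.presheaf.stalk x => a • t :=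
      funext fun a => (map_smul _ _ _).symm
    rw [this]
    exact hb.comp ht
  rw [sOrd_eq hF hx ht φ s hφ, sOrd_eq hG hx ht' φ _ (by rw [toGen_stalkMap, ← map_smul, hφ])]

theorem stalkMap_iso_bijective (e : F ≅ G) (y : X) : Function.Bijective (RefHull.stalkMapₗ e.hom y) :=
  ConcreteCategory.bijective_of_isIso ((DerSch.stalkFunctor X y).map e.hom)

/-- Isomorphic rank one reflexive modules are those with linearly equivalent divisors. -/
theorem nonempty_iso_iff (hX : Pi1.IsNormalScheme X) (hF : RefHull.IsRef1 F) (hG : RefHull.IsRef1 G)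
    {s : F.presheaf.stalk (genericPoint X)} (hs : s ≠ 0) {t : G.presheaf.stalk (genericPoint X)} (ht : t ≠ 0) :
    Nonempty (F ≅ G) ↔ ∃ f : X.functionField, f ≠ 0 ∧
      ∀ x : X, Order.coheight x = 1 → sOrd F x s = sOrd G x t + Scheme.ord f x := by
  constructor
  · rintro ⟨e⟩
    obtain ⟨g, hg0, hg⟩ := exists_ne_zero_genericPoint hG.2.2
    obtain ⟨a, ha⟩ := hg.2 (RefHull.stalkMapₗ e.hom (genericPoint X) s)
    obtain ⟨b, hb⟩ := hg.2 t
    dsimp only at ha hb
    have hb0 : b ≠ 0 := fun h => ht (by rw [← hb, h]; exact zero_smul _ _)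
    have hes : RefHull.stalkMapₗ e.hom (genericPoint X) s ≠ 0 := fun h =>
      hs ((stalkMap_iso_bijective e _).1 (h.trans (map_zero _).symm))
    have ha0 : a ≠ 0 := fun h => hes (by rw [← ha, h]; exact zero_smul _ _)
    refine ⟨a / b, div_ne_zero ha0 hb0, fun x hx => ?_⟩
    have hdim := ((ringKrullDim_eq_one_iff_coheight x).2 hx).le
    obtain ⟨tF, htF⟩ := exists_gen_codimOne hX hF hdim
    obtain ⟨tG, htG⟩ := exists_gen_codimOne hX hG hdim
    rw [← sOrd_iso e hF.1.1 hG.1.1 hx htF hs, ← sOrd_smul hG.1.1 hx htG (div_ne_zero ha0 hb0) ht,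
      show (a / b) • t = RefHull.stalkMapₗ e.hom (genericPoint X) s by
        rw [← ha, ← hb, ← mul_smul, div_mul_cancel₀ a hb0]]
  · rintro ⟨f, hf, h⟩
    have hft : f • t ≠ 0 := fun e => ht (by rw [← inv_smul_smul₀ hf t, e]; exact smul_zero _)
    refine nonempty_iso_of_isDiv hX hF hG hs hft fun x hx => ?_
    obtain ⟨tG, htG⟩ := exists_gen_codimOne hX hG ((ringKrullDim_eq_one_iff_coheight x).2 hx).le
    rw [h x hx, sOrd_smul hG.1.1 hx htG hf ht]

/-- A bijective image of a generator is a generator. -/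
theorem bijective_smul_map {M N : Type u} {R : Type u} [CommRing R] [AddCommGroup M] [Module R M]
    [AddCommGroup N] [Module R N] {l : M →ₗ[R] N} (hl : Function.Bijective l) {m : M}
    (hm : Function.Bijective fun a : R => a • m) : Function.Bijective fun a : R => a • l m := by
  have : (fun a : R => a • l m) = l ∘ fun a : R => a • m := funext fun a => (map_smul _ _ _).symm
  rw [this]
  exact hl.comp hm

theorem isReflexiveAt_of_gen {x : X} {t : F.presheaf.stalk x}
    (ht : Function.Bijective fun a : X.presheaf.stalk x => a • t) : RefHull.IsReflexiveAt F x :=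
  Module.equiv (LinearEquiv.ofBijective (LinearMap.toSpanSingleton _ _ t) ht)

/-- The product of two rational sections, for a tensor product with generated stalks. -/
theorem exists_mul_section (hF : Coh.IsQCoh F) (hG : Coh.IsQCoh G) (hFi : RefHull.GenInvertible F)
    (hGi : RefHull.GenInvertible G) {s : F.presheaf.stalk (genericPoint X)} (hs : s ≠ 0)
    {t : G.presheaf.stalk (genericPoint X)} (ht : t ≠ 0) :
    ∃ w : (CohB1.tensorMod F G).presheaf.stalk (genericPoint X), w ≠ 0 ∧
      (Function.Bijective fun a : X.functionField => a • w) ∧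
      ∀ (x : X), Order.coheight x = 1 → ∀ (tF : F.presheaf.stalk x) (tG : G.presheaf.stalk x),
        Function.Bijective (fun a : X.presheaf.stalk x => a • tF) →
        Function.Bijective (fun a : X.presheaf.stalk x => a • tG) →
        ∃ z : (CohB1.tensorMod F G).presheaf.stalk x, Function.Bijective (fun a : X.presheaf.stalk x => a • z) ∧
          ∃ φ : X.functionField, φ • toGen (CohB1.tensorMod F G) x z = w ∧
            Scheme.ord φ x = sOrd F x s + sOrd G x t := by
  obtain ⟨T⟩ := exists_tensorFrame hFi hGi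
  obtain ⟨a, ha⟩ := T.bij_f.2 s
  obtain ⟨b, hb⟩ := T.bij_g.2 t
  dsimp only at ha hb
  let K := X.functionField
  have ha0 : (a : K) ≠ 0 := fun e => hs (by rw [← ha]; exact (congrArg (· • T.f) e).trans (zero_smul _ _))
  have hb0 : (b : K) ≠ 0 := fun e => ht (by rw [← hb]; exact (congrArg (· • T.g) e).trans (zero_smul _ _))
  refine ⟨((a : K) * b) • T.z, fun e => mul_ne_zero ha0 hb0 (T.bij_z.1 ?_), ?_, fun x hx tF tG htF htG => ?_⟩
  · exact e.trans (zero_smul _ _).symm
  · have : (fun c : X.functionField => c • ((a : K) * b) • T.z) =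
        (fun c : X.functionField => c • T.z) ∘ (fun c => c * ((a : K) * b)) :=
      funext fun c => (mul_smul _ _ _).symm
    rw [this]
    exact T.bij_z.comp (mulRight_bijective₀ _ (mul_ne_zero ha0 hb0))
  obtain ⟨φ, hφ0, hφ⟩ := exists_coord hF htF hs
  obtain ⟨ψ, hψ0, hψ⟩ := exists_coord hG htG ht
  have eF : toGen F x tF = (φ⁻¹ * a : K) • T.f := by
    rw [mul_smul, show (a : K) • T.f = s from ha, ← hφ, inv_smul_smul₀ hφ0]
  have eG : toGen G x tG = (ψ⁻¹ * b : K) • T.g := by
    rw [mul_smul, show (b : K) • T.g = t from hb, ← hψ, inv_smul_smul₀ hψ0]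
  obtain ⟨z, hz, hzw⟩ := T.exists_gen htF htG _ _ eF eG
    (mul_ne_zero (mul_ne_zero (inv_ne_zero hφ0) ha0) (mul_ne_zero (inv_ne_zero hψ0) hb0))
  refine ⟨z, hz, φ * ψ, ?_, ?_⟩
  · rw [hzw, ← mul_smul]
    congr 1
    field_simp
  · rw [Scheme.ord_mul hφ0 hψ0, sOrd_eq hF hx htF φ s hφ, sOrd_eq hG hx htG ψ t hψ]

end Groth.Agent.RefHullLib
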