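import Groth.Agent.Coherent.CohOps
import Groth.Agent.Coherent.Devissage
import Groth.Agent.ModStalk.Exact
import Groth.Prelude.Def_RefHull
import Mathlib

/-!
# The locus where a morphism of coherent modules is bijective on stalks is open
-/

set_option autoImplicit false
set_option backward.isDefEq.respectTransparency.types false
universe u

open CategoryTheory CategoryTheory.Limits AlgebraicGeometry

namespace Groth.Agent.RefHullLib

variable {X : Scheme.{u}} [IsLocallyNoetherian X]

theorem isOpen_bijective_stalk {F G : X.Modules} (φ : F ⟶ G) (hF : Coh.IsCoh F) (hG : Coh.IsCoh G) :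
    IsOpen {x : X | Function.Bijective (RefHull.stalkMapₗ φ x)} := by
  haveI := hF.1
  haveI := hG.1
  have hk : Coh.IsCoh (kernel φ) := Coherent.isCoh_kernel φ hF hG.1
  have hc : Coh.IsCoh (cokernel φ) := Coherent.isCoh_cokernel φ hF.1 hG
  have e : {x : X | Function.Bijective (RefHull.stalkMapₗ φ x)} =
      (CohB1.support (kernel φ))ᶜ ∩ (CohB1.support (cokernel φ))ᶜ := by
    ext x
    let S := DerSch.stalkFunctor X x
    rw [Set.mem_inter_iff, Set.mem_compl_iff, Set.mem_compl_iff, Coherent.notMem_support_iff,
      Coherent.notMem_support_iff]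
    have hb : IsIso (S.map φ) ↔ Function.Bijective (RefHull.stalkMapₗ φ x) :=
      ConcreteCategory.isIso_iff_bijective (S.map φ)
    refine hb.symm.trans ⟨fun h => ⟨?_, ?_⟩, fun h => ?_⟩
    · exact IsZero.of_iso (isZero_kernel_of_mono (S.map φ)) (PreservesKernel.iso S φ)
    · exact IsZero.of_iso (isZero_cokernel_of_epi (S.map φ)) (PreservesCokernel.iso S φ)
    · haveI : Mono (S.map φ) := Preadditive.mono_of_isZero_kernel _ (h.1.of_iso (PreservesKernel.iso S φ).symm)
      haveI : Epi (S.map φ) := Preadditive.epi_of_isZero_cokernel _ (h.2.of_iso (PreservesCokernel.iso S φ).symm)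
      exact isIso_of_mono_of_epi _
  rw [e]
  exact (Coherent.isClosed_support _ (Coherent.locallyFinGen_of_isFT _ hk.2)).isOpen_compl.inter
    (Coherent.isClosed_support _ (Coherent.locallyFinGen_of_isFT _ hc.2)).isOpen_compl

end Groth.Agent.RefHullLib
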