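import Groth.Agent.RefHullLib.RankOne
import Groth.Agent.RefHullLib.IsoLocus
import Groth.Agent.SDiv28.IsoCriterion
import Groth.Agent.CAlgH3.Serre
import Groth.Prelude.Def_Pi1
import Mathlib

/-!
# The zero locus of a section of a rank one reflexive module has codimension one
-/

set_option autoImplicit false
set_option backward.isDefEq.respectTransparency.types false
universe u

open CategoryTheory CategoryTheory.Limits AlgebraicGeometry IsLocalRing
open Groth.Agent.Coherent Groth.Agent.PicLib

namespace Groth.Agent.RefHullLib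

variable {X : Scheme.{u}} {F : X.Modules}

/-- The stalk map of the morphism defined by a global section. -/
theorem stalkMapₗ_unitDesc (s : Γ(F, ⊤)) (x : X) (a : X.presheaf.stalk x) :
    RefHull.stalkMapₗ (unitDesc F s) x (SDiv28.unitStalkEquiv x a) = a • F.presheaf.germ ⊤ x trivial s := by
  show RefHull.stalkMapₗ (unitDesc F s) x (a • AssSch12.unitOne x) = _
  rw [map_smul, AssSch12.unitOne, RefHull.stalkMapₗ_germ]
  congr 1
  show F.presheaf.germ ⊤ x trivial (unitVal (unitDesc F s) ⊤) = _
  rw [unitVal_unitDesc]
  exact TopCat.Presheaf.germ_res_apply F.presheaf _ x _ s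

theorem bijective_smul_germ_iff (s : Γ(F, ⊤)) (x : X) :
    Function.Bijective (fun a : X.presheaf.stalk x => a • F.presheaf.germ ⊤ x trivial s) ↔
      Function.Bijective (RefHull.stalkMapₗ (unitDesc F s) x) := by
  rw [← Function.Bijective.of_comp_iff (RefHull.stalkMapₗ (unitDesc F s) x) (SDiv28.unitStalkEquiv x).bijective]
  exact Iff.of_eq (congrArg Function.Bijective (funext fun a => (stalkMapₗ_unitDesc s x a).symm))

variable [IsIntegral X] [IsLocallyNoetherian X]

/-- The maximal ideal is not associated to a torsion free module away from the generic point. -/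
theorem notMem_ass_of_isReflexiveAt (hrefl : ∀ x : X, RefHull.IsReflexiveAt F x) {x : X} (hx : x ≠ genericPoint X) :
    x ∉ AssSch.Ass F := fun h => hx (by
  haveI : Module.IsReflexive (X.presheaf.stalk x) (F.presheaf.stalk x) := hrefl x
  exact SDiv28.eq_genericPoint_of_mem_ass_of_noZeroSMulDivisors F
    ⟨fun {c m} hcm => smul_eq_zero.1 hcm⟩ h)

theorem eq_zero_of_germ_genericPoint_eq_zero (hF : Coh.IsQCoh F) (hrefl : ∀ x : X, RefHull.IsReflexiveAt F x)
    (s : Γ(F, ⊤)) (h : F.presheaf.germ ⊤ (genericPoint X) trivial s = 0) : s = 0 := by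
  haveI := hF
  refine SDiv28.eq_zero_of_germ_weakAss F s fun y hy hyw => ?_
  obtain rfl : y = genericPoint X := by
    by_contra hne
    exact notMem_ass_of_isReflexiveAt hrefl hne ((SDiv28.isWeakAssPoint_iff_isAssPoint F y).1 hyw)
  exact h

/-- A maximal point of the zero locus of a nonzero section has a one-dimensional local ring. -/
theorem ringKrullDim_eq_one_of_maximal (hX : Pi1.IsNormalScheme X) (hF : RefHull.IsRef1 F) (s : Γ(F, ⊤))
    (hs : s ≠ 0) (z : X)
    (hz : ¬ Function.Bijective fun a : X.presheaf.stalk z => a • F.presheaf.germ ⊤ z trivial s)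
    (hmax : ∀ y : X, ¬ Function.Bijective (fun a : X.presheaf.stalk y => a • F.presheaf.germ ⊤ y trivial s) →
      y ⤳ z → y = z) :
    ringKrullDim (X.presheaf.stalk z) = 1 := by
  obtain ⟨hcoh, hrefl0, hrk⟩ := hF
  have hrefl := (isReflexive_iff_stalks hcoh).1 hrefl0
  haveI : Coh.IsQCoh F := hcoh.1
  -- at the generic point the section generates
  have hη : Function.Bijective
      (fun a : X.presheaf.stalk (genericPoint X) => a • F.presheaf.germ ⊤ (genericPoint X) trivial s) := by
    obtain ⟨U, hηU, t, ht⟩ := exists_gen_genericPoint hrk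
    have hb := SDiv28.bijective_smul_germ_gen ht hηU
    obtain ⟨c, hc⟩ := hb.2 (F.presheaf.germ ⊤ (genericPoint X) trivial s)
    dsimp only at hc
    have hc0 : c ≠ 0 := fun e => hs (eq_zero_of_germ_genericPoint_eq_zero hcoh.1 hrefl s
      (by rw [← hc, e, zero_smul]))
    letI : Field (X.presheaf.stalk (genericPoint X)) := inferInstanceAs (Field X.functionField)
    have e : (fun a : X.presheaf.stalk (genericPoint X) => a • F.presheaf.germ ⊤ (genericPoint X) trivial s) =
        (fun a => a • F.presheaf.germ U (genericPoint X) hηU t) ∘ (fun a => a * c) :=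
      funext fun a => by simp only [Function.comp_apply, mul_smul, hc]
    rw [e]
    exact hb.comp (mulRight_bijective₀ c hc0)
  have hzη : z ≠ genericPoint X := fun e => hz (e ▸ hη)
  haveI := (hX z).1
  haveI := (hX z).2
  refine le_antisymm (not_lt.1 fun hlt => ?_) ?_
  · have h2 : 2 ≤ ringKrullDim (X.presheaf.stalk z) := Order.succ_le_of_lt hlt
    have hd := CAlgH3.two_le_depth_of_normal h2
    let φ := unitDesc F s
    haveI : Coh.IsQCoh (Coh.structureModule X) := QCohLoc.isQCoh_structureModule X
    have hsupp : ∀ y : X, y ∈ CohB1.support (cokernel φ) →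
        ¬ Function.Bijective (fun a : X.presheaf.stalk y => a • F.presheaf.germ ⊤ y trivial s) := by
      intro y hy hb
      refine hy (subsingleton_of_forall_eq 0 fun q => ?_)
      obtain ⟨v, rfl⟩ := (ModuleCat.epi_iff_surjective ((DerSch.stalkFunctor X y).map (cokernel.π φ))).1
        inferInstance q
      obtain ⟨a, rfl⟩ := ((bijective_smul_germ_iff s y).1 hb).2 v
      refine (Coherent.stalk_comp_apply φ (cokernel.π φ) a).trans ?_
      rw [cokernel.condition]
      exact Coherent.stalk_zero_apply _
    let St := DerSch.stalkFunctor X z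
    let S : ShortComplex X.Modules := ShortComplex.mk φ (cokernel.π φ) (cokernel.condition φ)
    have hexact := (ShortComplex.ShortExact.moduleCat_exact_iff_function_exact _).1
      ((show S.Exact from ShortComplex.exact_cokernel φ).map St)
    have hq : Function.Surjective (St.map (cokernel.π φ)) := (ModuleCat.epi_iff_surjective _).1 inferInstance
    have hinj : Function.Injective (RefHull.stalkMapₗ φ z) := by
      rw [← Function.Injective.of_comp_iff' _ (SDiv28.unitStalkEquiv z).bijective]
      refine (injective_iff_map_eq_zero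
        ((RefHull.stalkMapₗ φ z).comp (SDiv28.unitStalkEquiv z).toLinearMap)).2 fun a ha => ?_
      have ha' : a • F.presheaf.germ ⊤ z trivial s = 0 := (stalkMapₗ_unitDesc s z a).symm.trans ha
      haveI : Module.IsReflexive (X.presheaf.stalk z) (F.presheaf.stalk z) := hrefl z
      refine (smul_eq_zero.1 ha').resolve_right fun h0 => hs ?_
      refine eq_zero_of_germ_genericPoint_eq_zero hcoh.1 hrefl s ?_
      have h1 := congr(F.presheaf.stalkSpecializes (genericPoint_specializes z) $h0)
      rw [TopCat.Presheaf.germ_stalkSpecializes_apply, map_zero] at h1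
      exact h1
    have hzQ : z ∈ CohB1.support (cokernel φ) := by
      intro hsub
      refine hz ((bijective_smul_germ_iff s z).2 ⟨hinj, fun v => ?_⟩)
      obtain ⟨a, ha⟩ := (hexact v).1 (hsub.elim _ _)
      exact ⟨a, ha⟩
    have hass : z ∈ AssSch.Ass (cokernel φ) := by
      obtain ⟨a, ha, haz⟩ := AssSch12.exists_ass_generalization (cokernel φ) (Coherent.isQCoh_cokernel φ) hzQ
      obtain rfl := hmax a (hsupp a (AssSch12.mem_support_of_ass _ ha)) haz
      exact ha
    haveI : Module.Finite (X.presheaf.stalk z) (St.obj (Coh.structureModule X)) :=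
      AssSch12.finite_stalk (Coherent.isCoh_structureModule X) z
    refine SDiv28.maximalIdeal_notMem_associatedPrimes_of_exact ?_ (St.map φ).hom (St.map (cokernel.π φ)).hom
      hinj hexact hq (notMem_ass_of_isReflexiveAt hrefl hzη) hass
    rw [CAlgH3.depth_congr (SDiv28.unitStalkEquiv z)] at hd
    exact hd
  · refine not_lt.1 fun hlt => hzη ?_
    haveI : Ring.KrullDimLE 0 (X.presheaf.stalk z) :=
      Ring.krullDimLE_iff.2 (ENat.WithBot.lt_add_one_iff.1 (by simpa using hlt))
    have hfield : IsField (X.presheaf.stalk z) := Ring.KrullDimLE.isField_of_isDomain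
    refine (genericPoint_specializes z).antisymm ?_ |>.eq.symm
    obtain ⟨_, ⟨V, hV, rfl⟩, hzV, -⟩ :=
      X.isBasis_affineOpens.exists_subset_of_mem_open (Set.mem_univ z) isOpen_univ
    rw [AssSch12.specializes_iff hV hzV ((genericPoint_specializes z).mem_open V.2 hzV)]
    intro r hr
    have h1 := (AssSch12.germ_mem_maximalIdeal_iff hV hzV r).2 hr
    rw [IsLocalRing.isField_iff_maximalIdeal_eq.1 hfield, Submodule.mem_bot] at h1
    rw [germ_injective_of_isIntegral X z hzV (h1.trans (map_zero _).symm)]
    exact zero_mem _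

end Groth.Agent.RefHullLib
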