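import Groth.Agent.RefHullLib.Divisor
import Mathlib

/-!
# Points of codimension one outside a dense open, and supports of divisors
-/

set_option autoImplicit false
set_option backward.isDefEq.respectTransparency.types false
universe u

open CategoryTheory AlgebraicGeometry TopologicalSpace
open Groth.Agent.Coherent Groth.Agent.PicLib

namespace Groth.Agent.RefHullLib

variable {X : Scheme.{u}} [IsIntegral X] [IsLocallyNoetherian X]

omit [IsLocallyNoetherian X] in
theorem ne_genericPoint_of_coheight {x : X} (hx : Order.coheight x = 1) : x ≠ genericPoint X := by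
  rintro rfl
  have h : Order.coheight (genericPoint X) = 0 :=
    Order.coheight_eq_zero.2 fun y _ => Scheme.le_iff_specializes.2 (genericPoint_specializes y)
  rw [h] at hx
  exact zero_ne_one hx

omit [IsLocallyNoetherian X] in
theorem eq_of_specializes_coheight_one {y x : X} (hy : Order.coheight y = 1) (hx : Order.coheight x = 1)
    (h : y ⤳ x) : y = x := by
  by_cases hge : y ≤ x
  · exact (h.antisymm (Scheme.le_iff_specializes.1 hge)).eq
  · have := Order.coheight_add_one_le (lt_of_le_not_ge (Scheme.le_iff_specializes.2 h) hge)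
    rw [hx, hy] at this
    exact absurd this (by norm_num)

/-- Inside an affine open, only finitely many points of codimension one avoid a given nonempty open. -/
theorem finite_coheight_one_notMem {W V : X.Opens} (hW : genericPoint X ∈ W) (hV : IsAffineOpen V) :
    {x : X | x ∈ V ∧ Order.coheight x = 1 ∧ x ∉ W}.Finite := by
  haveI : IsNoetherianRing Γ(X, V) := IsLocallyNoetherian.component_noetherian ⟨V, hV⟩
  haveI : TopologicalSpace.NoetherianSpace (V : Set X) := noetherianSpace_of_isAffineOpen V hV
  let Z : Set (V : Set X) := Subtype.val ⁻¹' (W : Set X)ᶜ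
  obtain ⟨S, hSfin, hSc, hSi, hSZ⟩ :=
    TopologicalSpace.NoetherianSpace.exists_finite_set_isClosed_irreducible
      (W.isOpen.isClosed_compl.preimage continuous_subtype_val : IsClosed Z)
  refine Set.Finite.subset (hSfin.biUnion (t := fun s => {η : X | IsGenericPoint η (closure (Subtype.val '' s))})
    fun s _ => Set.Subsingleton.finite fun a ha b hb => ha.eq hb) ?_
  rintro x ⟨hxV, hx, hxW⟩
  obtain ⟨s, hs, hxs⟩ : (⟨x, hxV⟩ : (V : Set X)) ∈ ⋃₀ S := hSZ.subset hxW
  refine Set.mem_biUnion hs ?_
  have hsW : closure (Subtype.val '' s) ⊆ (W : Set X)ᶜ := by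
    refine closure_minimal ?_ W.isOpen.isClosed_compl
    rintro _ ⟨a, ha, rfl⟩
    exact hSZ.symm.subset ⟨s, hs, ha⟩
  obtain ⟨η, hη⟩ := QuasiSober.sober ((hSi s hs).image _ continuous_subtype_val.continuousOn).closure
    isClosed_closure
  have hηW : η ∉ W := hsW hη.mem
  have hle : η ⤳ x := hη.specializes (subset_closure ⟨⟨x, hxV⟩, hxs, rfl⟩)
  suffices η = x by subst this; exact hη
  by_contra hne
  have h1 : x < η := lt_of_le_not_ge (Scheme.le_iff_specializes.2 hle) fun h =>
    hne ((hle.antisymm (Scheme.le_iff_specializes.1 h)).eq)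
  have h2 : η < genericPoint X := lt_of_le_not_ge (Scheme.le_iff_specializes.2 (genericPoint_specializes η))
    fun h => hηW ((Scheme.le_iff_specializes.1 h).mem_open W.isOpen hW)
  have h3 := Order.coheight_add_one_le h1
  have h4 := Order.coheight_add_one_le h2
  rw [hx] at h3
  have h5 : (2 : ℕ∞) ≤ 1 := by
    calc (2 : ℕ∞) = 0 + 1 + 1 := by norm_num
      _ ≤ Order.coheight η + 1 := by gcongr; exact le_trans (by gcongr; exact bot_le) h4
      _ ≤ 1 := h3
  exact absurd h5 (by norm_num)

/-- An affine open meets the support of a cycle in finitely many points. -/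
theorem finite_support_inter (D : AlgebraicCycle X ℤ) {V : X.Opens} (hV : IsAffineOpen V) :
    {x : X | x ∈ V ∧ D x ≠ 0}.Finite := by
  exact (LocallyFiniteSupport.finite_inter_support_of_isCompact D.locallyFiniteSupport hV.isCompact).subset
    fun x hx => ⟨hx.1, hx.2⟩

/-- The divisor of a rational section is locally finite. -/
theorem exists_cycle_sOrd {F : X.Modules} (hF : RefHull.IsRef1 F) {s : F.presheaf.stalk (genericPoint X)}
    (hs : s ≠ 0) : ∃ D : AlgebraicCycle X ℤ, (∀ x : X, Order.coheight x ≠ 1 → D x = 0) ∧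
      ∀ x : X, Order.coheight x = 1 → D x = sOrd F x s := by
  classical
  obtain ⟨f, hf0, hf⟩ := exists_ne_zero_genericPoint hF.2.2
  have hsb : Function.Bijective fun a : X.presheaf.stalk (genericPoint X) => a • s := by
    obtain ⟨c, hc⟩ := hf.2 s
    dsimp only at hc
    have hc0 : c ≠ 0 := fun e => hs (by rw [← hc, e]; exact zero_smul _ _)
    have : (fun a : X.functionField => a • s) = (fun a : X.functionField => a • f) ∘ (fun a => a * c) :=
      funext fun a => by rw [Function.comp_apply, ← hc, mul_smul]
    show Function.Bijective fun a : X.functionField => a • s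
    rw [this]
    exact hf.comp (mulRight_bijective₀ c hc0)
  obtain ⟨W, hW, g, hg, hgs⟩ := exists_isGen_near hF.1 s hsb
  have hzero : ∀ x : X, Order.coheight x = 1 → x ∈ W → sOrd F x s = 0 := fun x hx hxW => by
    rw [sOrd_eq hF.1.1 hx (SDiv28.bijective_smul_germ_gen hg hxW) 1 s (by rw [one_smul, toGen_germ, hgs])]
    exact (Scheme.ord_eq_iff hx one_ne_zero).2 (map_one _)
  let D : X → ℤ := fun x => if Order.coheight x = 1 then sOrd F x s else 0
  refine ⟨⟨D, fun x _ => Set.mem_univ _, fun z _ => ?_⟩, fun x hx => if_neg hx, fun x hx => if_pos hx⟩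
  obtain ⟨_, ⟨V, hV, rfl⟩, hzV, -⟩ :=
    X.isBasis_affineOpens.exists_subset_of_mem_open (Set.mem_univ z) isOpen_univ
  refine ⟨V, V.isOpen.mem_nhds hzV, (finite_coheight_one_notMem hW hV).subset ?_⟩
  rintro x ⟨hxV, hx⟩
  by_cases hx1 : Order.coheight x = 1
  · exact ⟨hxV, hx1, fun hxW => hx (by simp only [D, if_pos hx1, hzero x hx1 hxW])⟩
  · exact absurd (if_neg hx1) hx

end Groth.Agent.RefHullLib
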