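import Groth.Prelude.Def_RefHull
import Groth.Agent.EGA43.QcohFP
import Groth.Agent.Coherent.FiniteType
import Mathlib

/-!
# Stalks of the sheaf Hom `RefHull.homSh`

* `homSh_hom_ext` : a section of the sheaf Hom is determined by its values on generating sections.
* `evalStalk_injective` (finite type) and `evalStalk_bijective` (finite presentation).
* `exists_homSec` : sections of the sheaf Hom from images of generators satisfying the relations.
* `evalSec` : evaluation of a section of the sheaf Hom at a section.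
-/

set_option autoImplicit false
set_option backward.isDefEq.respectTransparency.types false
universe u

open CategoryTheory AlgebraicGeometry Opposite TopologicalSpace
open Groth.Agent.Coherent

namespace Groth.Agent.RefHullLib

variable {X : Scheme.{u}} {F G : X.Modules}

/-- Germs of generating sections generate the stalk. -/
theorem exists_eq_sum_germ {U : X.Opens} {I : Type u} [Fintype I] {s : I → Γ(F, U)} (hs : GenOn F U s)
    {x : X} (hx : x ∈ U) (v : F.presheaf.stalk x) :
    ∃ c : I → X.presheaf.stalk x, v = ∑ i, c i • F.presheaf.germ U x hx (s i) := by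
  obtain ⟨W, hxW, a, rfl⟩ := F.presheaf.exists_germ_eq v
  obtain ⟨W', h, hxW', c, hc⟩ := hs (W ⊓ U) inf_le_right (resM F inf_le_left a) x ⟨hxW, hx⟩
  refine ⟨fun i => X.presheaf.germ W' x hxW' (c i), ?_⟩
  have h1 := congr(F.presheaf.germ W' x hxW' $hc)
  rw [TopCat.Presheaf.germ_res_apply, TopCat.Presheaf.germ_res_apply, map_sum] at h1
  refine h1.trans (Finset.sum_congr rfl fun i _ => ?_)
  rw [QCohLoc.germ_smul', TopCat.Presheaf.germ_res_apply]

theorem mem_finset_inf_of_forall {ι : Type*} [Fintype ι] {W : ι → X.Opens} {x : X}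
    (h : ∀ i, x ∈ W i) : x ∈ Finset.univ.inf W := by
  rw [← SetLike.mem_coe, Opens.coe_finset_inf, Finset.inf_set_eq_iInter]
  exact Set.mem_iInter₂.2 fun i _ => h i

theorem stalkHom_ext {U : X.Opens} {I : Type u} [Fintype I] {s : I → Γ(F, U)} (hs : GenOn F U s)
    {x : X} (hx : x ∈ U) {φ ψ : RefHull.StalkHom F G x}
    (h : ∀ i, φ (F.presheaf.germ U x hx (s i)) = ψ (F.presheaf.germ U x hx (s i))) : φ = ψ := by
  refine LinearMap.ext fun v => ?_
  obtain ⟨c, rfl⟩ := exists_eq_sum_germ hs hx v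
  simp only [map_sum, map_smul, h]

/-- A section of the sheaf Hom is determined by its values on generating sections. -/
theorem homSh_hom_ext {U V : X.Opens} (hVU : V ≤ U) {I : Type u} [Fintype I] {s : I → Γ(F, U)}
    (hs : GenOn F U s) {g g' : Γ(RefHull.homSh F G, V)}
    (h : ∀ (i) (y : V), g.1 y (F.presheaf.germ U y.1 (hVU y.2) (s i)) =
      g'.1 y (F.presheaf.germ U y.1 (hVU y.2) (s i))) : g = g' :=
  Subtype.ext (funext fun y => stalkHom_ext hs (hVU y.2) fun i => h i y)

theorem homSh_smul_apply {U : X.Opens} (r : Γ(X, U)) (g : Γ(RefHull.homSh F G, U)) (y : U)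
    (v : F.presheaf.stalk y.1) :
    (r • g).1 y v = X.presheaf.germ U y.1 y.2 r • g.1 y v := rfl

theorem homSh_res_apply {U V : X.Opens} (h : V ≤ U) (g : Γ(RefHull.homSh F G, U)) (y : V) :
    (resM (RefHull.homSh F G) h g).1 y = g.1 ⟨y.1, h y.2⟩ := rfl

/-- The values of a section of the sheaf Hom on finitely many sections are locally sections. -/
theorem exists_local_values {U : X.Opens} {I : Type u} [Finite I] (g : Γ(RefHull.homSh F G, U))
    (s : I → Γ(F, U)) (x : X) (hx : x ∈ U) :
    ∃ (W : X.Opens) (hWU : W ≤ U), x ∈ W ∧ ∃ n : I → Γ(G, W), ∀ (i) (y : X) (hy : y ∈ W),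
      g.1 ⟨y, hWU hy⟩ (F.presheaf.germ U y (hWU hy) (s i)) = G.presheaf.germ W y hy (n i) := by
  classical
  haveI := Fintype.ofFinite I
  choose W hxW j n hn using fun i => RefHull.isLocSect_of_mem g U (𝟙 U) (s i) ⟨x, hx⟩
  let W0 : X.Opens := U ⊓ Finset.univ.inf W
  have hle : ∀ i, W0 ≤ W i := fun i => inf_le_right.trans (Finset.inf_le (Finset.mem_univ i))
  refine ⟨W0, inf_le_left, ⟨hx, ?_⟩, fun i => resM G (hle i) (n i), fun i y hy => ?_⟩
  · exact mem_finset_inf_of_forall fun i => hxW i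
  · rw [TopCat.Presheaf.germ_res_apply]
    exact hn i ⟨y, hle i hy⟩

/-- Evaluation on stalks is injective for modules locally of finite type. -/
theorem evalStalk_injective (hF : LocallyFinGen F) (x : X) :
    Function.Injective (RefHull.evalStalk F G x) := by
  refine (injective_iff_map_eq_zero _).2 fun θ hθ => ?_
  obtain ⟨U0, hx0, g0, rfl⟩ := (RefHull.homSh F G).presheaf.exists_germ_eq θ
  rw [RefHull.evalStalk_germ] at hθ
  obtain ⟨U1, I, _, s1, hx1, hs1⟩ := hF x
  let U : X.Opens := U0 ⊓ U1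
  let s : I → Γ(F, U) := fun i => resM F inf_le_right (s1 i)
  have hs : GenOn F U s := hs1.res inf_le_right
  let g : Γ(RefHull.homSh F G, U) := resM (RefHull.homSh F G) inf_le_left g0
  obtain ⟨W, hWU, hxW, n, hn⟩ := exists_local_values g s x ⟨hx0, hx1⟩
  have h0 : ∀ i, ∃ (W' : X.Opens) (h : W' ≤ W), x ∈ W' ∧ resM G h (n i) = 0 := fun i => by
    have : G.presheaf.germ W x hxW (n i) = 0 := by
      rw [← hn i x hxW]
      show g0.1 ⟨x, hx0⟩ _ = 0
      rw [hθ]; rfl
    obtain ⟨W', hxW', j, j', e⟩ := TopCat.Presheaf.germ_eq G.presheaf (U := W) (V := W) x hxW hxW (n i) 0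
      (this.trans (map_zero _).symm)
    exact ⟨W', j.le, hxW', e.trans (map_zero _)⟩
  classical
  choose W' hW' hxW' hW0 using h0
  let W0 : X.Opens := W ⊓ Finset.univ.inf W'
  have hle : ∀ i, W0 ≤ W' i := fun i => inf_le_right.trans (Finset.inf_le (Finset.mem_univ i))
  have hxW0 : x ∈ W0 := by
    refine ⟨hxW, ?_⟩
    exact mem_finset_inf_of_forall fun i => hxW' i
  have hz : resM (RefHull.homSh F G) (inf_le_left.trans hWU : W0 ≤ U) g = 0 := by
    refine homSh_hom_ext (inf_le_left.trans hWU : W0 ≤ U) hs fun i y => ?_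
    rw [homSh_res_apply]
    refine (hn i y.1 (inf_le_left (b := Finset.univ.inf W') y.2)).trans ?_
    have h1 := congr(G.presheaf.germ (W' i) y.1 (hle i y.2) $(hW0 i))
    rw [TopCat.Presheaf.germ_res_apply, map_zero] at h1
    exact h1.trans (LinearMap.zero_apply _).symm
  have := congr((RefHull.homSh F G).presheaf.germ W0 x hxW0 $hz)
  rw [map_zero, TopCat.Presheaf.germ_res_apply] at this
  rw [← this]
  exact (TopCat.Presheaf.germ_res_apply (RefHull.homSh F G).presheaf _ x _ g0).symm

section Affine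

variable [F.IsQuasicoherent] {U : X.Opens} (hU : IsAffineOpen U)
  {n : ℕ} {s : ULift.{u} (Fin n) → Γ(F, U)} (hspan : Submodule.span Γ(X, U) (Set.range s) = ⊤)

include hU hspan

theorem genOn_of_span : GenOn F U s := genOn_of_span_top F hU s hspan

/-- A stalk map from images of generators satisfying the relations. -/
theorem exists_stalkHom {x : X} (hx : x ∈ U) (v : ULift.{u} (Fin n) → G.presheaf.stalk x)
    (hv : ∀ r : ULift.{u} (Fin n) → Γ(X, U), ∑ i, r i • s i = 0 →
      ∑ i, X.presheaf.germ U x hx (r i) • v i = 0) :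
    ∃ φ : RefHull.StalkHom F G x, ∀ i, φ (F.presheaf.germ U x hx (s i)) = v i := by
  classical
  letI := (X.presheaf.germ U x hx).hom.toAlgebra
  letI : Module Γ(X, U) (F.presheaf.stalk x) := Module.compHom _ (X.presheaf.germ U x hx).hom
  letI : Module Γ(X, U) (G.presheaf.stalk x) := Module.compHom _ (X.presheaf.germ U x hx).hom
  haveI : IsScalarTower Γ(X, U) (X.presheaf.stalk x) (F.presheaf.stalk x) :=
    IsScalarTower.of_algebraMap_smul fun _ _ => rfl
  haveI : IsScalarTower Γ(X, U) (X.presheaf.stalk x) (G.presheaf.stalk x) :=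
    IsScalarTower.of_algebraMap_smul fun _ _ => rfl
  haveI hloc := hU.isLocalization_stalk ⟨x, hx⟩
  let γ : Γ(F, U) →ₗ[Γ(X, U)] F.presheaf.stalk x :=
    { toFun := F.presheaf.germ U x hx
      map_add' := fun a b => map_add _ a b
      map_smul' := fun r m => QCohLoc.germ_smul' F hx r m }
  haveI : IsLocalizedModule (hU.primeIdealOf ⟨x, hx⟩).asIdeal.primeCompl γ :=
    EGA43.QcohFP.isLocalizedModule_germ F hU hx γ fun _ => rfl
  let P : (ULift.{u} (Fin n) → Γ(X, U)) →ₗ[Γ(X, U)] Γ(F, U) := Fintype.linearCombination Γ(X, U) s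
  have hP : Function.Surjective P := by
    rw [← LinearMap.range_eq_top, Fintype.range_linearCombination]
    exact hspan
  let Q : (ULift.{u} (Fin n) → Γ(X, U)) →ₗ[Γ(X, U)] G.presheaf.stalk x := Fintype.linearCombination Γ(X, U) v
  have hPQ : LinearMap.ker P ≤ LinearMap.ker Q := fun r hr => by
    rw [LinearMap.mem_ker, Fintype.linearCombination_apply] at hr ⊢
    exact hv r hr
  let lam : Γ(F, U) →ₗ[Γ(X, U)] G.presheaf.stalk x :=
    ((LinearMap.ker P).liftQ Q hPQ).comp (P.quotKerEquivOfSurjective hP).symm.toLinearMap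
  have hlam : ∀ r, lam (P r) = Q r := fun r => by
    show (LinearMap.ker P).liftQ Q hPQ ((P.quotKerEquivOfSurjective hP).symm (P r)) = Q r
    have : (P.quotKerEquivOfSurjective hP).symm (P r) = Submodule.Quotient.mk r := by
      rw [LinearEquiv.symm_apply_eq]; rfl
    rw [this]; rfl
  have hunits : ∀ a : (hU.primeIdealOf ⟨x, hx⟩).asIdeal.primeCompl,
      IsUnit (algebraMap Γ(X, U) (Module.End Γ(X, U) (G.presheaf.stalk x)) a) := fun a =>
    EGA43.QcohFP.map_units_of_tower (R' := X.presheaf.stalk x) _ a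
  let ψ : F.presheaf.stalk x →ₗ[Γ(X, U)] G.presheaf.stalk x :=
    IsLocalizedModule.lift (hU.primeIdealOf ⟨x, hx⟩).asIdeal.primeCompl γ lam hunits
  refine ⟨ψ.extendScalarsOfIsLocalization (hU.primeIdealOf ⟨x, hx⟩).asIdeal.primeCompl (X.presheaf.stalk x),
    fun i => ?_⟩
  show ψ (γ (s i)) = v i
  rw [IsLocalizedModule.lift_apply]
  have h1 : P (Pi.single i 1) = s i := by
    simp [P, Fintype.linearCombination_apply, Pi.single_apply]
  rw [← h1, hlam]
  simp [Q, Fintype.linearCombination_apply, Pi.single_apply]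

/-- A section of the sheaf Hom from images of generators satisfying the relations. -/
theorem exists_homSec {W : X.Opens} (hWU : W ≤ U) (m : ULift.{u} (Fin n) → Γ(G, W))
    (hm : ∀ r : ULift.{u} (Fin n) → Γ(X, U), ∑ i, r i • s i = 0 →
      ∀ (y : X) (hy : y ∈ W), ∑ i, X.presheaf.germ U y (hWU hy) (r i) • G.presheaf.germ W y hy (m i) = 0) :
    ∃ g : Γ(RefHull.homSh F G, W), ∀ (i) (y : W),
      g.1 y (F.presheaf.germ U y.1 (hWU y.2) (s i)) = G.presheaf.germ W y.1 y.2 (m i) := by
  choose φ hφ using fun y : W => exists_stalkHom hU hspan (hWU y.2)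
    (fun i => G.presheaf.germ W y.1 y.2 (m i)) fun r hr => hm r hr y.1 y.2
  refine ⟨⟨φ, fun V j a y => ?_⟩, fun i y => hφ y i⟩
  obtain ⟨W', h, hyW', c, hc⟩ := genOn_of_span hU hspan V (j.le.trans hWU) a y.1 y.2
  refine ⟨W', hyW', homOfLE h, ∑ i, c i • resM G (h.trans j.le) (m i), fun z => ?_⟩
  have h1 := congr(F.presheaf.germ W' z.1 z.2 $hc)
  rw [TopCat.Presheaf.germ_res_apply, map_sum] at h1
  refine (congrArg (φ ⟨z.1, j.le (h z.2)⟩) h1).trans ?_
  rw [map_sum, map_sum]
  refine Finset.sum_congr rfl fun i _ => ?_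
  rw [QCohLoc.germ_smul', QCohLoc.germ_smul', map_smul, TopCat.Presheaf.germ_res_apply,
    TopCat.Presheaf.germ_res_apply, hφ ⟨z.1, j.le (h z.2)⟩ i]

end Affine

/-- Evaluation on stalks is bijective for modules of finite presentation. -/
theorem evalStalk_bijective (hF : CohB1.IsFP F) (x : X) :
    Function.Bijective (RefHull.evalStalk F G x) := by
  haveI : F.IsQuasicoherent := by
    haveI : SheafOfModules.IsFinitePresentation (R := X.ringCatSheaf) F := hF
    infer_instance
  haveI : SheafOfModules.IsFinitePresentation (R := X.ringCatSheaf) F := hF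
  refine ⟨evalStalk_injective (locallyFinGen_of_isFT F inferInstance) x, fun θ => ?_⟩
  classical
  obtain ⟨_, ⟨U, hU, rfl⟩, hxU, -⟩ :=
    X.isBasis_affineOpens.exists_subset_of_mem_open (Set.mem_univ x) isOpen_univ
  haveI : Module.FinitePresentation Γ(X, U) Γ(F, U) := EGA43.QcohFP.finitePresentation_sections F hF hU
  obtain ⟨n, P, hP⟩ := Module.Finite.exists_fin' Γ(X, U) Γ(F, U)
  let s : ULift.{u} (Fin n) → Γ(F, U) := fun i => P (Pi.single i.down 1)
  have hspan : Submodule.span Γ(X, U) (Set.range s) = ⊤ := by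
    rw [eq_top_iff]
    rintro a -
    obtain ⟨r, rfl⟩ := hP a
    rw [pi_eq_sum_univ' r, map_sum]
    refine sum_mem fun i _ => ?_
    rw [map_smul]
    exact Submodule.smul_mem _ _ (Submodule.subset_span ⟨⟨i⟩, rfl⟩)
  let L : (ULift.{u} (Fin n) → Γ(X, U)) →ₗ[Γ(X, U)] Γ(F, U) := Fintype.linearCombination Γ(X, U) s
  have hL : Function.Surjective L := by
    rw [← LinearMap.range_eq_top, Fintype.range_linearCombination]
    exact hspan
  obtain ⟨R, hR⟩ := Module.FinitePresentation.fg_ker L hL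
  -- lifts of the images of the generators
  choose Wl hxl ml hml using fun i => G.presheaf.exists_germ_eq (θ (F.presheaf.germ U x hxU (s i)))
  let W1 : X.Opens := U ⊓ Finset.univ.inf Wl
  have hle1 : ∀ i, W1 ≤ Wl i := fun i => inf_le_right.trans (Finset.inf_le (Finset.mem_univ i))
  have hx1 : x ∈ W1 := by
    refine ⟨hxU, ?_⟩
    exact mem_finset_inf_of_forall fun i => hxl i
  let m1 : ULift.{u} (Fin n) → Γ(G, W1) := fun i => resM G (hle1 i) (ml i)
  have hm1 : ∀ i, G.presheaf.germ W1 x hx1 (m1 i) = θ (F.presheaf.germ U x hxU (s i)) := fun i => by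
    rw [TopCat.Presheaf.germ_res_apply]; exact hml i
  -- the relations hold near `x`
  let rel : (ULift.{u} (Fin n) → Γ(X, U)) → Γ(G, W1) := fun r =>
    ∑ i, X.presheaf.map (homOfLE (inf_le_left : W1 ≤ U)).op (r i) • m1 i
  have hrel : ∀ r : R, ∃ (W' : X.Opens) (h : W' ≤ W1), x ∈ W' ∧ resM G h (rel r.1) = 0 := fun r => by
    have hr : L r.1 = 0 := LinearMap.mem_ker.1 (hR ▸ Submodule.subset_span r.2)
    have : G.presheaf.germ W1 x hx1 (rel r.1) = 0 := by
      have h1 := congr(θ (F.presheaf.germ U x hxU $hr))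
      rw [Fintype.linearCombination_apply, map_sum, map_sum, map_zero, map_zero] at h1
      rw [map_sum, ← h1]
      refine Finset.sum_congr rfl fun i _ => ?_
      rw [QCohLoc.germ_smul', QCohLoc.germ_smul', map_smul, TopCat.Presheaf.germ_res_apply, hm1]
    obtain ⟨W', hxW', j, j', e⟩ := TopCat.Presheaf.germ_eq G.presheaf (U := W1) (V := W1) x hx1 hx1 _ 0
      (this.trans (map_zero _).symm)
    exact ⟨W', j.le, hxW', e.trans (map_zero _)⟩
  choose W' hW' hxW' hW0 using hrel
  let W : X.Opens := W1 ⊓ Finset.univ.inf W'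
  have hxW : x ∈ W := by
    refine ⟨hx1, ?_⟩
    exact mem_finset_inf_of_forall fun i => hxW' i
  let m : ULift.{u} (Fin n) → Γ(G, W) := fun i => resM G inf_le_left (m1 i)
  have hm : ∀ r : ULift.{u} (Fin n) → Γ(X, U), ∑ i, r i • s i = 0 →
      ∀ (y : X) (hy : y ∈ W), ∑ i, X.presheaf.germ U y hy.1.1 (r i) • G.presheaf.germ W y hy (m i) = 0 := by
    intro r hr y hy
    have hr' : r ∈ Submodule.span Γ(X, U) (R : Set (ULift.{u} (Fin n) → Γ(X, U))) := by
      rw [hR, LinearMap.mem_ker, Fintype.linearCombination_apply]; exact hr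
    clear hr
    induction hr' using Submodule.span_induction with
    | mem a ha =>
      have hle : W ≤ W' ⟨a, ha⟩ := inf_le_right.trans (Finset.inf_le (Finset.mem_univ _))
      have h1 := congr(G.presheaf.germ (W' ⟨a, ha⟩) y (hle hy) $(hW0 ⟨a, ha⟩))
      rw [TopCat.Presheaf.germ_res_apply, map_zero, map_sum] at h1
      refine Eq.trans (Finset.sum_congr rfl fun i _ => ?_) h1
      rw [QCohLoc.germ_smul']
      simp only [m, m1, TopCat.Presheaf.germ_res_apply]
    | zero => simp
    | add a b _ _ ha hb => simp only [Pi.add_apply, map_add, add_smul, Finset.sum_add_distrib, ha, hb, add_zero]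
    | smul c a _ ha => simp only [Pi.smul_apply, smul_eq_mul, map_mul, mul_smul, ← Finset.smul_sum, ha, smul_zero]
  obtain ⟨g, hg⟩ := exists_homSec hU hspan (inf_le_left.trans inf_le_left : W ≤ U) m hm
  refine ⟨(RefHull.homSh F G).presheaf.germ W x hxW g, ?_⟩
  rw [RefHull.evalStalk_germ]
  refine stalkHom_ext (genOn_of_span hU hspan) hxU fun i => ?_
  rw [hg i ⟨x, hxW⟩, TopCat.Presheaf.germ_res_apply, hm1]

theorem locallyFinGen_of_isFP (hF : CohB1.IsFP F) : LocallyFinGen F := by
  haveI : SheafOfModules.IsFinitePresentation (R := X.ringCatSheaf) F := hF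
  exact locallyFinGen_of_isFT F inferInstance

/-- The sheaf Hom into a module with torsion free stalks has torsion free stalks. -/
theorem isTorsionFree_homSh (hF : LocallyFinGen F)
    (hG : ∀ x : X, Module.IsTorsionFree (X.presheaf.stalk x) (G.presheaf.stalk x)) (x : X) :
    Module.IsTorsionFree (X.presheaf.stalk x) ((RefHull.homSh F G).presheaf.stalk x) := by
  haveI := hG x
  exact Function.Injective.moduleIsTorsionFree _ (evalStalk_injective (G := G) hF x)
    (fun r a => map_smul (RefHull.evalStalk F G x) r a)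

/-- A section of the sheaf Hom evaluated at a section. -/
theorem exists_evalSec {U : X.Opens} (g : Γ(RefHull.homSh F G, U)) (a : Γ(F, U)) :
    ∃ b : Γ(G, U), ∀ y : U, G.presheaf.germ U y.1 y.2 b = g.1 y (F.presheaf.germ U y.1 y.2 a) := by
  choose W hW hxW n hn using fun x : U => exists_local_values (I := PUnit.{u + 1}) g (fun _ => a) x.1 x.2
  obtain ⟨b, hb, -⟩ := TopCat.Sheaf.existsUnique_gluing' (⟨G.presheaf, G.isSheaf⟩ : TopCat.Sheaf Ab X) W U
    (fun x => homOfLE (hW x)) (fun y hy => Opens.mem_iSup.2 ⟨⟨y, hy⟩, hxW _⟩) (fun x => n x PUnit.unit) (by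
      intro i j
      apply TopCat.Presheaf.section_ext (⟨G.presheaf, G.isSheaf⟩ : TopCat.Sheaf Ab X)
      intro z hz
      show G.presheaf.germ _ z hz _ = G.presheaf.germ _ z hz _
      rw [TopCat.Presheaf.germ_res_apply, TopCat.Presheaf.germ_res_apply, ← hn i _ z hz.1, ← hn j _ z hz.2])
  refine ⟨b, fun y => ?_⟩
  have h1 := congr(G.presheaf.germ (W y) y.1 (hxW y) $(hb y))
  rw [show G.presheaf.germ (W y) y.1 (hxW y) ((⟨G.presheaf, G.isSheaf⟩ : TopCat.Sheaf Ab X).1.map
      (homOfLE (hW y)).op b) = G.presheaf.germ U y.1 y.2 b from TopCat.Presheaf.germ_res_apply _ _ _ _ _] at h1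
  rw [h1, ← hn y _ y.1 (hxW y)]

end Groth.Agent.RefHullLib
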