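import Groth.Agent.RefHullLib.Coh
import Groth.Agent.EGA43.QcohFP
import Groth.Agent.ConsPropLib.LocusMod
import Mathlib

/-!
# The sheaf Hom out of a finitely presented module is quasi-coherent
-/

set_option autoImplicit false
set_option backward.isDefEq.respectTransparency.types false
universe u

open CategoryTheory AlgebraicGeometry Opposite TopologicalSpace
open Groth.Agent.Coherent

namespace Groth.Agent.RefHullLib

variable {X : Scheme.{u}} {F G : X.Modules}

theorem localizesOn_homSh_of_isFP (hF : CohB1.IsFP F) [Coh.IsQCoh G] {U : X.Opens} (hU : IsAffineOpen U) :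
    LocalizesOn (RefHull.homSh F G) U := by
  haveI hFq : Coh.IsQCoh F := ConsPropLib.isQCoh_of_isFP hF
  haveI : F.IsQuasicoherent := hFq
  haveI := EGA43.QcohFP.finitePresentation_sections F hF hU
  obtain ⟨n, s, hspan⟩ := exists_span_ulift (F := F) (U := U)
  have hgen := genOn_of_span hU hspan
  constructor
  · intro f g
    choose b hb using fun i => exists_evalSec g (resM F (X.basicOpen_le f) (s i))
    choose k t ht using fun i => qcoh_exists_pow_smul hU G f (b i)
    classical
    let K := Finset.univ.sup k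
    let t1 : ULift.{u} (Fin n) → Γ(G, U) := fun i => f ^ (K - k i) • t i
    have ht1 : ∀ (i) (y : X) (hy : y ∈ X.basicOpen f),
        G.presheaf.germ U y (X.basicOpen_le f hy) (t1 i) =
          X.presheaf.germ U y (X.basicOpen_le f hy) (f ^ K) •
            g.1 ⟨y, hy⟩ (F.presheaf.germ U y (X.basicOpen_le f hy) (s i)) := by
      intro i y hy
      have h1 := congr(G.presheaf.germ (X.basicOpen f) y hy $(ht i))
      rw [TopCat.Presheaf.germ_res_apply, QCohLoc.germ_smul', TopCat.Presheaf.germ_res_apply, hb i ⟨y, hy⟩,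
        TopCat.Presheaf.germ_res_apply] at h1
      rw [QCohLoc.germ_smul', h1, smul_smul, ← map_mul, ← pow_add, Nat.sub_add_cancel (Finset.le_sup (Finset.mem_univ i))]
    let L : (ULift.{u} (Fin n) → Γ(X, U)) →ₗ[Γ(X, U)] Γ(F, U) := Fintype.linearCombination Γ(X, U) s
    obtain ⟨R, hR⟩ : (LinearMap.ker L).FG := Module.FinitePresentation.fg_ker L (by
      rw [← LinearMap.range_eq_top, Fintype.range_linearCombination, hspan])
    let rel : (ULift.{u} (Fin n) → Γ(X, U)) →ₗ[Γ(X, U)] Γ(G, U) := Fintype.linearCombination Γ(X, U) t1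
    have hrel : ∀ r : R, ∃ l : ℕ, f ^ l • rel r.1 = 0 := fun r => by
      refine qcoh_exists_pow_smul_eq_zero hU G f _ (section_eq_zero_of_germ _ fun y hy => ?_)
      have hr : L r.1 = 0 := LinearMap.mem_ker.1 (hR ▸ Submodule.subset_span r.2)
      have h1 := congr(X.presheaf.germ U y (X.basicOpen_le f hy) (f ^ K) •
        g.1 ⟨y, hy⟩ (F.presheaf.germ U y (X.basicOpen_le f hy) $hr))
      rw [Fintype.linearCombination_apply, map_sum, map_sum, map_zero, map_zero, smul_zero, Finset.smul_sum] at h1
      rw [TopCat.Presheaf.germ_res_apply, Fintype.linearCombination_apply, map_sum, ← h1]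
      refine Finset.sum_congr rfl fun i _ => ?_
      rw [QCohLoc.germ_smul' G _ (r.1 i) (t1 i), ht1 i y hy, QCohLoc.germ_smul' F _ (r.1 i) (s i),
        LinearMap.map_smul, smul_comm]
    choose l hl using hrel
    let N := Finset.univ.sup l
    have hm : ∀ r : ULift.{u} (Fin n) → Γ(X, U), ∑ i, r i • s i = 0 →
        ∀ (y : X) (hy : y ∈ U), ∑ i, X.presheaf.germ U y ((le_refl U) hy) (r i) •
          G.presheaf.germ U y hy (f ^ N • t1 i) = 0 := by
      intro r hr y hy
      have hr' : r ∈ Submodule.span Γ(X, U) (R : Set (ULift.{u} (Fin n) → Γ(X, U))) := by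
        rw [hR, LinearMap.mem_ker, Fintype.linearCombination_apply]; exact hr
      have h0 : f ^ N • rel r = 0 := by
        clear hr
        induction hr' using Submodule.span_induction with
        | mem a ha =>
          obtain ⟨d, hd⟩ := Nat.le.dest (Finset.le_sup (f := l) (Finset.mem_univ (⟨a, ha⟩ : R)))
          show f ^ Finset.univ.sup l • rel a = 0
          rw [← hd, pow_add, mul_comm, mul_smul, hl ⟨a, ha⟩, smul_zero]
        | zero => rw [map_zero, smul_zero]
        | add a b _ _ ha hb => rw [map_add, smul_add, ha, hb, add_zero]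
        | smul c a _ ha => rw [map_smul, smul_comm, ha, smul_zero]
      have h1 := congr(G.presheaf.germ U y hy $h0)
      rw [Fintype.linearCombination_apply, Finset.smul_sum, map_sum, map_zero] at h1
      refine Eq.trans (Finset.sum_congr rfl fun i _ => ?_) h1
      rw [← QCohLoc.germ_smul', smul_comm]
    obtain ⟨h, hh⟩ := exists_homSec hU hspan le_rfl (fun i => f ^ N • t1 i) hm
    refine ⟨N + K, h, homSh_hom_ext (X.basicOpen_le f) hgen fun i y => ?_⟩
    rw [homSh_res_apply, homSh_smul_apply, TopCat.Presheaf.germ_res_apply, hh i ⟨y.1, X.basicOpen_le f y.2⟩,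
      QCohLoc.germ_smul', ht1 i y.1 y.2, smul_smul, ← map_mul, ← pow_add]
  · intro f g hg
    choose b hb using fun i => exists_evalSec g (s i)
    have h0 : ∀ i, ∃ k : ℕ, f ^ k • b i = 0 := fun i => by
      refine qcoh_exists_pow_smul_eq_zero hU G f _ (section_eq_zero_of_germ _ fun y hy => ?_)
      rw [TopCat.Presheaf.germ_res_apply, hb i ⟨y, X.basicOpen_le f hy⟩,
        ← homSh_res_apply (X.basicOpen_le f) g ⟨y, hy⟩, hg]
      exact LinearMap.zero_apply _
    choose k hk using h0
    classical
    refine ⟨Finset.univ.sup k, homSh_hom_ext le_rfl hgen fun i y => ?_⟩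
    obtain ⟨d, hd⟩ := Nat.le.dest (Finset.le_sup (f := k) (Finset.mem_univ i))
    rw [homSh_smul_apply, ← hb i y, ← QCohLoc.germ_smul', ← hd, pow_add, mul_comm, mul_smul, hk i,
      smul_zero, map_zero]
    exact (LinearMap.zero_apply _).symm

theorem isQCoh_homSh_of_isFP (hF : CohB1.IsFP F) (hG : Coh.IsQCoh G) : Coh.IsQCoh (RefHull.homSh F G) :=
  haveI := hG
  (isQCoh_iff_localizesOn _).2 fun _ hU => localizesOn_homSh_of_isFP hF hU

end Groth.Agent.RefHullLib
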