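import Groth.Agent.SDiv28.DualExtend
import Groth.Agent.SDiv28.WeakDense
import Groth.Agent.RefHullLib.Extend
import Groth.Agent.RefHullLib.LowDim
import Groth.Agent.RefHullLib.FreeLocus
import Groth.Agent.RefHullLib.Hartogs
import Groth.Agent.SGA3Power26.FlatHartogs
import Groth.Agent.HilbertBurch5.Basic
import Groth.Agent.TFPush7.StalkSub
import Groth.Agent.Coherent.RpushSupport
import Groth.Prelude.Def_FlatMod2

/-!
# Double duals on normal Noetherian schemes
-/

set_option autoImplicit false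
set_option backward.isDefEq.respectTransparency false
set_option linter.style.haveILetI false
set_option maxHeartbeats 800000
universe u

open CategoryTheory CategoryTheory.Limits AlgebraicGeometry TopologicalSpace Opposite
open Groth.Agent.FlatMor12.RegularExtend (res res_res)
open Groth.Agent.Coherent

namespace Groth.Agent.RefHullLib.NormalHartogs26

variable {X : Scheme.{u}}

/-- A regular pair in a local ring of a locally Noetherian scheme spreads to a neighbourhood. -/
theorem hasRegPair_of_two_le_depth [IsLocallyNoetherian X] (x : X)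
    (h : (2 : ℕ∞) ≤ _root_.LocCoh.depth (X.presheaf.stalk x) (X.presheaf.stalk x)) :
    SDiv28.RegPairExtend.HasRegPair x := by
  obtain ⟨rs, hlen, hmem, hreg⟩ := HilbertBurch5.exists_regular_pair
    (IsLocalRing.maximalIdeal.isMaximal _).ne_top h
  obtain ⟨r₁, r₂, rfl⟩ := List.length_eq_two.1 hlen
  obtain ⟨_, ⟨U, hU, rfl⟩, hxU, -⟩ :=
    X.isBasis_affineOpens.exists_subset_of_mem_open (Set.mem_univ x) isOpen_univ
  haveI : IsNoetherianRing Γ(X, U) := IsLocallyNoetherian.component_noetherian ⟨U, hU⟩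
  letI := X.presheaf.algebra_section_stalk (⟨x, hxU⟩ : U)
  haveI := hU.isLocalization_stalk ⟨x, hxU⟩
  let q := (hU.primeIdealOf ⟨x, hxU⟩).asIdeal
  let al := algebraMap Γ(X, U) (X.presheaf.stalk x)
  obtain ⟨⟨b₁, s₁⟩, hb₁⟩ := IsLocalization.surj q.primeCompl r₁
  obtain ⟨⟨b₂, s₂⟩, hb₂⟩ := IsLocalization.surj q.primeCompl r₂
  have hu₁ : IsUnit (al s₁) := IsLocalization.map_units _ s₁
  have hu₂ : IsUnit (al s₂) := IsLocalization.map_units _ s₂
  have hw := hreg.toIsWeaklyRegular
  have hreg₁ : IsSMulRegular _ r₁ := ((RingTheory.Sequence.isWeaklyRegular_cons_iff _ _ _).1 hw).1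
  have hspan : ∀ y, al b₂ * y ∈ Ideal.span {al b₁} → y ∈ Ideal.span {al b₁} := fun y hy => by
    rw [Ideal.mem_span_singleton] at hy ⊢
    rw [show al b₁ = r₁ * al s₁ from hb₁.symm, hu₁.mul_right_dvd] at hy ⊢
    rw [show al b₂ = r₂ * al s₂ from hb₂.symm, mul_assoc] at hy
    exact (hu₂.dvd_mul_left).1 (FlatMor12.RegularExtend.dvd_of_dvd_mul_of_isWeaklyRegular hw hy)
  -- the two colon ideals
  let K₁ : Ideal Γ(X, U) := Submodule.colon (⊥ : Ideal Γ(X, U)) {b₁}
  let K₂ : Ideal Γ(X, U) := Submodule.colon (Ideal.span {b₁}) {b₂}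
  have kill : ∀ (K J : Ideal Γ(X, U)), (∀ z ∈ K, ∃ t ∈ q.primeCompl, t * z ∈ J) →
      ∃ t ∈ q.primeCompl, ∀ z ∈ K, t * z ∈ J := by
    classical
    intro K J hK
    obtain ⟨S, hS⟩ := IsNoetherian.noetherian K
    choose t ht htz using fun z : S => hK z (hS ▸ Submodule.subset_span z.2)
    refine ⟨∏ z, t z, prod_mem fun z _ => ht z, fun z hz => ?_⟩
    rw [← hS] at hz
    induction hz using Submodule.span_induction with
    | mem z hz =>
      rw [← Finset.prod_erase_mul Finset.univ t (Finset.mem_univ (⟨z, hz⟩ : S)), mul_assoc]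
      exact Ideal.mul_mem_left _ _ (htz ⟨z, hz⟩)
    | zero => simp
    | add a b _ _ ha hb => rw [mul_add]; exact add_mem ha hb
    | smul r a _ ha => rw [smul_eq_mul, mul_left_comm]; exact Ideal.mul_mem_left _ _ ha
  obtain ⟨c₁, hc₁, hK₁⟩ := kill K₁ ⊥ fun z hz => by
    have hz' : z * b₁ = 0 := by simpa [K₁, Submodule.mem_colon_singleton] using hz
    have h0 : r₁ * (al s₁ * al z) = 0 := by
      rw [← mul_assoc, show r₁ * al s₁ = al b₁ from hb₁, ← map_mul, mul_comm, hz', map_zero]
    have h1 : al s₁ * al z = 0 := hreg₁ (by simpa [smul_eq_mul] using h0)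
    obtain ⟨d, hd⟩ := (IsLocalization.map_eq_zero_iff q.primeCompl (X.presheaf.stalk x) z).1 (hu₁.mul_right_eq_zero.1 h1)
    exact ⟨d, d.2, by simpa using hd⟩
  obtain ⟨c₂, hc₂, hK₂⟩ := kill K₂ (Ideal.span {b₁}) fun z hz => by
    have hz' : z * b₂ ∈ Ideal.span {b₁} := by simpa [K₂, Submodule.mem_colon_singleton] using hz
    have h0 : al b₂ * al z ∈ Ideal.span {al b₁} := by
      rw [← map_mul, mul_comm]
      have := Ideal.mem_map_of_mem al hz'
      rwa [Ideal.map_span, Set.image_singleton] at this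
    have h1 := hspan _ h0
    rw [← Set.image_singleton, ← Ideal.map_span, IsLocalization.algebraMap_mem_map_algebraMap_iff q.primeCompl] at h1
    obtain ⟨m, hm, hmz⟩ := h1
    exact ⟨m, hm, hmz⟩
  let c := c₁ * c₂
  have hxc : x ∈ X.basicOpen c := (AssSch12.notMem_primeAt_iff hU hxU c).1 (mul_mem hc₁ hc₂ :)
  have hnot : ∀ b : Γ(X, U), ¬ IsUnit (al b) → x ∉ X.basicOpen b := fun b hb hxb =>
    hb ((X.mem_basicOpen _ _ hxU).1 hxb)
  refine ⟨X.basicOpen c, hU.basicOpen c, hxc, res (X.basicOpen_le c) b₁, res (X.basicOpen_le c) b₂,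
    fun h => ?_, fun h => ?_, fun y hy => ?_⟩
  · rw [Scheme.basicOpen_res] at h
    refine hnot b₁ (fun hb => hmem r₁ (by simp) ?_) h.2
    rw [show al b₁ = r₁ * al s₁ from hb₁.symm] at hb
    exact isUnit_of_mul_isUnit_left hb
  · rw [Scheme.basicOpen_res] at h
    refine hnot b₂ (fun hb => hmem r₂ (by simp) ?_) h.2
    rw [show al b₂ = r₂ * al s₂ from hb₂.symm] at hb
    exact isUnit_of_mul_isUnit_left hb
  · have hyU := X.basicOpen_le c hy
    rw [show X.presheaf.germ _ y hy (res (X.basicOpen_le c) b₁) = X.presheaf.germ U y hyU b₁ from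
        TopCat.Presheaf.germ_res_apply _ _ _ _ _,
      show X.presheaf.germ _ y hy (res (X.basicOpen_le c) b₂) = X.presheaf.germ U y hyU b₂ from
        TopCat.Presheaf.germ_res_apply _ _ _ _ _]
    letI := X.presheaf.algebra_section_stalk (⟨y, hyU⟩ : U)
    haveI := hU.isLocalization_stalk ⟨y, hyU⟩
    let P := (hU.primeIdealOf ⟨y, hyU⟩).asIdeal
    let aly := algebraMap Γ(X, U) (X.presheaf.stalk y)
    have hcu : IsUnit (aly c) := (X.mem_basicOpen _ _ hyU).1 hy
    have hcu₁ : IsUnit (aly c₁) := isUnit_of_mul_isUnit_left (show IsUnit (aly c₁ * aly c₂) by rwa [← map_mul])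
    have hcu₂ : IsUnit (aly c₂) := isUnit_of_mul_isUnit_right (show IsUnit (aly c₁ * aly c₂) by rwa [← map_mul])
    show IsSMulRegular _ (aly b₁) ∧ ∀ w, aly b₁ ∣ aly b₂ * w → aly b₁ ∣ w
    refine ⟨isSMulRegular_iff_right_eq_zero_of_smul.2 fun w hw => ?_, fun w hw => ?_⟩
    · obtain ⟨⟨z, t⟩, hz⟩ := IsLocalization.surj P.primeCompl w
      have h0 : aly (b₁ * z) = 0 := by
        rw [map_mul, show aly z = w * aly t from hz.symm, ← mul_assoc, ← smul_eq_mul _ w, hw, zero_mul]
      obtain ⟨d, hd⟩ := (IsLocalization.map_eq_zero_iff P.primeCompl _ _).1 h0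
      have hk : c₁ * ((d : Γ(X, U)) * z) = 0 := by
        have := hK₁ ((d : Γ(X, U)) * z) (by
          simp only [K₁, Submodule.mem_colon_singleton, smul_eq_mul, Ideal.mem_bot]
          rw [← hd]; ring)
        simpa using this
      have h2 := congrArg aly hk
      rw [map_mul, map_mul, map_zero, hcu₁.mul_right_eq_zero,
        (IsLocalization.map_units (X.presheaf.stalk y) d).mul_right_eq_zero,
        show aly z = w * aly t from hz.symm] at h2
      exact (IsLocalization.map_units (X.presheaf.stalk y) t).mul_left_eq_zero.1 h2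
    · obtain ⟨e, he⟩ := hw
      obtain ⟨⟨z, t⟩, hz⟩ := IsLocalization.surj P.primeCompl w
      obtain ⟨⟨g, s⟩, hg⟩ := IsLocalization.surj P.primeCompl e
      have hz' : aly z = w * aly t := hz.symm
      have hg' : aly g = e * aly s := hg.symm
      have h0 : aly (b₂ * z * s) = aly (b₁ * g * t) := by
        simp only [map_mul, hz', hg']
        linear_combination (aly t * aly s) * he
      obtain ⟨d, hd⟩ := (IsLocalization.eq_iff_exists P.primeCompl _).1 h0
      have hk := hK₂ ((d : Γ(X, U)) * z * s) (by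
        simp only [K₂, Submodule.mem_colon_singleton, smul_eq_mul, Ideal.mem_span_singleton]
        exact ⟨d * g * t, by linear_combination hd⟩)
      rw [Ideal.mem_span_singleton] at hk
      have h2 := map_dvd aly hk
      simp only [map_mul, hz'] at h2
      rw [hcu₂.dvd_mul_left, (IsLocalization.map_units (X.presheaf.stalk y) s).dvd_mul_right,
        (IsLocalization.map_units (X.presheaf.stalk y) d).dvd_mul_left,
        (IsLocalization.map_units (X.presheaf.stalk y) t).dvd_mul_right] at h2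
      exact h2

/-- Points of small codimension are weakly associated only when generic. -/
theorem isDenseOpen_of_dim_le_one (hX : Pi1.IsNormalScheme X) (U : X.Opens)
    (hU : ∀ x : X, ringKrullDim (X.presheaf.stalk x) ≤ 1 → x ∈ U) : ModPairLib.IsDenseOpen U := by
  refine SDiv28.isDenseOpen_of_weakAss_mem U fun x ⟨m, hm⟩ => hU x ?_
  haveI := (hX x).1
  have hm' : IsLocalRing.maximalIdeal (X.presheaf.stalk x) ≤ ⊥ := by
    rw [← hm]
    refine fun a ⟨n, hn⟩ => ?_
    change a ^ n • m = 0 at hn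
    have hmne : m ≠ 0 := fun h0 => (IsLocalRing.maximalIdeal.isMaximal (X.presheaf.stalk x)).ne_top <| by
      rw [← hm, h0, Ideal.radical_eq_top]
      exact eq_top_iff.2 fun b _ => by simp
    obtain ⟨b, rfl⟩ := (AssSch12.bijective_smul_unitOne (X := X) x).2 m
    have hn' : a ^ n * b = 0 := (AssSch12.bijective_smul_unitOne (X := X) x).1 (by
      simpa [mul_smul] using hn)
    have hpow : a ^ n = 0 := (mul_eq_zero.1 hn').resolve_right fun h0 => hmne (by simp [h0])
    exact Ideal.mem_bot.2 (eq_zero_of_pow_eq_zero hpow)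
  have hf : IsField (X.presheaf.stalk x) :=
    IsLocalRing.isField_iff_maximalIdeal_eq.2 (le_bot_iff.1 hm')
  rw [ringKrullDim_eq_zero_of_isField hf]
  exact zero_le_one

/-- A submodule of finite type of a quasi-coherent module is quasi-coherent. -/
theorem isQCoh_of_mono_of_isFT {F A : X.Modules} (φ : F ⟶ A) [Mono φ] (hA : Coh.IsQCoh A) (hF : CohB1.IsFT F) :
    Coh.IsQCoh F := by
  classical
  haveI := hA
  have hinj : ∀ (x : X), Function.Injective (RefHull.stalkMapₗ φ x) := TFPush7.stalkMap_injective_of_mono φ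
  have happ : ∀ V : X.Opens, Function.Injective (φ.app V) := fun V a b hab => by
    refine TopCat.Presheaf.section_ext ⟨F.presheaf, F.isSheaf⟩ V a b fun y hy => hinj y ?_
    rw [RefHull.stalkMapₗ_germ, RefHull.stalkMapₗ_germ, hab]
  choose U₀ I hI s hxU₀ hgen using locallyFinGen_of_isFT F hF
  have hex : ∀ x : X, ∃ V : X.Opens, IsAffineOpen V ∧ x ∈ V ∧ V ≤ U₀ x := fun x => by
    obtain ⟨_, ⟨V, hV, rfl⟩, hxV, hVU⟩ :=
      X.isBasis_affineOpens.exists_subset_of_mem_open (hxU₀ x) (U₀ x).isOpen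
    exact ⟨V, hV, hxV, hVU⟩
  choose V hV hxV hVU using hex
  refine isQCoh_of_localizesOn F V hV (fun x => ⟨x, hxV x⟩) fun x => ?_
  have g := (hgen x).res (hVU x)
  have hA' := localizesOn_of_isQCoh A (hV x)
  have hzero : ∀ (f : Γ(X, V x)) (t : Γ(F, V x)), resM F (X.basicOpen_le f) t = 0 → ∃ n : ℕ, f ^ n • t = 0 := by
    intro f t ht
    obtain ⟨n, hn⟩ := hA'.exists_pow_smul_eq_zero f (φ.app (V x) t) (by
      rw [← app_resM, ht, map_zero])
    exact ⟨n, happ _ (by rw [Scheme.Modules.Hom.app_smul, hn, map_zero])⟩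
  refine ⟨fun f t => ?_, hzero⟩
  obtain ⟨n, a, ha⟩ := hA'.exists_pow_smul f (φ.app _ t)
  let P : Submodule Γ(X, V x) Γ(A, V x) :=
    Submodule.span _ (Set.range fun i => φ.app (V x) (resM F (hVU x) (s x i)))
  let J : Ideal Γ(X, V x) := Submodule.colon P {a}
  have hJ : f ∈ J.radical := by
    rw [Ideal.radical_eq_sInf, Submodule.mem_sInf]
    rintro p ⟨hJp, hp⟩
    by_contra hfp
    let y : X := (hV x).fromSpec.base ⟨p, hp⟩
    have hyV : y ∈ V x := by
      show y ∈ (V x : Set X)
      rw [← (hV x).range_fromSpec]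
      exact Set.mem_range_self _
    have hyp : (hV x).primeIdealOf ⟨y, hyV⟩ = ⟨p, hp⟩ :=
      (hV x).fromSpec.isOpenEmbedding.injective ((hV x).fromSpec_primeIdealOf ⟨y, hyV⟩)
    have hyf : y ∈ X.basicOpen f := (AssSch12.notMem_primeAt_iff (hV x) hyV f).1 (by
      show f ∉ ((hV x).primeIdealOf ⟨y, hyV⟩).asIdeal
      rw [hyp]; exact hfp)
    obtain ⟨W, hW, hyW, co, hco⟩ := g (X.basicOpen f) (X.basicOpen_le f) t y hyf
    letI := X.presheaf.algebra_section_stalk (⟨y, hyV⟩ : V x)
    haveI := (hV x).isLocalization_stalk ⟨y, hyV⟩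
    letI : Module Γ(X, V x) (A.presheaf.stalk y) :=
      Module.compHom _ (algebraMap Γ(X, V x) (X.presheaf.stalk y))
    let gm : Γ(A, V x) →ₗ[Γ(X, V x)] A.presheaf.stalk y :=
      { toFun := fun m => A.presheaf.germ (V x) y hyV m
        map_add' := fun a b => map_add _ _ _
        map_smul' := fun r m => QCohLoc.germ_smul' A hyV r m }
    haveI : IsLocalizedModule ((hV x).primeIdealOf ⟨y, hyV⟩).asIdeal.primeCompl gm :=
      EGA43.QcohFP.isLocalizedModule_germ A (hV x) hyV gm fun _ => rfl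
    have hga : gm a = algebraMap Γ(X, V x) (X.presheaf.stalk y) (f ^ n) •
        RefHull.stalkMapₗ φ y (F.presheaf.germ _ y hyf t) := by
      show A.presheaf.germ (V x) y hyV a = _
      rw [RefHull.stalkMapₗ_germ, ← TopCat.Presheaf.germ_res_apply A.presheaf (homOfLE (X.basicOpen_le f)) y hyf a]
      refine (congrArg _ ha).trans ((QCohLoc.germ_smul' A hyf _ _).trans ?_)
      congr 1
      exact TopCat.Presheaf.germ_res_apply X.presheaf _ _ _ _
    have hgt : F.presheaf.germ _ y hyf t ∈ Submodule.span (X.presheaf.stalk y)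
        (Set.range fun i => F.presheaf.germ (V x) y hyV (resM F (hVU x) (s x i))) := by
      rw [← TopCat.Presheaf.germ_res_apply F.presheaf (homOfLE hW) y hyW t]
      rw [show F.presheaf.map (homOfLE hW).op t = _ from hco, map_sum]
      refine Submodule.sum_mem _ fun i _ => ?_
      rw [QCohLoc.germ_smul' F hyW]
      refine Submodule.smul_mem _ _ (Submodule.subset_span ⟨i, ?_⟩)
      exact (TopCat.Presheaf.germ_res_apply F.presheaf _ _ _ _).symm
    have hmem : gm a ∈ Submodule.span (X.presheaf.stalk y) (gm '' (P : Set _)) := by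
      rw [hga]
      refine Submodule.smul_mem _ _ ?_
      have h1 := Submodule.mem_map_of_mem (f := RefHull.stalkMapₗ φ y) hgt
      rw [Submodule.map_span] at h1
      refine Submodule.span_mono ?_ h1
      rintro _ ⟨_, ⟨i, rfl⟩, rfl⟩
      exact ⟨_, Submodule.subset_span ⟨i, rfl⟩, (RefHull.stalkMapₗ_germ φ y hyV _).symm⟩
    have hex : ∀ v ∈ Submodule.span (X.presheaf.stalk y) (gm '' (P : Set _)),
        ∃ d : ((hV x).primeIdealOf ⟨y, hyV⟩).asIdeal.primeCompl, ∃ m ∈ P, (d : Γ(X, V x)) • v = gm m := by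
      intro v hv
      induction hv using Submodule.span_induction with
      | mem v hv => obtain ⟨m, hm, rfl⟩ := hv; exact ⟨1, m, hm, one_smul _ _⟩
      | zero => exact ⟨1, 0, zero_mem _, by simp⟩
      | add v w _ _ ih ih' =>
        obtain ⟨d, m, hm, e⟩ := ih
        obtain ⟨d', m', hm', e'⟩ := ih'
        refine ⟨d * d', (d' : Γ(X, V x)) • m + (d : Γ(X, V x)) • m', add_mem (P.smul_mem _ hm) (P.smul_mem _ hm'), ?_⟩
        simp only [Submonoid.coe_mul, map_add, map_smul, ← e, ← e', smul_smul, smul_add]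
        rw [mul_comm (d' : Γ(X, V x))]
      | smul r v _ ih =>
        obtain ⟨d, m, hm, e⟩ := ih
        obtain ⟨⟨r', d'⟩, hr⟩ := IsLocalization.surj ((hV x).primeIdealOf ⟨y, hyV⟩).asIdeal.primeCompl r
        refine ⟨d * d', r' • m, P.smul_mem _ hm, ?_⟩
        rw [map_smul, ← e]
        show algebraMap Γ(X, V x) (X.presheaf.stalk y) (d * d' : _) • (r • v) =
          algebraMap Γ(X, V x) (X.presheaf.stalk y) r' • (algebraMap Γ(X, V x) (X.presheaf.stalk y) d • v)
        rw [smul_smul, smul_smul, Submonoid.coe_mul, map_mul, show algebraMap Γ(X, V x) (X.presheaf.stalk y) r' = _ from hr.symm]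
        congr 1
        ring
    obtain ⟨d, m, hm, e⟩ := hex _ hmem
    rw [← map_smul] at e
    obtain ⟨d', hd'⟩ := IsLocalizedModule.exists_of_eq (S := ((hV x).primeIdealOf ⟨y, hyV⟩).asIdeal.primeCompl) e
    have hin : (d' : Γ(X, V x)) * (d : Γ(X, V x)) ∈ J := by
      simp only [J, Submodule.mem_colon_singleton]
      rw [mul_smul]
      rw [show (d' : Γ(X, V x)) • ((d : Γ(X, V x)) • a) = (d' : Γ(X, V x)) • m from hd']
      exact P.smul_mem _ hm
    have hle : p ≤ ((hV x).primeIdealOf ⟨y, hyV⟩).asIdeal := (congrArg PrimeSpectrum.asIdeal hyp).ge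
    exact (d' * d).2 (hle (hJp hin))
  obtain ⟨k, hk⟩ := hJ
  simp only [J, Submodule.mem_colon_singleton] at hk
  obtain ⟨co, hco⟩ := (Submodule.mem_span_range_iff_exists_fun _).1 hk
  refine ⟨k + n, ∑ i, co i • resM F (hVU x) (s x i), happ _ ?_⟩
  rw [app_resM, map_sum]
  simp only [Scheme.Modules.Hom.app_smul]
  rw [hco, resM_smul, ha, smul_smul, pow_add, map_mul]

end Groth.Agent.RefHullLib.NormalHartogs26
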