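import Groth.Agent.RefHullLib.Extend
import Groth.Agent.RefHullLib.RankOne
import Groth.Agent.LatticeLib24.Dist
import Groth.Prelude.Def_C1
import Mathlib

/-!
# Orders of rational sections at points of codimension one
-/

set_option autoImplicit false
set_option backward.isDefEq.respectTransparency.types false
universe u

open CategoryTheory AlgebraicGeometry IsLocalRing

namespace Groth.Agent.RefHullLib

section Algebra

/-- The order of vanishing is invariant under ring isomorphisms. -/
theorem ringOrd_ringEquiv {R S : Type u} [CommRing R] [CommRing S] (e : R ≃+* S) (a : R) :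
    Ring.ord S (e a) = Ring.ord R a := by
  letI := e.toRingHom.toAlgebra
  have hs : Function.Surjective (algebraMap R S) := e.surjective
  rw [Ring.ord, Ring.ord, ← Module.length_eq_of_surjective (S := R) (R := S) (M := S ⧸ Ideal.span {e a}) hs]
  let eA : R ≃ₐ[R] S := AlgEquiv.ofRingEquiv (f := e) fun _ => rfl
  exact (Ideal.quotientEquivAlg (Ideal.span {a}) (Ideal.span {e a}) eA (by
    rw [Ideal.map_span, Set.image_singleton]; rfl)).toLinearEquiv.length_eq.symm

end Algebra

variable {X : Scheme.{u}} [IsIntegral X] [IsLocallyNoetherian X]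

theorem ringKrullDim_eq_one_iff_coheight (x : X) :
    ringKrullDim (X.presheaf.stalk x) = 1 ↔ Order.coheight x = 1 := by
  rw [ringKrullDim_stalk_eq_coheight]
  exact WithBot.coe_eq_one

theorem residue_genericPoint_bijective : Function.Bijective (X.residue (genericPoint X)).hom :=
  ⟨(RingHom.injective_iff_ker_eq_bot _).2 (by
    show RingHom.ker (IsLocalRing.residue (X.presheaf.stalk (genericPoint X))) = ⊥
    rw [IsLocalRing.ker_residue]
    exact IsLocalRing.isField_iff_maximalIdeal_eq.1 isField_stalk_genericPoint),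
    IsLocalRing.residue_surjective⟩

variable (h : ∀ x : X, genericPoint X ⤳ x)

theorem ker_specMap_eq_bot (x : X) : RingHom.ker (Cyc.specMap x (genericPoint X) (h x)) = ⊥ := by
  rw [← RingHom.injective_iff_ker_eq_bot]
  exact residue_genericPoint_bijective.1.comp (toGenRing_injective x)

/-- The local ring seen inside the quotient by the prime of the generic point. -/
noncomputable def locQuotEquiv (x : X) : X.presheaf.stalk x ≃+* Cyc.LocQuot x (genericPoint X) (h x) :=
  (RingEquiv.quotientBot (X.presheaf.stalk x)).symm.trans (Ideal.quotEquivOfEq (ker_specMap_eq_bot h x).symm)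

theorem algebraMap_locQuotEquiv (x : X) (a : X.presheaf.stalk x) :
    algebraMap (Cyc.LocQuot x (genericPoint X) (h x)) (X.residueField (genericPoint X)) (locQuotEquiv h x a) =
      X.residue (genericPoint X) (toGenRing x a) := rfl

/-- The order along a point of codimension one is Mathlib's order of vanishing. -/
theorem ordAt_residue {x : X} (hx : Order.coheight x = 1) (φ : X.functionField) :
    Cyc.ordAt x (genericPoint X) (h x) (X.residue (genericPoint X) φ) = Scheme.ord φ x := by
  let e := locQuotEquiv h x
  haveI : Ring.KrullDimLE 1 (X.presheaf.stalk x) := krullDimLE_of_coheight_le hx.le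
  haveI : IsDomain (Cyc.LocQuot x (genericPoint X) (h x)) := e.symm.injective.isDomain e.symm.toRingHom
  haveI : IsNoetherianRing (Cyc.LocQuot x (genericPoint X) (h x)) :=
    isNoetherianRing_of_surjective _ _ e.toRingHom e.surjective
  haveI : Ring.KrullDimLE 1 (Cyc.LocQuot x (genericPoint X) (h x)) :=
    Ring.krullDimLE_iff.2 ((ringKrullDim_eq_of_ringEquiv e).symm.trans_le (Ring.krullDimLE_iff.1 inferInstance))
  have hdiv : ∀ z : X.functionField, ∃ a b : X.presheaf.stalk x,
      b ≠ 0 ∧ z = algebraMap (X.presheaf.stalk x) X.functionField a / algebraMap _ _ b := fun z => by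
    obtain ⟨a, b, hb, rfl⟩ := IsFractionRing.div_surjective (X.presheaf.stalk x) z
    exact ⟨a, b, nonZeroDivisors.ne_zero hb, rfl⟩
  let ρ : X.functionField ≃+* X.residueField (genericPoint X) :=
    RingEquiv.ofBijective (X.residue (genericPoint X)).hom residue_genericPoint_bijective
  have hρ : ∀ a, ρ (algebraMap (X.presheaf.stalk x) X.functionField a) =
      algebraMap (Cyc.LocQuot x (genericPoint X) (h x)) _ (e a) := fun a => rfl
  haveI : FaithfulSMul (Cyc.LocQuot x (genericPoint X) (h x)) (X.residueField (genericPoint X)) := by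
    rw [faithfulSMul_iff_algebraMap_injective, injective_iff_map_eq_zero]
    intro b hb
    obtain ⟨a, rfl⟩ := e.surjective b
    rw [← hρ, map_eq_zero, map_eq_zero_iff _ (IsFractionRing.injective (X.presheaf.stalk x) X.functionField)] at hb
    rw [hb, map_zero]
  haveI : IsFractionRing (Cyc.LocQuot x (genericPoint X) (h x)) (X.residueField (genericPoint X)) :=
    IsFractionRing.of_field _ _ fun z => by
      obtain ⟨a, b, hb, hz⟩ := hdiv (ρ.symm z)
      refine ⟨e a, e b, ?_⟩
      rw [← hρ, ← hρ, ← map_div₀, ← hz, RingEquiv.apply_symm_apply]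
  show Cyc.ordAt x (genericPoint X) (h x) (ρ φ) = _
  rcases eq_or_ne φ 0 with rfl | hφ
  · rw [map_zero, Scheme.ord_zero, Pi.zero_apply, Cyc.ordAt, CycAlg.ordFrac,
      dif_pos ⟨inferInstance, inferInstance, inferInstance, inferInstance⟩, map_zero]
    rfl
  have key : ∀ a : X.presheaf.stalk x, a ≠ 0 →
      CycAlg.ordFrac (Cyc.LocQuot x (genericPoint X) (h x)) _ (ρ (algebraMap _ X.functionField a)) =
        Scheme.ord (algebraMap (X.presheaf.stalk x) X.functionField a) x := by
    intro a ha
    have ha' : algebraMap (X.presheaf.stalk x) X.functionField a ≠ 0 :=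
      (map_ne_zero_iff _ (IsFractionRing.injective _ _)).2 ha
    rw [hρ, LatticeLib24.ordFrac_algebraMap _ _ ((map_ne_zero_iff _ e.injective).2 ha), ringOrd_ringEquiv,
      eq_comm, Scheme.ord_eq_iff hx ha']
    obtain ⟨m, hm⟩ := ENat.ne_top_iff_exists.mp (Ring.ord_ne_top (mem_nonZeroDivisors_of_ne_zero ha))
    show Ring.ordFrac (X.presheaf.stalk x) (algebraMap (X.presheaf.stalk x) X.functionField a) = _
    rw [Ring.ordFrac_eq_ord _ ha,
      Ring.ordMonoidWithZeroHom_eq_coe _ (mem_nonZeroDivisors_of_ne_zero ha) hm.symm, ← hm, ENat.toNat_natCast]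
  obtain ⟨a, b, hb, rfl⟩ := hdiv φ
  have hb' : algebraMap (X.presheaf.stalk x) X.functionField b ≠ 0 :=
    (map_ne_zero_iff _ (IsFractionRing.injective _ _)).2 hb
  have h1 := Scheme.ord_mul (x := x) hφ hb'
  have h2 := LatticeLib24.ordFrac_mul (Cyc.LocQuot x (genericPoint X) (h x)) (X.residueField (genericPoint X))
    ((map_ne_zero ρ).2 hφ) ((map_ne_zero ρ).2 hb')
  rw [← map_mul, div_mul_cancel₀ _ hb'] at h2
  rw [div_mul_cancel₀ _ hb'] at h1
  have ha : a ≠ 0 := fun e0 => hφ (by rw [e0, map_zero, zero_div])
  rw [key a ha, key b hb] at h2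
  rw [Cyc.ordAt]
  omega

theorem maximalIdeal_smul_genericPoint (F : X.Modules) :
    (maximalIdeal (X.presheaf.stalk (genericPoint X)) •
      (⊤ : Submodule (X.presheaf.stalk (genericPoint X)) (F.presheaf.stalk (genericPoint X)))) = ⊥ := by
  rw [IsLocalRing.isField_iff_maximalIdeal_eq.1 isField_stalk_genericPoint]
  exact Submodule.bot_smul _

/-- The fibre at the generic point is the generic stalk. -/
theorem fibreMk_bijective (F : X.Modules) :
    Function.Bijective (Submodule.Quotient.mk : F.presheaf.stalk (genericPoint X) → Cyc.secFibre F (genericPoint X)) :=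
  ⟨fun a b hab => by
    rw [Submodule.Quotient.eq, maximalIdeal_smul_genericPoint, Submodule.mem_bot, sub_eq_zero] at hab
    exact hab, Submodule.Quotient.mk_surjective _⟩

omit [IsLocallyNoetherian X] in
/-- A generator of a stalk generates the generic stalk. -/
theorem bijective_smul_toGen {F : X.Modules} (hF : Coh.IsQCoh F) {x : X} {t : F.presheaf.stalk x}
    (ht : Function.Bijective fun a : X.presheaf.stalk x => a • t) :
    Function.Bijective fun φ : X.functionField => (show X.presheaf.stalk (genericPoint X) from φ) • toGen F x t := by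
  let e : X.presheaf.stalk x ≃ₗ[X.presheaf.stalk x] F.presheaf.stalk x :=
    LinearEquiv.ofBijective (LinearMap.toSpanSingleton _ _ t) ht
  haveI : Module.Free (X.presheaf.stalk x) (F.presheaf.stalk x) := Module.Free.of_equiv e
  have hinj := toGen_injective F hF x inferInstance
  constructor
  · intro φ ψ hφψ
    obtain ⟨a, b, hb, he⟩ := IsFractionRing.div_surjective (X.presheaf.stalk x) (φ - ψ)
    have h0 : (show X.presheaf.stalk (genericPoint X) from φ - ψ) • toGen F x t = 0 := by
      show ((show X.presheaf.stalk (genericPoint X) from φ) - (show X.presheaf.stalk (genericPoint X) from ψ)) • _ = 0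
      rw [sub_smul]; exact sub_eq_zero.2 hφψ
    have h1 : toGen F x (a • t) = 0 := by
      rw [toGen_smul]
      have hab : algebraMap (X.presheaf.stalk x) X.functionField a =
          algebraMap (X.presheaf.stalk x) X.functionField b * (φ - ψ) := by
        rw [← he, mul_div_cancel₀ _ (IsFractionRing.to_map_ne_zero_of_mem_nonZeroDivisors hb)]
      show (show X.presheaf.stalk (genericPoint X) from algebraMap (X.presheaf.stalk x) X.functionField a) • _ = 0
      rw [hab]
      exact (mul_smul (show X.presheaf.stalk (genericPoint X) from algebraMap (X.presheaf.stalk x) X.functionField b) (show X.presheaf.stalk (genericPoint X) from φ - ψ) (toGen F x t)).trans (by rw [h0, smul_zero])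
    have h2 : a = 0 := ht.1 (by
      dsimp only
      rw [zero_smul]
      exact hinj (h1.trans (map_zero _).symm))
    rw [h2, map_zero, zero_div] at he
    exact sub_eq_zero.1 he.symm
  · intro v
    obtain ⟨c, m, hc, hcm⟩ := exists_smul_toGen_eq F hF (genericPoint_specializes x) v
    have hgen : toGen F (genericPoint X) v = v := by
      obtain ⟨U, hU, n, rfl⟩ := F.presheaf.exists_germ_eq v
      exact toGen_germ F hU n
    rw [hgen] at hcm
    obtain ⟨a, ha⟩ := ht.2 m
    dsimp only at ha
    rw [← ha, toGen_smul] at hcm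
    obtain ⟨w, hw⟩ := hc
    refine ⟨(↑w⁻¹ : X.presheaf.stalk (genericPoint X)) * toGenRing x a, ?_⟩
    show ((↑w⁻¹ : X.presheaf.stalk (genericPoint X)) * toGenRing x a) • toGen F x t = v
    rw [mul_smul, ← hcm, ← mul_smul]
    show (↑w⁻¹ * (X.presheaf.stalkSpecializes (genericPoint_specializes x)).hom c) • v = v
    rw [← hw, Units.inv_mul, one_smul]

/-- The order of a rational section computed with any generator of the stalk. -/
theorem secOrdAt_eq {F : X.Modules} (hF : Coh.IsQCoh F) {x : X} (hx : Order.coheight x = 1)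
    {t : F.presheaf.stalk x} (ht : Function.Bijective fun a : X.presheaf.stalk x => a • t)
    (φ : X.functionField) (s : Cyc.secFibre F (genericPoint X))
    (hs : s = Submodule.Quotient.mk ((show X.presheaf.stalk (genericPoint X) from φ) • toGen F x t)) :
    Cyc.secOrdAt F (genericPoint X) x (h x) s = Scheme.ord φ x := by
  have hspan : Submodule.span (X.presheaf.stalk x) {t} = ⊤ :=
    eq_top_iff.2 fun v _ => by
      obtain ⟨a, rfl⟩ := ht.2 v
      exact Submodule.mem_span_singleton.2 ⟨a, rfl⟩
  have hex : ∃ t' : F.presheaf.stalk x, Submodule.span (X.presheaf.stalk x) {t'} = ⊤ := ⟨t, hspan⟩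
  set t' := hex.choose with ht'def
  have ht' : Submodule.span (X.presheaf.stalk x) {t'} = ⊤ := hex.choose_spec
  obtain ⟨a, ha⟩ := ht.2 t'
  obtain ⟨b, hb⟩ := Submodule.mem_span_singleton.1 (ht'.symm ▸ Submodule.mem_top : t ∈ Submodule.span _ {t'})
  dsimp only at ha
  have hab : b * a = 1 := ht.1 (by
    dsimp only
    rw [mul_smul, ha, hb, one_smul])
  have hφ' : s = (toGenRing x b * (show X.presheaf.stalk (genericPoint X) from φ)) •
      (Submodule.Quotient.mk (toGen F x t') : Cyc.secFibre F (genericPoint X)) := by
    rw [hs, ← Submodule.Quotient.mk_smul, ← ha, toGen_smul, ← mul_smul]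
    congr 2
    rw [mul_comm (toGenRing x b), mul_assoc, ← map_mul, hab, map_one, mul_one]
  have hex2 : ∃ ψ : X.presheaf.stalk (genericPoint X), s = ψ •
      (Submodule.Quotient.mk (toGen F x t') : Cyc.secFibre F (genericPoint X)) := ⟨_, hφ'⟩
  rw [Cyc.secOrdAt, dif_pos hex]
  refine (dif_pos hex2).trans ?_
  set ψ := hex2.choose
  have hψ : s = ψ • (Submodule.Quotient.mk (toGen F x t') : Cyc.secFibre F (genericPoint X)) := hex2.choose_spec
  have e1 : (toGenRing x b * (show X.presheaf.stalk (genericPoint X) from φ)) • toGen F x t' = ψ • toGen F x t' :=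
    (fibreMk_bijective F).1 (hφ'.symm.trans hψ)
  have e2 : ψ = toGenRing x b * (show X.presheaf.stalk (genericPoint X) from φ) := by
    refine ((bijective_smul_toGen hF (t := t') ?_).1 e1).symm
    have hau : IsUnit a := .of_mul_eq_one b ((mul_comm a b).trans hab)
    rw [← ha]
    simpa only [Function.comp_def, mul_smul, hau.unit_spec] using ht.comp (hau.unit.mulRight_bijective)
  show Cyc.ordAt x (genericPoint X) (h x) (X.residue (genericPoint X) ψ) = _
  rw [e2]
  refine (ordAt_residue h hx _).trans ?_
  show Scheme.ord ((algebraMap (X.presheaf.stalk x) X.functionField b) * φ) x = _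
  rcases eq_or_ne φ 0 with rfl | hφ
  · rw [mul_zero]
  have hbu : IsUnit b := .of_mul_eq_one a hab
  have hb0 : algebraMap (X.presheaf.stalk x) X.functionField b ≠ 0 := (hbu.map _).ne_zero
  rw [Scheme.ord_mul hb0 hφ]
  suffices Scheme.ord (algebraMap (X.presheaf.stalk x) X.functionField b) x = 0 by omega
  haveI : Ring.KrullDimLE 1 (X.presheaf.stalk x) := krullDimLE_of_coheight_le hx.le
  rw [Scheme.ord_eq_iff hx hb0]
  exact Ring.ordFrac_of_isUnit hbu

end Groth.Agent.RefHullLib
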